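import Groth.Agent.H16Derived.KFlat.RestrictD
import Groth.Agent.H16Derived.KFlat.FlatCover
import Groth.Agent.H16Derived.KFlat.SheafTensor
import Groth.Prelude.Def_CxOX
import Mathlib.CategoryTheory.Adjunction.Triple
import Mathlib.Algebra.Homology.DerivedCategory.ShortExact

/-!
# The Mayer–Vietoris triangle of extensions by zero
-/

set_option autoImplicit false
set_option linter.style.haveILetI false

universe u

open CategoryTheory CategoryTheory.Limits CategoryTheory.Pretriangulated AlgebraicGeometry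

attribute [local instance] HasDerivedCategory.standard

namespace Groth.Agent.H16Derived.QCohD.MV

open Groth.Agent.H16Derived.KFlat.Stalk Groth.Agent.H06Mod

variable {X : Scheme.{u}}

/-- `M ↦ j_! (M|_W)`. -/
noncomputable abbrev E (W : X.Opens) : X.Modules ⥤ X.Modules :=
  Scheme.Modules.restrictFunctor W.ι ⋙ CxOX.extZero W.ι

/-- The counit `j_! (M|_W) ⟶ M`. -/
noncomputable abbrev ε (W : X.Opens) : E W ⟶ 𝟭 X.Modules := (CxOX.extZeroAdj W.ι).counit

instance : (Scheme.Modules.restrictFunctor (X := X) (Y := X) (𝟙 X)).Additive := inferInstance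

theorem isIso_extZero_unit (W : X.Opens) : IsIso (CxOX.extZeroAdj W.ι).unit :=
  ((Adjunction.Triple.mk (CxOX.extZeroAdj W.ι)
    (Scheme.Modules.restrictAdjunction W.ι)).isIso_unit_iff_isIso_counit).2 inferInstance

theorem isIso_restrict_ε (W : X.Opens) (M : X.Modules) :
    IsIso ((Scheme.Modules.restrictFunctor W.ι).map ((ε W).app M)) := by
  haveI := isIso_extZero_unit W
  exact IsIso.of_isIso_fac_left ((CxOX.extZeroAdj W.ι).right_triangle_components M)

/-- Stalks at points of `W` see only the restriction. -/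
theorem isIso_stalk_of_restrict (W : X.Opens) {M N : X.Modules} (φ : M ⟶ N)
    [IsIso ((Scheme.Modules.restrictFunctor W.ι).map φ)] (x : X) (hx : x ∈ W) :
    IsIso ((DerSch.stalkFunctor X x).map φ) := by
  have h1 : IsIso ((Scheme.Modules.restrictFunctor W.ι ⋙ Scheme.Modules.toPresheaf _ ⋙
      TopCat.Presheaf.stalkFunctor _ (⟨x, hx⟩ : W)).map φ) := by
    rw [Functor.comp_map]; infer_instance
  have h2 := (NatIso.isIso_map_iff (Scheme.Modules.restrictStalkNatIso W.ι (⟨x, hx⟩ : W)) φ).1 h1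
  haveI : IsIso ((DerSch.stalkFunctor X x ⋙
      forget₂ (ModuleCat.{u} (X.presheaf.stalk x)) AddCommGrpCat.{u}).map φ) :=
    (NatIso.isIso_map_iff (stalkAbIso x) φ).2 h2
  haveI : IsIso ((forget₂ (ModuleCat.{u} (X.presheaf.stalk x)) AddCommGrpCat.{u}).map
      ((DerSch.stalkFunctor X x).map φ)) := this
  exact isIso_of_reflects_iso _ (forget₂ (ModuleCat.{u} (X.presheaf.stalk x)) AddCommGrpCat.{u})

theorem isIso_stalk_ε (W : X.Opens) (M : X.Modules) (x : X) (hx : x ∈ W) :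
    IsIso ((DerSch.stalkFunctor X x).map ((ε W).app M)) :=
  haveI := isIso_restrict_ε W M
  isIso_stalk_of_restrict W _ x hx

theorem isZero_stalk_E (W : X.Opens) (M : X.Modules) (x : X) (hx : x ∉ W) :
    IsZero ((DerSch.stalkFunctor X x).obj ((E W).obj M)) := by
  let N := ((E W).obj M).presheaf.stalk x
  have h : ∀ (φ : (E W).obj M ⟶ sky x N), φ = 0 := fun φ => by
    apply ((CxOX.extZeroAdj W.ι).homEquiv _ _).injective
    refine Scheme.Modules.hom_ext _ _ fun V => AddCommGrpCat.hom_ext (AddMonoidHom.ext fun a => ?_)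
    refine skyEval_ext x N fun hV => (hx ?_).elim
    obtain ⟨y, -, rfl⟩ := hV
    exact y.2
  refine @ModuleCat.isZero_of_subsingleton _ _ _ ⟨fun a b => ?_⟩
  have h0 := h (homOfStalk (x := x) (N := N) (F := (E W).obj M) LinearMap.id)
  have key : ∀ c : N, c = stalkOfHom (0 : (E W).obj M ⟶ sky x N) c := fun c => by
    rw [← h0, stalkOfHom_homOfStalk]; rfl
  obtain ⟨U, hU, a', ha⟩ := ((E W).obj M).presheaf.exists_germ_eq a
  obtain ⟨V, hV, b', hb⟩ := ((E W).obj M).presheaf.exists_germ_eq b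
  refine (key a).trans (Eq.trans ?_ (key b).symm)
  rw [← ha, ← hb, stalkOfHom_germ, stalkOfHom_germ]
  rfl

theorem isIso_E_map_ε {W U : X.Opens} (h : W ≤ U) (M : X.Modules) :
    IsIso ((E W).map ((ε U).app M)) := by
  refine isIso_of_stalk _ fun x => ?_
  by_cases hx : x ∈ W
  · haveI := isIso_stalk_ε U M x (h hx)
    haveI := isIso_stalk_ε W M x hx
    haveI := isIso_stalk_ε W ((E U).obj M) x hx
    have e : (DerSch.stalkFunctor X x).map ((E W).map ((ε U).app M)) ≫
        (DerSch.stalkFunctor X x).map ((ε W).app M) =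
        (DerSch.stalkFunctor X x).map ((ε W).app ((E U).obj M)) ≫
        (DerSch.stalkFunctor X x).map ((ε U).app M) := by
      rw [← Functor.map_comp, ← Functor.map_comp]
      exact congrArg _ ((ε W).naturality ((ε U).app M))
    exact IsIso.of_isIso_fac_right e
  · exact isIso_of_source_target_iso_zero _ (isZero_stalk_E W _ x hx).isoZero
      (isZero_stalk_E W _ x hx).isoZero

/-- The transition `E W ⟶ E U`. -/
noncomputable def tr {W U : X.Opens} (h : W ≤ U) : E W ⟶ E U :=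
  haveI : ∀ M, IsIso ((Functor.whiskerRight (ε U) (E W)).app M) := fun M => isIso_E_map_ε h M
  haveI := NatIso.isIso_of_isIso_app (Functor.whiskerRight (ε U) (E W))
  (E W).leftUnitor.inv ≫ inv (Functor.whiskerRight (ε U) (E W)) ≫
    Functor.whiskerLeft (E U) (ε W) ≫ (E U).rightUnitor.hom

@[reassoc]
lemma tr_ε {W U : X.Opens} (h : W ≤ U) : tr h ≫ ε U = ε W := by
  haveI : ∀ M, IsIso ((Functor.whiskerRight (ε U) (E W)).app M) := fun M => isIso_E_map_ε h M
  haveI := NatIso.isIso_of_isIso_app (Functor.whiskerRight (ε U) (E W))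
  ext M : 2
  haveI := isIso_E_map_ε h M
  have e : (tr h).app M = inv ((E W).map ((ε U).app M)) ≫ (ε W).app ((E U).obj M) := by
    simp [tr]
  rw [NatTrans.comp_app, e, Category.assoc, IsIso.inv_comp_eq]
  exact ((ε W).naturality ((ε U).app M)).symm

lemma isIso_stalk_tr {W U : X.Opens} (h : W ≤ U) (M : X.Modules) (x : X) (hx : x ∈ W ∨ x ∉ U) :
    IsIso ((DerSch.stalkFunctor X x).map ((tr h).app M)) := by
  rcases hx with hx | hx
  · haveI := isIso_stalk_ε U M x (h hx)
    haveI := isIso_stalk_ε W M x hx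
    have e : (DerSch.stalkFunctor X x).map ((tr h).app M) ≫
        (DerSch.stalkFunctor X x).map ((ε U).app M) =
        (DerSch.stalkFunctor X x).map ((ε W).app M) := by
      rw [← Functor.map_comp, ← NatTrans.comp_app, tr_ε]
    exact IsIso.of_isIso_fac_right e
  · exact isIso_of_source_target_iso_zero _ (isZero_stalk_E W _ x fun h' => hx (h h')).isoZero
      (isZero_stalk_E U _ x hx).isoZero

variable (U V : X.Opens)

/-- `E` on complexes. -/
noncomputable abbrev EC (W : X.Opens) :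
    CochainComplex X.Modules ℤ ⥤ CochainComplex X.Modules ℤ :=
  (E W).mapHomologicalComplex (ComplexShape.up ℤ)

/-- The counit on complexes. -/
noncomputable def εC (W : X.Opens) (C : CochainComplex X.Modules ℤ) : (EC W).obj C ⟶ C where
  f i := (ε W).app (C.X i)
  comm' i j _ := ((ε W).naturality (C.d i j)).symm

/-- The transition on complexes. -/
noncomputable def trC {W U : X.Opens} (h : W ≤ U) (C : CochainComplex X.Modules ℤ) :
    (EC W).obj C ⟶ (EC U).obj C where
  f i := (tr h).app (C.X i)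
  comm' i j _ := ((tr h).naturality (C.d i j)).symm

lemma trC_εC {W U : X.Opens} (h : W ≤ U) (C : CochainComplex X.Modules ℤ) :
    trC h C ≫ εC U C = εC W C := by
  refine HomologicalComplex.hom_ext _ _ fun i => ?_
  exact congr_app (tr_ε h) (C.X i)

variable (C : CochainComplex X.Modules ℤ)

/-- The Mayer–Vietoris sequence. -/
noncomputable def seq : ShortComplex (CochainComplex X.Modules ℤ) :=
  ShortComplex.mk (biprod.lift (trC (inf_le_left : U ⊓ V ≤ U) C) (-trC (inf_le_right : U ⊓ V ≤ V) C))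
    (biprod.desc (εC U C) (εC V C)) (by
      rw [biprod.lift_desc, Preadditive.neg_comp, trC_εC, trC_εC, add_neg_cancel])

/-- It is short exact. -/
theorem shortExact_seq_of_supp (hsupp : ∀ q (x : X), x ∉ U → x ∉ V →
    IsZero ((DerSch.stalkFunctor X x).obj (C.X q))) : (seq U V C).ShortExact := by
  refine HomologicalComplex.shortExact_of_degreewise_shortExact _ fun q => (shortExact_iff _).2 fun x => ?_
  let F : CochainComplex X.Modules ℤ ⥤ ModuleCat.{u} (X.presheaf.stalk x) :=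
    HomologicalComplex.eval X.Modules (ComplexShape.up ℤ) q ⋙ DerSch.stalkFunctor X x
  let A : (EC (U ⊓ V)).obj C ⟶ (EC U).obj C := trC inf_le_left C
  let B : (EC (U ⊓ V)).obj C ⟶ (EC V).obj C := trC inf_le_right C
  let a : (EC U).obj C ⟶ C := εC U C
  let b : (EC V).obj C ⟶ C := εC V C
  suffices h : Nonempty ((seq U V C).map F).Splitting from h.some.shortExact
  by_cases hn : x ∉ U ∧ x ∉ V
  · have z₁ := isZero_stalk_E (U ⊓ V) (C.X q) x fun h => hn.1 h.1
    have z₂ : IsZero (F.obj ((EC U).obj C ⊞ (EC V).obj C)) := by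
      haveI := preservesBinaryBiproducts_of_preservesBiproducts F
      refine IsZero.of_iso ?_ (F.mapBiprod _ _)
      exact (biprod_isZero_iff _ _).2 ⟨isZero_stalk_E U (C.X q) x hn.1, isZero_stalk_E V (C.X q) x hn.2⟩
    have z₃ := hsupp q x hn.1 hn.2
    exact ⟨⟨0, 0, z₁.eq_of_src _ _, z₃.eq_of_src _ _, z₂.eq_of_src _ _⟩⟩
  have hx : x ∈ U ∨ x ∈ V := by tauto
  have hAB : F.map A ≫ F.map a = F.map B ≫ F.map b := by
    rw [← F.map_comp, ← F.map_comp, trC_εC, trC_εC]
  rcases hx with hx | hx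
  · haveI ha : IsIso (F.map a) := isIso_stalk_ε U (C.X q) x hx
    haveI hB : IsIso (F.map B) := isIso_stalk_tr inf_le_right (C.X q) x
      ((Classical.em (x ∈ V)).imp (fun h => ⟨hx, h⟩) id)
    have hab : inv (F.map B) ≫ F.map A = F.map b ≫ inv (F.map a) := by
      rw [IsIso.inv_comp_eq, ← Category.assoc, IsIso.eq_comp_inv, hAB]
    let r' : F.obj ((EC U).obj C ⊞ (EC V).obj C) ⟶ F.obj ((EC (U ⊓ V)).obj C) :=
      -(F.map biprod.snd ≫ inv (F.map B))
    let s' : F.obj C ⟶ F.obj ((EC U).obj C ⊞ (EC V).obj C) := inv (F.map a) ≫ F.map biprod.inl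
    refine ⟨⟨r', s', ?_, ?_, ?_⟩⟩
    · show F.map (biprod.lift A (-B)) ≫ (-(F.map biprod.snd ≫ inv (F.map B))) = 𝟙 _
      rw [Preadditive.comp_neg, ← Category.assoc, ← F.map_comp, biprod.lift_snd, F.map_neg,
        Preadditive.neg_comp, neg_neg, IsIso.hom_inv_id]
    · show (inv (F.map a) ≫ F.map biprod.inl) ≫ F.map (biprod.desc a b) = 𝟙 _
      rw [Category.assoc, ← F.map_comp, biprod.inl_desc, IsIso.inv_hom_id]
    · have key : (-(F.map biprod.snd ≫ inv (F.map B))) ≫ F.map (biprod.lift A (-B)) +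
          F.map (biprod.desc a b) ≫ inv (F.map a) ≫ F.map biprod.inl = F.map (biprod.fst ≫ biprod.inl + biprod.snd ≫ biprod.inr) := by
        rw [biprod.lift_eq, biprod.desc_eq]
        simp only [F.map_add, F.map_comp, F.map_neg, Preadditive.add_comp, Preadditive.comp_add,
          Preadditive.neg_comp, Preadditive.comp_neg, neg_neg, Category.assoc, IsIso.hom_inv_id_assoc,
          IsIso.inv_hom_id_assoc, reassoc_of% hab]
        abel
      exact key.trans ((congrArg F.map biprod.total).trans (F.map_id _))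
  · haveI hb : IsIso (F.map b) := isIso_stalk_ε V (C.X q) x hx
    haveI hA : IsIso (F.map A) := isIso_stalk_tr inf_le_left (C.X q) x
      ((Classical.em (x ∈ U)).imp (fun h => ⟨h, hx⟩) id)
    have hab : inv (F.map A) ≫ F.map B = F.map a ≫ inv (F.map b) := by
      rw [IsIso.inv_comp_eq, ← Category.assoc, IsIso.eq_comp_inv, hAB]
    let r' : F.obj ((EC U).obj C ⊞ (EC V).obj C) ⟶ F.obj ((EC (U ⊓ V)).obj C) :=
      F.map biprod.fst ≫ inv (F.map A)
    let s' : F.obj C ⟶ F.obj ((EC U).obj C ⊞ (EC V).obj C) := inv (F.map b) ≫ F.map biprod.inr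
    refine ⟨⟨r', s', ?_, ?_, ?_⟩⟩
    · show F.map (biprod.lift A (-B)) ≫ F.map biprod.fst ≫ inv (F.map A) = 𝟙 _
      rw [← Category.assoc, ← F.map_comp, biprod.lift_fst, IsIso.hom_inv_id]
    · show (inv (F.map b) ≫ F.map biprod.inr) ≫ F.map (biprod.desc a b) = 𝟙 _
      rw [Category.assoc, ← F.map_comp, biprod.inr_desc, IsIso.inv_hom_id]
    · have key : (F.map biprod.fst ≫ inv (F.map A)) ≫ F.map (biprod.lift A (-B)) +
          F.map (biprod.desc a b) ≫ inv (F.map b) ≫ F.map biprod.inr = F.map (biprod.fst ≫ biprod.inl + biprod.snd ≫ biprod.inr) := by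
        rw [biprod.lift_eq, biprod.desc_eq]
        simp only [F.map_add, F.map_comp, F.map_neg, Preadditive.add_comp, Preadditive.comp_add,
          Preadditive.neg_comp, Preadditive.comp_neg, neg_neg, Category.assoc, IsIso.hom_inv_id_assoc,
          IsIso.inv_hom_id_assoc, reassoc_of% hab]
        abel
      exact key.trans ((congrArg F.map biprod.total).trans (F.map_id _))

/-- It is short exact when the two opens cover. -/
theorem shortExact_seq (hUV : U ⊔ V = ⊤) : (seq U V C).ShortExact :=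
  shortExact_seq_of_supp U V C fun _ x h₁ h₂ =>
    absurd (hUV ▸ trivial : x ∈ U ⊔ V) (by rintro (h | h) <;> [exact h₁ h; exact h₂ h])

section Derived

variable {U V}

/-- `j_! (K|_W)` is computed termwise. -/
noncomputable def extZeroDIso (W : X.Opens) [PreservesFiniteLimits (CxOX.extZero W.ι)]
    (C : CochainComplex X.Modules ℤ) :
    (CxOX.extZeroD W.ι).obj ((DCoh.restrictD W.ι).obj (DerivedCategory.Q.obj C)) ≅
      DerivedCategory.Q.obj ((EC W).obj C) :=
  (CxOX.extZero W.ι).mapDerivedCategory.mapIso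
      ((Scheme.Modules.restrictFunctor W.ι).mapDerivedCategoryFactors.app C) ≪≫
    (CxOX.extZero W.ι).mapDerivedCategoryFactors.app _

/-- The Mayer–Vietoris triangle. -/
theorem exists_triangle_of_supp (C : CochainComplex X.Modules ℤ) (K : DCoh.D X)
    (e : DerivedCategory.Q.obj C ≅ K) (hsupp : ∀ q (x : X), x ∉ U → x ∉ V →
      IsZero ((DerSch.stalkFunctor X x).obj (C.X q)))
    [PreservesFiniteLimits (CxOX.extZero U.ι)] [PreservesFiniteLimits (CxOX.extZero V.ι)]
    [PreservesFiniteLimits (CxOX.extZero (U ⊓ V).ι)] :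
    ∃ (a : (CxOX.extZeroD (U ⊓ V).ι).obj ((DCoh.restrictD (U ⊓ V).ι).obj K) ⟶
        ((CxOX.extZeroD U.ι).obj ((DCoh.restrictD U.ι).obj K) ⊞
          (CxOX.extZeroD V.ι).obj ((DCoh.restrictD V.ι).obj K)))
      (b : ((CxOX.extZeroD U.ι).obj ((DCoh.restrictD U.ι).obj K) ⊞
          (CxOX.extZeroD V.ι).obj ((DCoh.restrictD V.ι).obj K)) ⟶ K)
      (c : K ⟶ ((CxOX.extZeroD (U ⊓ V).ι).obj ((DCoh.restrictD (U ⊓ V).ι).obj K))⟦(1 : ℤ)⟧),
      Triangle.mk a b c ∈ distTriang (DCoh.D X) := by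
  let i : ∀ (W : X.Opens) [PreservesFiniteLimits (CxOX.extZero W.ι)],
      (CxOX.extZeroD W.ι).obj ((DCoh.restrictD W.ι).obj K) ≅ DerivedCategory.Q.obj ((EC W).obj C) :=
    fun W _ => (CxOX.extZeroD W.ι).mapIso ((DCoh.restrictD W.ι).mapIso e.symm) ≪≫ extZeroDIso W C
  let Q' : CochainComplex X.Modules ℤ ⥤ DCoh.D X := DerivedCategory.Q
  haveI : Q'.Additive := inferInstanceAs (DerivedCategory.Q (C := X.Modules)).Additive
  haveI := preservesBinaryBiproducts_of_preservesBiproducts Q'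
  let i₁ := i (U ⊓ V)
  let i₂ := biprod.mapIso (i U) (i V) ≪≫ (Q'.mapBiprod ((EC U).obj C) ((EC V).obj C)).symm
  let S := seq U V C
  let δ := DerivedCategory.triangleOfSESδ (shortExact_seq_of_supp U V C hsupp)
  refine ⟨i₁.hom ≫ Q'.map S.f ≫ i₂.inv, i₂.hom ≫ Q'.map S.g ≫ e.hom, e.inv ≫ δ ≫ i₁.inv⟦(1 : ℤ)⟧',
    isomorphic_distinguished _ (DerivedCategory.triangleOfSES_distinguished (shortExact_seq_of_supp U V C hsupp)) _
      (Triangle.isoMk _ _ i₁ i₂ e.symm ?_ ?_ ?_)⟩
  · exact (Category.assoc _ _ _).trans (congrArg (i₁.hom ≫ ·)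
      ((Category.assoc _ _ _).trans ((congrArg (Q'.map S.f ≫ ·) i₂.inv_hom_id).trans (Category.comp_id _))))
  · exact (Category.assoc _ _ _).trans (congrArg (i₂.hom ≫ ·)
      ((Category.assoc _ _ _).trans ((congrArg (Q'.map S.g ≫ ·) e.hom_inv_id).trans (Category.comp_id _))))
  · refine (Category.assoc _ _ _).trans (congrArg (e.inv ≫ ·) ?_)
    refine (Category.assoc _ _ _).trans ?_
    refine (congrArg (fun t => δ ≫ t) ?_).trans (Category.comp_id _)
    exact ((shiftFunctor (DCoh.D X) (1 : ℤ)).map_comp _ _).symm.trans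
      ((congrArg _ i₁.inv_hom_id).trans ((shiftFunctor (DCoh.D X) (1 : ℤ)).map_id _))

/-- The Mayer–Vietoris triangle of a cover by two opens. -/
theorem exists_triangle (hUV : U ⊔ V = ⊤)
    [PreservesFiniteLimits (CxOX.extZero U.ι)] [PreservesFiniteLimits (CxOX.extZero V.ι)]
    [PreservesFiniteLimits (CxOX.extZero (U ⊓ V).ι)] (K : DCoh.D X) :
    ∃ (a : (CxOX.extZeroD (U ⊓ V).ι).obj ((DCoh.restrictD (U ⊓ V).ι).obj K) ⟶
        ((CxOX.extZeroD U.ι).obj ((DCoh.restrictD U.ι).obj K) ⊞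
          (CxOX.extZeroD V.ι).obj ((DCoh.restrictD V.ι).obj K)))
      (b : ((CxOX.extZeroD U.ι).obj ((DCoh.restrictD U.ι).obj K) ⊞
          (CxOX.extZeroD V.ι).obj ((DCoh.restrictD V.ι).obj K)) ⟶ K)
      (c : K ⟶ ((CxOX.extZeroD (U ⊓ V).ι).obj ((DCoh.restrictD (U ⊓ V).ι).obj K))⟦(1 : ℤ)⟧),
      Triangle.mk a b c ∈ distTriang (DCoh.D X) :=
  exists_triangle_of_supp _ K (DerivedCategory.Q.objObjPreimageIso K) fun _ x h₁ h₂ =>
    absurd (hUV ▸ trivial : x ∈ U ⊔ V) (by rintro (h | h) <;> [exact h₁ h; exact h₂ h])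

/-- The Mayer–Vietoris triangle of the union of two opens. -/
theorem exists_triangle_sup (U V : X.Opens)
    [∀ W : X.Opens, PreservesFiniteLimits (CxOX.extZero W.ι)] (K : DCoh.D X) :
    ∃ (a : (CxOX.extZeroD (U ⊓ V).ι).obj ((DCoh.restrictD (U ⊓ V).ι).obj K) ⟶
        ((CxOX.extZeroD U.ι).obj ((DCoh.restrictD U.ι).obj K) ⊞
          (CxOX.extZeroD V.ι).obj ((DCoh.restrictD V.ι).obj K)))
      (b : ((CxOX.extZeroD U.ι).obj ((DCoh.restrictD U.ι).obj K) ⊞
          (CxOX.extZeroD V.ι).obj ((DCoh.restrictD V.ι).obj K)) ⟶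
        (CxOX.extZeroD (U ⊔ V).ι).obj ((DCoh.restrictD (U ⊔ V).ι).obj K))
      (c : (CxOX.extZeroD (U ⊔ V).ι).obj ((DCoh.restrictD (U ⊔ V).ι).obj K) ⟶
        ((CxOX.extZeroD (U ⊓ V).ι).obj ((DCoh.restrictD (U ⊓ V).ι).obj K))⟦(1 : ℤ)⟧),
      Triangle.mk a b c ∈ distTriang (DCoh.D X) := by
  let C := DerivedCategory.Q.objPreimage K
  let e : DerivedCategory.Q.obj C ≅ K := DerivedCategory.Q.objObjPreimageIso K
  let C' := (EC (U ⊔ V)).obj C
  let G (W : X.Opens) := DCoh.restrictD W.ι ⋙ CxOX.extZeroD W.ι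
  let e' : DerivedCategory.Q.obj C' ≅ (G (U ⊔ V)).obj K :=
    (extZeroDIso (U ⊔ V) C).symm ≪≫ (G (U ⊔ V)).mapIso e
  let i : ∀ W : X.Opens, W ≤ U ⊔ V → ((G W).obj ((G (U ⊔ V)).obj K) ≅ (G W).obj K) := fun W h =>
    haveI : ∀ q, IsIso (((EC W).map (εC (U ⊔ V) C)).f q) := fun q => isIso_E_map_ε h (C.X q)
    haveI : IsIso ((EC W).map (εC (U ⊔ V) C)) := HomologicalComplex.Hom.isIso_of_components _
    (G W).mapIso e'.symm ≪≫ extZeroDIso W _ ≪≫
      DerivedCategory.Q.mapIso (asIso ((EC W).map (εC (U ⊔ V) C))) ≪≫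
      (extZeroDIso W C).symm ≪≫ (G W).mapIso e
  obtain ⟨a, b, c, hT⟩ := exists_triangle_of_supp (U := U) (V := V) C' _ e' fun q x h₁ h₂ =>
    isZero_stalk_E (U ⊔ V) (C.X q) x (by rintro (h | h) <;> [exact h₁ h; exact h₂ h])
  let i₁ := i (U ⊓ V) (inf_le_left.trans le_sup_left)
  let i₂ := biprod.mapIso (i U le_sup_left) (i V le_sup_right)
  refine ⟨i₁.inv ≫ a ≫ i₂.hom, i₂.inv ≫ b, c ≫ i₁.hom⟦(1 : ℤ)⟧',
    isomorphic_distinguished _ hT _ (Triangle.isoMk _ _ i₁.symm i₂.symm (Iso.refl _) ?_ ?_ ?_)⟩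
  · show (i₁.inv ≫ a ≫ i₂.hom) ≫ i₂.inv = i₁.inv ≫ a
    exact (Category.assoc _ _ _).trans (congrArg (i₁.inv ≫ ·) ((Category.assoc _ _ _).trans
      ((congrArg (a ≫ ·) i₂.hom_inv_id).trans (Category.comp_id _))))
  · exact Category.comp_id _
  · show (c ≫ i₁.hom⟦(1 : ℤ)⟧') ≫ i₁.inv⟦(1 : ℤ)⟧' = 𝟙 _ ≫ c
    rw [Category.id_comp]
    exact (Category.assoc _ _ _).trans ((congrArg (c ≫ ·) (((shiftFunctor (DCoh.D X) (1 : ℤ)).map_comp _ _).symm.trans
      ((congrArg _ i₁.hom_inv_id).trans (CategoryTheory.Functor.map_id _ _)))).trans (Category.comp_id _))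

end Derived

end Groth.Agent.H16Derived.QCohD.MV
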