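import Groth.Agent.H16Derived.QCohD.Tower
import Groth.Agent.H16Derived.KInjRes.Products
import Groth.Agent.H10Coh.Affine
import Groth.Agent.H10Coh.ModRes
import Groth.Agent.H10Coh.Support
import Groth.Agent.H11Tilde.ModLoc
import Groth.Agent.H29Fitt.FP
import Groth.Agent.H16Derived.KFlat.PerfCoh
import Groth.Prelude.Def_DCoh2
import Mathlib.Algebra.Homology.DerivedCategory.Ext.EnoughInjectives

/-!
# Sections on affine opens of objects with quasi-coherent cohomology sheaves

For `K` with quasi-coherent cohomology and `U` affine, `Hom(O_U[-m], K) = Γ(U, H^m K)`.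
-/

set_option autoImplicit false
set_option linter.style.haveILetI false

universe u

open CategoryTheory CategoryTheory.Limits AlgebraicGeometry Opposite TopologicalSpace Abelian
  Pretriangulated DerivedCategory

attribute [local instance] HasDerivedCategory.standard

namespace Groth.Agent.H16Derived.QCohD

open Groth.Agent.H10Coh

variable {X : Scheme.{u}}

theorem freeShEquiv_comp (U : X.Opens) {M N : X.Modules} (f : freeSh U ⟶ M) (g : M ⟶ N) :
    freeShEquiv U N (f ≫ g) = g.app U (freeShEquiv U M f) :=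
  (congrArg PresheafOfModules.freeYonedaEquiv
    ((PresheafOfModules.sheafificationAdjunction.{u, u, u, u} (R := X.ringCatSheaf)
      (𝟙 X.ringCatSheaf.obj)).homEquiv_naturality_right f g)).trans
    (PresheafOfModules.freeYonedaEquiv_comp _ _)

/-- `Ext^{n+1}(O_U, M) = 0` for `U` affine and `M` quasi-coherent. -/
theorem subsingleton_ext_freeSh [HasExt.{u + 1} X.Modules] (M : X.Modules) (hM : Coh.IsQCoh M)
    {U : X.Opens} (hU : IsAffineOpen U) (n : ℕ) :
    Subsingleton (Ext.{u + 1} (freeSh U) M (n + 1)) := by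
  haveI := enoughInjMod X
  haveI : M.IsQuasicoherent := hM
  suffices key : ∀ k j, Subsingleton (Ext.{u + 1} (freeSh U) (mZ M j) (k + 1)) from key n 0
  intro k
  induction k with
  | zero =>
    intro j
    haveI := injective_mI M j
    haveI : Subsingleton (Ext.{u + 1} (freeSh U)
        (ShortComplex.mk (mi M j) (mp M j) (mi_mp M j)).X₂ 1) :=
      Ext.subsingleton_of_injective _ _ 0
    refine subsingleton_ext_one (shortExact_mZ M j) fun q => ?_
    have hp : Function.Surjective ((mp M j).app U) :=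
      (subsingleton_HnM_iff (MRes.inj M) j U).1 (subsingleton_HnM_of_isAffineOpen M hU j)
    obtain ⟨s, hs⟩ := hp (freeShEquiv U _ q)
    refine ⟨(freeShEquiv U _).symm s, (freeShEquiv U _).injective ?_⟩
    dsimp only
    rw [freeShEquiv_comp, Equiv.apply_symm_apply, hs]
  | succ k ih =>
    intro j
    haveI := injective_mI M j
    haveI : Subsingleton (Ext.{u + 1} (freeSh U)
        (ShortComplex.mk (mi M j) (mp M j) (mi_mp M j)).X₂ (k + 1 + 1)) :=
      Ext.subsingleton_of_injective _ _ (k + 1)
    exact subsingleton_ext_X₁ (shortExact_mZ M j) (ih (j + 1))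

theorem acyclic_freeSh {U : X.Opens} (hU : IsAffineOpen U) :
    Acyclic (Coh.IsQCoh (X := X)) (freeSh U) := by
  intro m j hjm F hF f
  haveI : HasExt.{u + 1} X.Modules := HasExt.standard _
  obtain ⟨n, hn⟩ : ∃ n : ℕ, m - j = n + 1 := ⟨(m - j - 1).toNat, by omega⟩
  apply (shiftFunctor (DCoh.D X) m).map_injective
  rw [Functor.map_zero]
  let e₁ : ((singleFunctor X.Modules m).obj (freeSh U))⟦m⟧ ≅ (singleFunctor X.Modules 0).obj (freeSh U) :=
    ((singleFunctors X.Modules).shiftIso m 0 m (by omega)).app _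
  let e₂ : ((singleFunctor X.Modules j).obj F)⟦m⟧ ≅
      ((singleFunctor X.Modules 0).obj F)⟦((n + 1 : ℕ) : ℤ)⟧ :=
    ((singleFunctors X.Modules).shiftIso m (j - m) j (by omega)).app _ ≪≫
      (((singleFunctors X.Modules).shiftIso ((n + 1 : ℕ) : ℤ) (j - m) 0 (by omega)).app _).symm
  rw [← cancel_mono e₂.hom, ← cancel_epi e₁.inv]
  haveI := subsingleton_ext_freeSh F hF hU n
  haveI : Subsingleton ((singleFunctor X.Modules 0).obj (freeSh U) ⟶
      ((singleFunctor X.Modules 0).obj F)⟦((n + 1 : ℕ) : ℤ)⟧) :=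
    (Ext.homEquiv (X := freeSh U) (Y := F) (n := n + 1)).symm.subsingleton
  exact Subsingleton.elim _ _

theorem isQCoh_iso {M M' : X.Modules} (e : M ≅ M') (h : Coh.IsQCoh M) : Coh.IsQCoh M' :=
  ObjectProperty.prop_of_iso (SheafOfModules.isQuasicoherent X.ringCatSheaf) e h

theorem isQCoh_isZero (M : X.Modules) (h : IsZero M) : Coh.IsQCoh M :=
  H29Fitt.isQCoh_of_isFP M (H8Props.FinLocFree.isFP_of_isFinLocFree M
    (KFlat.Stalk.isFinLocFree_of_isZero h))

/-- Classes of cycles give maps in the derived category. -/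
theorem comp_homologyπ_mem_range {G : X.Modules} (C : CochainComplex X.Modules ℤ) (m : ℤ)
    {N : DCoh.D X} (e : Q.obj C ≅ N) (φ : G ⟶ C.cycles m) :
    φ ≫ C.homologyπ m ≫ (homologyFunctorFactors X.Modules m).inv.app C ≫
      (homologyFunctor X.Modules m).map e.hom ∈ Set.range (θ G m (N := N)) := by
  let S := (CochainComplex.singleFunctor X.Modules m).obj G
  let ψ : S ⟶ C := HomologicalComplex.mkHomFromSingle (φ ≫ C.iCycles m) (fun k _ => by
    rw [Category.assoc, HomologicalComplex.iCycles_d, comp_zero])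
  let k : G ⟶ S.cycles m := S.liftCycles
    (HomologicalComplex.singleObjXSelf (ComplexShape.up ℤ) m G).inv (m + 1) (by simp)
    ((HomologicalComplex.isZero_single_obj_X _ _ _ _ (by omega)).eq_of_tgt _ _)
  have hk : k ≫ HomologicalComplex.cyclesMap ψ m = φ := by
    rw [← cancel_mono (C.iCycles m), Category.assoc, HomologicalComplex.cyclesMap_i,
      HomologicalComplex.liftCycles_i_assoc]
    exact (congrArg (_ ≫ ·) (HomologicalComplex.mkHomFromSingle_f _ _)).trans
      (Iso.inv_hom_id_assoc _ _)
  let E := (singleFunctorIsoCompQ X.Modules m).app G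
  let a : (singleFunctor X.Modules m).obj G ⟶ N := E.hom ≫ Q.map ψ ≫ e.hom
  let c : G ⟶ (homologyFunctor X.Modules m).obj ((singleFunctor X.Modules m).obj G) :=
    k ≫ S.homologyπ m ≫ (homologyFunctorFactors X.Modules m).inv.app S ≫
      (homologyFunctor X.Modules m).map E.inv
  refine ⟨(singleFunctor X.Modules m).map
    (c ≫ (singleFunctorCompHomologyFunctorIso X.Modules m).hom.app G) ≫ a, ?_⟩
  rw [θ_precomp, θ, Category.assoc]
  erw [Iso.hom_inv_id_app_assoc]
  simp only [c, a, Category.assoc, ← Functor.map_comp, Iso.inv_hom_id_assoc]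
  rw [Functor.map_comp]
  have nat := (homologyFunctorFactors X.Modules m).inv.naturality ψ
  simp only [Functor.comp_map] at nat
  have hπ : HomologicalComplex.cyclesMap ψ m ≫ C.homologyπ m =
      S.homologyπ m ≫ (HomologicalComplex.homologyFunctor _ _ m).map ψ :=
    (HomologicalComplex.homologyπ_naturality ψ m).symm
  rw [← hk, Category.assoc, ← Category.assoc (HomologicalComplex.cyclesMap ψ m), hπ]
  congr 1
  refine Eq.trans ?_ (Category.assoc _ _ _).symm
  refine congrArg (S.homologyπ m ≫ ·) ?_
  exact ((Category.assoc _ _ _).symm.trans ((congrArg (· ≫ _) nat.symm).trans (Category.assoc _ _ _)))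

/-- Affine opens test objects with quasi-coherent cohomology. -/
def affineTests (X : Scheme.{u}) : Tests (Coh.IsQCoh (X := X)) where
  mem G := ∃ U : X.Opens, IsAffineOpen U ∧ G = freeSh U
  acyclic := by rintro _ ⟨U, hU, rfl⟩; exact acyclic_freeSh hU
  hom_ext {M M'} φ h := by
    refine Scheme.Modules.hom_ext _ _ fun W => ?_
    refine AddCommGrpCat.hom_ext (AddMonoidHom.ext fun s => ?_)
    refine TopCat.Presheaf.section_ext (sh M') W _ _ fun x hx => ?_
    obtain ⟨_, ⟨U, hU : IsAffineOpen U, rfl⟩, hxU, hle⟩ :=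
      X.isBasis_affineOpens.exists_subset_of_mem_open hx W.isOpen
    have h0 := h _ ⟨U, hU, rfl⟩ ((freeShEquiv U M).symm (M.presheaf.map (homOfLE hle).op s))
    have h1 := congrArg (freeShEquiv U M') h0
    rw [freeShEquiv_comp, Equiv.apply_symm_apply] at h1
    replace h1 := (H11Tilde.app_map_apply φ hle s).symm.trans h1
    have h2 : freeShEquiv U M' (0 : freeSh U ⟶ M') = 0 := by
      have := freeShEquiv_comp U (0 : freeSh U ⟶ M) φ
      rw [zero_comp] at this
      have h3 := freeShEquiv_comp U (0 : freeSh U ⟶ M') (0 : M' ⟶ M')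
      rw [comp_zero] at h3
      exact h3
    rw [h2] at h1
    show M'.presheaf.germ W x hx (φ.app W s) = M'.presheaf.germ W x hx 0
    rw [map_zero]
    exact germ_eq_zero_of_le M' hle hxU _ h1
  lift N m G hG g h := by
    obtain ⟨U, hU, rfl⟩ := hG
    let C := Q.objPreimage N
    let e : Q.obj C ≅ N := Q.objObjPreimageIso N
    let H := (homologyFunctor X.Modules m).obj N
    let i' : C.homology m ≅ H :=
      ((homologyFunctorFactors X.Modules m).app C).symm ≪≫ (homologyFunctor X.Modules m).mapIso e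
    let i : C.homology m ⟶ H := i'.hom
    haveI : Epi (C.homologyπ m ≫ i) :=
      @epi_comp _ _ _ _ _ _ inferInstance i (inferInstanceAs (Epi i'.hom))
    apply (freeShEquiv U H).injective
    have h0 : ∀ V : X.Opens, freeShEquiv V H (0 : freeSh V ⟶ H) = 0 := fun V => by
      have h3 := freeShEquiv_comp V (0 : freeSh V ⟶ H) (0 : H ⟶ H)
      rw [comp_zero] at h3
      exact h3
    rw [h0]
    refine TopCat.Presheaf.section_ext (sh H) U _ _ fun x hx => ?_
    obtain ⟨W, hW, hxW, z, hz⟩ := exists_nhds_lift_of_epi (C.homologyπ m ≫ i) U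
      (freeShEquiv U H g) x hx
    obtain ⟨_, ⟨V, hV : IsAffineOpen V, rfl⟩, hxV, hle⟩ :=
      X.isBasis_affineOpens.exists_subset_of_mem_open hxW W.isOpen
    have hVU : V ≤ U := le_trans hle hW
    let φ : freeSh V ⟶ C.cycles m :=
      (freeShEquiv V _).symm ((C.cycles m).presheaf.map (homOfLE hle).op z)
    have hφ : φ ≫ C.homologyπ m ≫ i = freeShMap hVU ≫ g := by
      apply (freeShEquiv V H).injective
      rw [freeShEquiv_comp, freeShEquiv_res, Equiv.apply_symm_apply]
      refine (H11Tilde.app_map_apply (C.homologyπ m ≫ i) hle z).trans ?_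
      refine (congrArg _ hz).trans ?_
      exact mres_mres H hW hle _
    have h1 := h (freeSh V) ⟨V, hV, rfl⟩ (freeShMap hVU) (hφ ▸ comp_homologyπ_mem_range C m e φ)
    have h2 := congrArg (freeShEquiv V H) h1
    rw [freeShEquiv_res, h0] at h2
    show H.presheaf.germ U x hx (freeShEquiv U H g) = H.presheaf.germ U x hx 0
    rw [map_zero]
    exact germ_eq_zero_of_le H hVU hxV _ h2

theorem hasProduct_nat (f : ℕ → DCoh.D X) : HasProduct f := by
  haveI := KFlat.Stalk.isGrothendieckAbelian_modules (X := X)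
  haveI : HasLimitsOfShape (Discrete (ULift.{u} ℕ)) (DCoh.D X) :=
    KInjRes.hasProducts_derivedCategory (A := X.Modules) (ULift.{u} ℕ)
  haveI : HasLimitsOfShape (Discrete ℕ) (DCoh.D X) :=
    hasLimitsOfShape_of_equivalence (Discrete.equivalence Equiv.ulift)
  infer_instance

/-- For `K` with quasi-coherent cohomology and `U` affine, `Hom(O_U[-m], K) = Hom(O_U, H^m K)`. -/
theorem bijective_θ_affine {K : DCoh.D X} (hK : DCoh.IsQCohD K) {U : X.Opens} (hU : IsAffineOpen U)
    (m : ℤ) : Function.Bijective (θ (freeSh U) m (N := K)) := by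
  haveI := hasProduct_nat (tr (A := X.Modules) K)
  exact θ_bijective (Coh.IsQCoh (X := X)) (fun e h => isQCoh_iso e h) isQCoh_isZero
    (acyclic_freeSh hU) K hK (affineTests X) m

/-- An object with quasi-coherent cohomology is the derived limit of its truncations. -/
theorem exists_triangle_truncations {K : DCoh.D X} (hK : DCoh.IsQCohD K)
    [HasProduct (tr (A := X.Modules) K)] :
    ∃ c : ∏ᶜ (tr K) ⟶ K⟦(1 : ℤ)⟧,
      Triangle.mk (Pi.lift fun n : ℕ => (DerivedCategory.TStructure.t.truncGEπ (-(n : ℤ))).app K)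
        (oneSub K) c ∈ distTriang (DCoh.D X) :=
  exists_triangle (Coh.IsQCoh (X := X)) (fun e h => isQCoh_iso e h) isQCoh_isZero K hK
    (affineTests X)

end Groth.Agent.H16Derived.QCohD
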