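import Groth.Agent.H16Derived.QCohD.FinSupp
import Groth.Agent.H16Derived.QCohD.Affine
import Groth.Agent.H16Derived.QCoprod
import Groth.Agent.H16Derived.KFlat.SheafTensor
import Groth.Agent.H26Tor.Exact
import Groth.Agent.H10Coh.Induction
import Groth.Agent.H10Coh.CohLocal
import Groth.Agent.S1040
import Mathlib.Algebra.Category.ModuleCat.Products
import Mathlib.Algebra.Homology.DerivedCategory.SingleTriangle

/-!
# Free sheaves on quasi-compact opens are compact relative to quasi-coherent complexes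
-/

set_option autoImplicit false
set_option linter.style.haveILetI false

universe u

open CategoryTheory CategoryTheory.Limits CategoryTheory.Pretriangulated AlgebraicGeometry

attribute [local instance] HasDerivedCategory.standard

namespace Groth.Agent.H16Derived.QCohD

open Groth.Agent.H10Coh

variable {X : Scheme.{u}}

/-- Elements of stalks of direct sums have finite support. -/
theorem exists_finset_stalk {κ : Type u} (M : κ → X.Modules) (x : X)
    (z : (DerSch.stalkFunctor X x).obj (∐ M)) :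
    ∃ s : Finset κ, ((DerSch.stalkFunctor X x).map (FinSupp.idem M s)).hom z = z := by
  classical
  let F := DerSch.stalkFunctor X x
  let e := PreservesCoproduct.iso F M ≪≫ ModuleCat.coprodIsoDirectSum fun k => F.obj (M k)
  obtain ⟨d, rfl⟩ : ∃ d, e.inv.hom d = z := ⟨e.hom.hom z, e.hom_inv_id_apply z⟩
  induction d using DirectSum.induction_on with
  | zero => exact ⟨∅, by simp⟩
  | of k m =>
    refine ⟨{k}, ?_⟩
    have hι : ModuleCat.ofHom (DirectSum.lof (X.presheaf.stalk x) κ (fun i => F.obj (M i)) k) ≫ e.inv =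
        F.map (Sigma.ι M k) := by
      simp only [e, Iso.trans_inv]
      rw [← Category.assoc, ModuleCat.lof_coprodIsoDirectSum_inv]
      exact ι_comp_sigmaComparison F M k
    have h := congrArg (fun φ => φ.hom m) hι
    simp only [ModuleCat.hom_comp, LinearMap.comp_apply, ModuleCat.hom_ofHom] at h
    rw [← DirectSum.lof_eq_of (X.presheaf.stalk x), h]
    refine ((LinearMap.comp_apply _ _ _).symm.trans ?_)
    rw [← ModuleCat.hom_comp, ← Functor.map_comp, FinSupp.ι_idem, if_pos (Finset.mem_singleton_self k)]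
  | add a b ha hb =>
    obtain ⟨s, hs⟩ := ha
    obtain ⟨t, ht⟩ := hb
    have hm : ∀ {u v : Finset κ}, u ⊆ v → ∀ y, (F.map (FinSupp.idem M u)).hom y = y →
        (F.map (FinSupp.idem M v)).hom y = y := by
      intro u v huv y hy
      conv_lhs => rw [← hy, ← LinearMap.comp_apply, ← ModuleCat.hom_comp, ← Functor.map_comp,
        FinSupp.idem_comp_of_subset M huv]
      exact hy
    exact ⟨s ∪ t, by rw [map_add, map_add, hm Finset.subset_union_left _ hs,
      hm Finset.subset_union_right _ ht]⟩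

/-- Sections of direct sums over quasi-compact opens have finite support. -/
theorem exists_finset_freeSh {κ : Type u} (M : κ → X.Modules) {U : X.Opens}
    (hU : IsCompact (U : Set X)) (g : freeSh U ⟶ ∐ M) :
    ∃ s : Finset κ, g ≫ FinSupp.idem M s = g := by
  classical
  let N := ∐ M
  let z : Γ(N, U) := freeShEquiv U N g
  have hloc : ∀ x : U, ∃ (s : Finset κ) (V : X.Opens) (hV : V ≤ U), x.1 ∈ V ∧
      rs N hV ((FinSupp.idem M s).app U z) = rs N hV z := fun x => by
    obtain ⟨s, hs⟩ := exists_finset_stalk M x.1 (N.presheaf.germ U x.1 x.2 z)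
    have h2 : N.presheaf.germ U x.1 x.2 ((FinSupp.idem M s).app U z) = N.presheaf.germ U x.1 x.2 z :=
      (H06Mod.stalkLin_germ (FinSupp.idem M s) x.1 U x.2 z).symm.trans hs
    obtain ⟨V, hxV, iU, iV, h⟩ := N.presheaf.germ_eq x.1 x.2 x.2 _ _ h2
    exact ⟨s, V, iU.le, hxV, h⟩
  choose s V hV hxV hs using hloc
  obtain ⟨T, hT⟩ := hU.elim_finite_subcover (fun x : U => (V x : Set X)) (fun x => (V x).isOpen)
    fun x hx => Set.mem_iUnion.2 ⟨⟨x, hx⟩, hxV _⟩
  refine ⟨T.biUnion s, (freeShEquiv U N).injective ?_⟩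
  rw [freeShEquiv_comp]
  refine TopCat.Sheaf.eq_of_locally_eq' (sheafOf N) (fun x : T => V x.1) U (fun x => homOfLE (hV _))
    (fun y hy => ?_) _ _ fun x => ?_
  · obtain ⟨x, hx, hyx⟩ := Set.mem_iUnion₂.1 (hT hy)
    exact TopologicalSpace.Opens.mem_iSup.2 ⟨⟨x, hx⟩, hyx⟩
  · show rs N (hV x.1) ((FinSupp.idem M (T.biUnion s)).app U z) = rs N (hV x.1) z
    have h1 : ∀ (t : Finset κ), rs N (hV x.1) ((FinSupp.idem M t).app U z) =
        (FinSupp.idem M t).app (V x.1) (rs N (hV x.1) z) := fun t =>
      (H11Tilde.app_map_apply (FinSupp.idem M t) (hV x.1) z).symm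
    have h2 := hs x.1
    rw [h1] at h2 ⊢
    conv_lhs => rw [← h2]
    rw [← AddMonoidHom.comp_apply]
    have h3 : (FinSupp.idem M (s x.1)).app (V x.1) ≫ (FinSupp.idem M (T.biUnion s)).app (V x.1) =
        (FinSupp.idem M (s x.1)).app (V x.1) := by
      rw [← Scheme.Modules.Hom.comp_app,
        FinSupp.idem_comp_of_subset M (Finset.subset_biUnion_of_mem s x.2)]
    exact (ConcreteCategory.congr_hom h3 _).trans h2

/-- Relative compactness in all degrees. -/
def Rel (K : DCoh.D X) : Prop :=
  ∀ n : ℤ, FinSupp.Holds.{u} (fun L : DCoh.D X => DCoh.IsQCohD L) (K⟦n⟧)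

lemma Rel.of_iso {K K' : DCoh.D X} (e : K ≅ K') (h : Rel K) : Rel K' := fun n =>
  FinSupp.of_iso ((shiftFunctor _ n).mapIso e) (h n)

lemma Rel.shift {K : DCoh.D X} (h : Rel K) (m : ℤ) : Rel (K⟦m⟧) := fun n =>
  FinSupp.of_iso ((shiftFunctorAdd _ m n).app K) (h (m + n))

lemma Rel.ext₂ {T : Triangle (DCoh.D X)} (hT : T ∈ distTriang (DCoh.D X)) (h₁ : Rel T.obj₁)
    (h₃ : Rel T.obj₃) : Rel T.obj₂ := fun n =>
  FinSupp.ext₂ (Triangle.shift_distinguished T hT n) (h₁ n) (h₃ n)

lemma Rel.ext₃ {T : Triangle (DCoh.D X)} (hT : T ∈ distTriang (DCoh.D X)) (h₁ : Rel T.obj₁)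
    (h₂ : Rel T.obj₂) : Rel T.obj₃ :=
  Rel.ext₂ (rot_of_distTriang T hT) h₂ (h₁.shift 1)

/-- `H^m` of direct sums. -/
theorem preservesColimit_homology {κ : Type u} (K : κ → DCoh.D X) (m : ℤ) :
    PreservesColimit (Discrete.functor K) (DerivedCategory.homologyFunctor X.Modules m) := by
  haveI := KFlat.Stalk.isGrothendieckAbelian_modules (X := X)
  have hi : ∀ i, ∃ C : CochainComplex X.Modules ℤ, Nonempty (DerivedCategory.Q.obj C ≅ K i) := fun i =>
    have := Localization.essSurj (DerivedCategory.Q (C := X.Modules))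
      (HomologicalComplex.quasiIso X.Modules (ComplexShape.up ℤ))
    ⟨_, ⟨DerivedCategory.Q.objObjPreimageIso (K i)⟩⟩
  choose C hC using hi
  let Q' : CochainComplex X.Modules ℤ ⥤ DCoh.D X := DerivedCategory.Q
  haveI : PreservesColimit (Discrete.functor C) Q' := QCoprod.preservesColimit_Q C
  haveI : ∀ i : ℤ, PreservesColimitsOfShape (Discrete κ) ((𝟭 (CochainComplex X.Modules ℤ)) ⋙
      HomologicalComplex.eval X.Modules (ComplexShape.up ℤ) i) := fun i =>
    inferInstanceAs (PreservesColimitsOfShape (Discrete κ) (HomologicalComplex.eval X.Modules (ComplexShape.up ℤ) i))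
  haveI : PreservesColimitsOfShape (Discrete κ)
      (𝟭 _ ⋙ HomologicalComplex.homologyFunctor X.Modules (ComplexShape.up ℤ) m) :=
    H26Tor.preservesColimitsOfShape_homology _ m
  haveI : PreservesColimit (Discrete.functor C) (Q' ⋙ DerivedCategory.homologyFunctor X.Modules m) :=
    preservesColimit_of_natIso _ ((Functor.leftUnitor _) ≪≫
      (DerivedCategory.homologyFunctorFactors X.Modules m).symm)
  haveI : PreservesColimit (Discrete.functor C ⋙ Q') (DerivedCategory.homologyFunctor X.Modules m) :=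
    preservesColimit_of_preserves_colimit_cocone
      (isColimitOfPreserves Q' (colimit.isColimit (Discrete.functor C)))
      (isColimitOfPreserves (Q' ⋙ DerivedCategory.homologyFunctor X.Modules m)
        (colimit.isColimit (Discrete.functor C)))
  exact preservesColimit_of_iso_diagram _
    (Discrete.natIso fun i => (hC i.as).some : Discrete.functor C ⋙ Q' ≅ Discrete.functor K)

/-- Free sheaves on affine opens. -/
theorem holds_affine {U : X.Opens} (hU : IsAffineOpen U) (m : ℤ) :
    FinSupp.Holds.{u} (fun L : DCoh.D X => DCoh.IsQCohD L)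
      ((DerivedCategory.singleFunctor X.Modules m).obj (freeSh U)) := by
  intro κ K _ hK α
  have hq : DCoh.IsQCohD (∐ K) := S1040.result X K hK
  let H := DerivedCategory.homologyFunctor X.Modules m
  haveI := preservesColimit_homology K m
  obtain ⟨s, hs⟩ := exists_finset_freeSh (fun i => H.obj (K i)) hU.isCompact
    (θ (freeSh U) m α ≫ inv (sigmaComparison H K))
  refine ⟨s, (bijective_θ_affine hq hU m).1 ?_⟩
  rw [θ_comp]
  rw [Category.assoc, ← cancel_mono (sigmaComparison H K), Category.assoc, Category.assoc,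
    FinSupp.sigmaComparison_idem, IsIso.inv_hom_id_assoc, Category.assoc, IsIso.inv_hom_id,
    Category.comp_id] at hs
  exact hs

theorem rel_affine {U : X.Opens} (hU : IsAffineOpen U) :
    Rel ((DerivedCategory.singleFunctor X.Modules 0).obj (freeSh U)) := fun n =>
  FinSupp.of_iso (((DerivedCategory.singleFunctors X.Modules).shiftIso n (-n) 0 (by omega)).app _).symm
    (holds_affine hU (-n))

/-- The Mayer–Vietoris sequence of free sheaves. -/
theorem exists_mv (U V : X.Opens) :
    ∃ (f : freeSh (U ⊓ V) ⟶ freeSh U ⊞ freeSh V) (g : freeSh U ⊞ freeSh V ⟶ freeSh (U ⊔ V))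
      (w : f ≫ g = 0), (ShortComplex.mk f g w).ShortExact := by
  let f : freeSh (U ⊓ V) ⟶ freeSh U ⊞ freeSh V :=
    biprod.lift (freeShMap inf_le_left) (-freeShMap inf_le_right)
  let g : freeSh U ⊞ freeSh V ⟶ freeSh (U ⊔ V) :=
    biprod.desc (freeShMap le_sup_left) (freeShMap le_sup_right)
  have w : f ≫ g = 0 := by
    simp only [f, g, biprod.lift_desc, Preadditive.neg_comp]
    rw [add_neg_eq_zero]
    apply (freeShEquiv (U ⊓ V) _).injective
    rw [← Category.comp_id (freeShMap le_sup_left), ← Category.comp_id (freeShMap le_sup_right),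
      freeShEquiv_res, freeShEquiv_res, freeShEquiv_res, freeShEquiv_res]
    exact (rs_rs _ _ _ _).trans (rs_rs _ _ _ _).symm
  haveI : Mono f := by
    haveI := mono_freeShMap (X := X) (inf_le_left : U ⊓ V ≤ U)
    haveI : Mono (f ≫ biprod.fst) := by simpa [f]
    exact mono_of_mono f biprod.fst
  have hdesc : ∀ {M : X.Modules} (h : freeSh U ⊞ freeSh V ⟶ M), f ≫ h = 0 →
      ∃! l : freeSh (U ⊔ V) ⟶ M, g ≫ l = h := by
    intro M h hh
    let a := freeShEquiv U M (biprod.inl ≫ h)
    let b := freeShEquiv V M (biprod.inr ≫ h)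
    have hab : rs M (inf_le_left : U ⊓ V ≤ U) a = rs M (inf_le_right : U ⊓ V ≤ V) b := by
      refine (freeShEquiv_res _ M _).symm.trans (Eq.trans ?_ (freeShEquiv_res _ M _))
      congr 1
      rw [← sub_eq_zero, ← hh]
      simp [f, biprod.lift_eq, Preadditive.add_comp, sub_eq_add_neg]
    obtain ⟨w, hw₁, hw₂⟩ := glue_two M a b hab
    refine ⟨(freeShEquiv (U ⊔ V) M).symm w, biprod.hom_ext' _ _ ?_ ?_, fun l hl => ?_⟩
    · simp only [g, biprod.inl_desc_assoc]
      exact (freeShEquiv U M).injective (by rw [freeShEquiv_res, Equiv.apply_symm_apply]; exact hw₁)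
    · simp only [g, biprod.inr_desc_assoc]
      exact (freeShEquiv V M).injective (by rw [freeShEquiv_res, Equiv.apply_symm_apply]; exact hw₂)
    · rw [Equiv.eq_symm_apply]
      refine eq_of_two M le_sup_left le_sup_right le_rfl _ _ ?_ ?_
      · refine ((freeShEquiv_res _ M l).symm.trans (Eq.trans ?_ hw₁.symm))
        show _ = freeShEquiv U M (biprod.inl ≫ h)
        rw [← hl]; simp [g]
      · refine ((freeShEquiv_res _ M l).symm.trans (Eq.trans ?_ hw₂.symm))
        show _ = freeShEquiv V M (biprod.inr ≫ h)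
        rw [← hl]; simp [g]
  haveI : Epi g := Preadditive.epi_of_cancel_zero _ fun {M} l hl =>
    (hdesc (g ≫ l) (by rw [reassoc_of% w, zero_comp])).unique rfl (by rw [comp_zero, hl])
  refine ⟨f, g, w, { exact := ?_ }⟩
  exact ShortComplex.exact_of_g_is_cokernel _ (CokernelCofork.IsColimit.ofπ g w
    (fun {M} h hh => (hdesc h hh).choose) (fun {M} h hh => (hdesc h hh).choose_spec.1)
    fun {M} h hh l hl => (hdesc h hh).choose_spec.2 l hl)

theorem rel_biprod {A B : X.Modules}
    (hA : Rel ((DerivedCategory.singleFunctor X.Modules 0).obj A))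
    (hB : Rel ((DerivedCategory.singleFunctor X.Modules 0).obj B)) :
    Rel ((DerivedCategory.singleFunctor X.Modules 0).obj (A ⊞ B)) := fun n => by
  let F := DerivedCategory.singleFunctor X.Modules 0 ⋙ shiftFunctor (DCoh.D X) n
  refine FinSupp.of_two (F.map biprod.inl) (F.map biprod.inr) (F.map biprod.fst) (F.map biprod.snd)
    ?_ (hA n) (hB n)
  rw [← F.map_comp, ← F.map_comp, ← F.map_add, biprod.total, F.map_id]
  rfl

/-- Mayer–Vietoris step. -/
theorem rel_sup {U V : X.Opens}
    (hU : Rel ((DerivedCategory.singleFunctor X.Modules 0).obj (freeSh U)))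
    (hV : Rel ((DerivedCategory.singleFunctor X.Modules 0).obj (freeSh V)))
    (hUV : Rel ((DerivedCategory.singleFunctor X.Modules 0).obj (freeSh (U ⊓ V)))) :
    Rel ((DerivedCategory.singleFunctor X.Modules 0).obj (freeSh (U ⊔ V))) := by
  obtain ⟨f, g, w, hS⟩ := exists_mv U V
  exact Rel.ext₃ hS.singleTriangle_distinguished hUV (rel_biprod hU hV)

/-- Free sheaves on quasi-compact opens with quasi-separated ambient open. -/
theorem rel_freeSh {W : X.Opens} [QuasiSeparatedSpace (W : Scheme.{u})]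
    (hW : IsCompact (W : Set X)) :
    Rel ((DerivedCategory.singleFunctor X.Modules 0).obj (freeSh W)) := by
  haveI : CompactSpace (W : Scheme.{u}) := isCompact_iff_compactSpace.1 hW
  have h := qcqs_induction (X := (W : Scheme.{u}))
    (fun U => Rel ((DerivedCategory.singleFunctor X.Modules 0).obj (freeSh (W.ι ''ᵁ U))))
    (fun U hU => rel_affine (hU.image_of_isOpenImmersion W.ι))
    (fun U V _ _ hU hV hUV => ?_) ⊤ isCompact_univ
  · simpa using h
  · have e₁ : W.ι ''ᵁ (U ⊔ V) = (W.ι ''ᵁ U) ⊔ (W.ι ''ᵁ V) :=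
      TopologicalSpace.Opens.ext (Set.image_union _ _ _)
    have e₂ : W.ι ''ᵁ (U ⊓ V) = (W.ι ''ᵁ U) ⊓ (W.ι ''ᵁ V) :=
      TopologicalSpace.Opens.ext (Set.image_inter W.ι.isOpenEmbedding.injective)
    show Rel ((DerivedCategory.singleFunctor X.Modules 0).obj (freeSh (W.ι ''ᵁ (U ⊔ V))))
    rw [e₁]
    refine rel_sup hU hV ?_
    rw [← e₂]; exact hUV

end Groth.Agent.H16Derived.QCohD
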