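import Groth.Agent.H16Derived.QCohD.MV
import Groth.Agent.H16Derived.QCohD.CompactFree
import Groth.Agent.H16Derived.KFlat.PerfTri
import Groth.Agent.H16Derived.KFlat.LocalLift
import Groth.Agent.H16Derived.KFlat.BoundedAbove
import Mathlib.Algebra.Homology.DerivedCategory.ShortExact
import Mathlib.Algebra.Homology.Embedding.CochainComplex

/-!
# Perfect objects on quasi-compact quasi-separated schemes are relatively compact
-/

set_option autoImplicit false
set_option linter.style.haveILetI false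

universe w u v u'

open CategoryTheory CategoryTheory.Limits CategoryTheory.Pretriangulated AlgebraicGeometry

attribute [local instance] HasDerivedCategory.standard

namespace Groth.Agent.H16Derived.QCohD

/-- Bounded complexes are built from their terms. -/
theorem bounded_induction {B : Type u'} [Category.{v} B] [Abelian B] [HasDerivedCategory.{w} B]
    (P : DerivedCategory B → Prop) (hiso : ∀ {X Y : DerivedCategory B} (_ : X ≅ Y), P X → P Y)
    (htri : ∀ T : Triangle (DerivedCategory B), T ∈ distTriang (DerivedCategory B) →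
      P T.obj₁ → P T.obj₃ → P T.obj₂)
    (h0 : ∀ X : DerivedCategory B, IsZero X → P X) :
    ∀ (k : ℕ) (a : ℤ) (E : CochainComplex B ℤ),
      (∀ q, q < a → IsZero (E.X q)) → (∀ q, a + k ≤ q → IsZero (E.X q)) →
      (∀ q, P ((DerivedCategory.singleFunctor B q).obj (E.X q))) →
      P (DerivedCategory.Q.obj E) := by
  intro k
  induction k with
  | zero =>
    intro a E h1 h2 _
    refine h0 _ (Functor.map_isZero DerivedCategory.Q ?_)
    rw [IsZero.iff_id_eq_zero]
    refine HomologicalComplex.hom_ext _ _ fun i => ?_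
    rcases lt_or_ge i a with hi | hi
    · exact (h1 i hi).eq_of_src _ _
    · exact (h2 i (by simpa using hi)).eq_of_src _ _
  | succ k ih =>
    intro a E h1 h2 hterm
    let c : ℤ := a + k
    let Q' : CochainComplex B ℤ ⥤ DerivedCategory B := DerivedCategory.Q
    have hgeq : P (Q'.obj (KFlat.Brutal.geq E c)) := by
      haveI : (KFlat.Brutal.geq E c).IsStrictlyGE c :=
        (CochainComplex.isStrictlyGE_iff _ c).2 fun q hq => KFlat.Brutal.isZero_geq E c hq
      haveI : (KFlat.Brutal.geq E c).IsStrictlyLE c :=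
        (CochainComplex.isStrictlyLE_iff _ c).2 fun q hq => by
          haveI := KFlat.Brutal.isIso_ι_f E c hq.le
          exact (h2 q (by push_cast; omega)).of_iso (asIso ((KFlat.Brutal.ι E c).f q))
      obtain ⟨M, ⟨e⟩⟩ := CochainComplex.exists_iso_single (KFlat.Brutal.geq E c) c
      haveI := KFlat.Brutal.isIso_ι_f E c (le_refl c)
      let eM : M ≅ E.X c :=
        (HomologicalComplex.singleObjXSelf (ComplexShape.up ℤ) c M).symm ≪≫
          (HomologicalComplex.eval B (ComplexShape.up ℤ) c).mapIso e.symm ≪≫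
          @asIso _ _ _ _ ((KFlat.Brutal.ι E c).f c) (KFlat.Brutal.isIso_ι_f E c (le_refl c))
      exact hiso ((DerivedCategory.singleFunctor B c).mapIso eM.symm ≪≫
        (DerivedCategory.singleFunctorIsoCompQ B c).app M ≪≫ Q'.mapIso e.symm) (hterm c)
    have hcok : P (Q'.obj (cokernel (KFlat.Brutal.ι E c))) := by
      refine ih a _ (fun q hq => KFlat.Brutal.isZero_cokernel' E c (h1 q hq))
        (fun q hq => KFlat.Brutal.isZero_cokernel E c hq) fun q => ?_
      rcases lt_or_ge q c with hq | hq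
      · haveI := KFlat.Brutal.isIso_cokernel_π E c hq
        exact hiso ((DerivedCategory.singleFunctor B q).mapIso
          (asIso ((cokernel.π (KFlat.Brutal.ι E c)).f q))) (hterm q)
      · exact h0 _ (Functor.map_isZero _ (KFlat.Brutal.isZero_cokernel E c hq))
    exact htri _ (DerivedCategory.triangleOfSES_distinguished (KFlat.Brutal.shortExact E c)) hgeq hcok

open Groth.Agent.H10Coh Groth.Agent.H16Derived.KFlat.Stalk

variable {X : Scheme.{u}}

/-- Extension by zero is exact. -/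
instance instPreservesFiniteLimitsExtZero (W : X.Opens) :
    PreservesFiniteLimits (CxOX.extZero W.ι) :=
  preservesFiniteLimits_extZero W

/-- `j_! O_X = O_X` on the whole scheme. -/
noncomputable def freeShTopIso : freeSh (⊤ : X.Opens) ≅ Coh.structureModule X where
  hom := (freeShEquiv ⊤ _).symm (1 : Γ(X, ⊤))
  inv := sectHom _ (freeShEquiv ⊤ _ (𝟙 _))
  hom_inv_id := (freeShEquiv ⊤ _).injective (by
    rw [freeShEquiv_comp]
    refine (congrArg _ (Equiv.apply_symm_apply (freeShEquiv ⊤ (Coh.structureModule X)) _)).trans ?_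
    exact sectHom_app_top _ _)
  inv_hom_id := by
    refine unit_hom_ext _ _ ?_
    have key := (freeShEquiv_comp (⊤ : X.Opens) (𝟙 _)
      ((freeShEquiv ⊤ (Coh.structureModule X)).symm (1 : Γ(X, ⊤)))).symm
    rw [Category.id_comp] at key
    refine Eq.trans ?_ (key.trans (Equiv.apply_symm_apply _ _))
    show ((freeShEquiv ⊤ (Coh.structureModule X)).symm (1 : Γ(X, ⊤))).app ⊤
      ((sectHom (freeSh ⊤) (freeShEquiv ⊤ (freeSh ⊤) (𝟙 _))).app ⊤ (1 : Γ(X, ⊤))) = _
    exact congrArg _ (sectHom_app_top _ _)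

/-- `j_!` of a free sheaf is a free sheaf. -/
noncomputable def extZeroFreeIso {U : Scheme.{u}} (j : U ⟶ X) [IsOpenImmersion j] :
    (CxOX.extZero j).obj (freeSh (⊤ : U.Opens)) ≅ freeSh (j ''ᵁ ⊤) :=
  let adj := CxOX.extZeroAdj j
  let E : ∀ M : X.Modules, ((CxOX.extZero j).obj (freeSh (⊤ : U.Opens)) ⟶ M) ≃
      (freeSh (j ''ᵁ ⊤) ⟶ M) := fun M =>
    ((adj.homEquiv _ M).trans (freeShEquiv ⊤ _)).trans (freeShEquiv (j ''ᵁ ⊤) M).symm
  have hE : ∀ {M N : X.Modules} (g : M ⟶ N) (h : (CxOX.extZero j).obj (freeSh (⊤ : U.Opens)) ⟶ M),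
      E N (h ≫ g) = E M h ≫ g := fun {M N} g h => by
    apply (freeShEquiv (j ''ᵁ ⊤) N).injective
    simp only [E, Equiv.trans_apply]
    rw [freeShEquiv_comp]
    refine (Equiv.apply_symm_apply (freeShEquiv (j ''ᵁ ⊤) N) _).trans ?_
    refine Eq.trans ?_ (congrArg _ (Equiv.apply_symm_apply (freeShEquiv (j ''ᵁ ⊤) M) _)).symm
    rw [Adjunction.homEquiv_naturality_right, freeShEquiv_comp]
    rfl
  { hom := (E _).symm (𝟙 _)
    inv := E _ (𝟙 _)
    hom_inv_id := (E _).injective (by rw [hE, Equiv.apply_symm_apply, Category.id_comp])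
    inv_hom_id := by rw [← hE, Category.id_comp, Equiv.apply_symm_apply] }

/-- `(j_! O_A)` cut down to `W ≤ A` is the free sheaf on `W`. -/
theorem nonempty_E_extZero_iso {W A : X.Opens} (h : W ≤ A) :
    Nonempty ((MV.E W).obj ((CxOX.extZero A.ι).obj (Coh.structureModule (A : Scheme.{u}))) ≅
      freeSh W) := by
  haveI := MV.isIso_extZero_unit A
  exact ⟨(CxOX.extZero W.ι).mapIso
      (((Scheme.Modules.restrictFunctorCongr (X.homOfLE_ι h).symm ≪≫
          Scheme.Modules.restrictFunctorComp (X.homOfLE h) A.ι).app _) ≪≫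
        (Scheme.Modules.restrictFunctor (X.homOfLE h)).mapIso
          ((asIso (CxOX.extZeroAdj A.ι).unit).app _).symm ≪≫
        Scheme.Modules.restrictUnitIso (X.homOfLE h) ≪≫ freeShTopIso.symm) ≪≫
    extZeroFreeIso W.ι ≪≫ eqToIso (congrArg freeSh W.ι_image_top)⟩

/-- A property of objects stable under isomorphisms, shifts and extensions. -/
structure Stable (P : DCoh.D X → Prop) : Prop where
  of_iso : ∀ {K K' : DCoh.D X}, (K ≅ K') → P K → P K'
  shift : ∀ {K : DCoh.D X}, P K → ∀ n : ℤ, P (K⟦n⟧)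
  ext₂ : ∀ T : Triangle (DCoh.D X), T ∈ distTriang (DCoh.D X) → P T.obj₁ → P T.obj₃ → P T.obj₂
  of_isZero : ∀ {K : DCoh.D X}, IsZero K → P K

variable {P : DCoh.D X → Prop}

lemma Stable.ext₃ (hP : Stable P) (T : Triangle (DCoh.D X)) (hT : T ∈ distTriang (DCoh.D X))
    (h₁ : P T.obj₁) (h₂ : P T.obj₂) : P T.obj₃ :=
  hP.ext₂ T.rotate (rot_of_distTriang T hT) h₂ (hP.shift h₁ 1)

lemma Stable.biprod (hP : Stable P) {K K' : DCoh.D X} (h : P K) (h' : P K') : P (K ⊞ K') :=
  hP.ext₂ _ (binaryBiproductTriangle_distinguished K K') h h'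

/-- Splitting off the first summand. -/
noncomputable def sigmaFinSuccIso {B : Type (u + 1)} [Category.{u} B] [Preadditive B]
    [HasFiniteCoproducts B] [HasBinaryBiproducts B] {n : ℕ} (f : Fin (n + 1) → B) :
    (∐ f) ≅ f 0 ⊞ ∐ fun i : Fin n => f i.succ where
  hom := Sigma.desc (Fin.cases biprod.inl
    fun i => Sigma.ι (fun i : Fin n => f i.succ) i ≫ biprod.inr)
  inv := Limits.biprod.desc (Sigma.ι f 0) (Sigma.desc fun i => Sigma.ι f i.succ)
  hom_inv_id := Sigma.hom_ext _ _ fun i => by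
    rw [Sigma.ι_desc_assoc, Category.comp_id]
    induction i using Fin.cases with
    | zero => simp
    | succ i => simp
  inv_hom_id := Limits.biprod.hom_ext' _ _ (by simp) (by
    rw [biprod.inr_desc_assoc, Category.comp_id]
    refine Sigma.hom_ext _ _ fun i => ?_
    rw [Sigma.ι_desc_assoc, Sigma.ι_desc, Fin.cases_succ])

/-- Finite direct sums under an additive functor. -/
theorem Stable.map_sigma (hP : Stable P) {B : Type (u + 1)} [Category.{u} B] [Preadditive B]
    [HasFiniteCoproducts B] [HasBinaryBiproducts B] (F : B ⥤ DCoh.D X) [F.Additive] :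
    ∀ (n : ℕ) (M : Fin n → B), (∀ i, P (F.obj (M i))) → P (F.obj (∐ M)) := by
  intro n
  induction n with
  | zero =>
    intro M _
    refine hP.of_isZero (Functor.map_isZero F ?_)
    exact (IsZero.iff_id_eq_zero _).2 (Sigma.hom_ext _ _ fun i => i.elim0)
  | succ n ih =>
    intro M h
    haveI := preservesBinaryBiproducts_of_preservesBiproducts F
    exact hP.of_iso ((F.mapBiprod _ _).symm ≪≫ F.mapIso (sigmaFinSuccIso M).symm)
      (hP.biprod (h 0) (ih _ fun i => h i.succ))

variable (hP : Stable P)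
  (hbase : ∀ W : X.Opens, IsAffineOpen W →
    P ((DerivedCategory.singleFunctor X.Modules 0).obj (freeSh W)))

include hP hbase in
/-- Free sheaves on quasi-compact opens. -/
theorem Stable.of_freeSh {W : X.Opens} [QuasiSeparatedSpace (W : Scheme.{u})]
    (hW : IsCompact (W : Set X)) :
    P ((DerivedCategory.singleFunctor X.Modules 0).obj (freeSh W)) := by
  haveI : CompactSpace (W : Scheme.{u}) := isCompact_iff_compactSpace.1 hW
  have h := qcqs_induction (X := (W : Scheme.{u}))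
    (fun U => P ((DerivedCategory.singleFunctor X.Modules 0).obj (freeSh (W.ι ''ᵁ U))))
    (fun U hU => hbase _ (hU.image_of_isOpenImmersion W.ι))
    (fun U V _ _ hU hV hUV => ?_) ⊤ isCompact_univ
  · simpa using h
  · have e₁ : W.ι ''ᵁ (U ⊔ V) = (W.ι ''ᵁ U) ⊔ (W.ι ''ᵁ V) :=
      TopologicalSpace.Opens.ext (Set.image_union _ _ _)
    have e₂ : W.ι ''ᵁ (U ⊓ V) = (W.ι ''ᵁ U) ⊓ (W.ι ''ᵁ V) :=
      TopologicalSpace.Opens.ext (Set.image_inter W.ι.isOpenEmbedding.injective)
    show P ((DerivedCategory.singleFunctor X.Modules 0).obj (freeSh (W.ι ''ᵁ (U ⊔ V))))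
    rw [e₁]
    obtain ⟨f, g, w, hS⟩ := exists_mv (W.ι ''ᵁ U) (W.ι ''ᵁ V)
    let F := DerivedCategory.singleFunctor X.Modules 0
    haveI := preservesBinaryBiproducts_of_preservesBiproducts F
    refine hP.ext₃ _ hS.singleTriangle_distinguished ?_ (hP.of_iso (F.mapBiprod _ _).symm (hP.biprod hU hV))
    show P (F.obj (freeSh ((W.ι ''ᵁ U) ⊓ (W.ι ''ᵁ V))))
    rw [← e₂]; exact hUV

/-- `K|_A` has a bounded model with free terms. -/
def FreeModel {U : Scheme.{u}} (j : U ⟶ X) [IsOpenImmersion j] (K : DCoh.D X) : Prop :=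
  ∃ E : CochainComplex U.Modules ℤ, (∃ a b : ℤ, DCoh.VanishesOutside E a b) ∧
    (∀ q, ∃ n, Nonempty (E.X q ≅ FlatMod.freeMod U n)) ∧
    Nonempty (DerivedCategory.Q.obj E ≅ (rd j).obj K)

theorem FreeModel.pull {U W : Scheme.{u}} {j : U ⟶ X} [IsOpenImmersion j] {K : DCoh.D X}
    (h : FreeModel j K) (k : W ⟶ U) (l : W ⟶ X) [IsOpenImmersion k] [IsOpenImmersion l]
    (e : k ≫ j = l) : FreeModel l K := by
  obtain ⟨E, ⟨a, b, hab⟩, hE, ⟨α⟩⟩ := h
  exact ⟨_, ⟨a, b, fun q hq => (Scheme.Modules.restrictFunctor k).map_isZero (hab q hq)⟩,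
    fun q => ⟨(hE q).choose, ⟨(Scheme.Modules.restrictFunctor k).mapIso (hE q).choose_spec.some ≪≫
      (Scheme.Modules.restrictFunctorIsoPullback k).app _ ≪≫ freeModPullbackIso k _⟩⟩,
    ⟨(rdQ k).symm.app E ≪≫ (rd k).mapIso α ≪≫ (rdComp k j l e K).symm⟩⟩

/-- Free modules stay free on smaller opens. -/
theorem nonempty_restrict_free {U : Scheme.{u}} {G W : U.Opens} (h : G ≤ W) {M : U.Modules} {n : ℕ}
    (e : M.restrict W.ι ≅ FlatMod.freeMod (W : Scheme.{u}) n) :
    Nonempty ((Scheme.Modules.restrictFunctor G.ι).obj M ≅ FlatMod.freeMod (G : Scheme.{u}) n) := by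
  let a : (Scheme.Modules.restrictFunctor G.ι).obj M ≅
      (Scheme.Modules.restrictFunctor (U.homOfLE h)).obj (M.restrict W.ι) :=
    (Scheme.Modules.restrictFunctorCongr (U.homOfLE_ι h).symm ≪≫
      Scheme.Modules.restrictFunctorComp (U.homOfLE h) W.ι).app M
  let b := (Scheme.Modules.restrictFunctor (U.homOfLE h)).mapIso e
  let c := (Scheme.Modules.restrictFunctorIsoPullback (U.homOfLE h)).app
    (FlatMod.freeMod (W : Scheme.{u}) n)
  exact ⟨a ≪≫ b ≪≫ c ≪≫ freeModPullbackIso (U.homOfLE h) n⟩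

/-- Perfect objects have free models locally. -/
theorem exists_freeModel {K : DCoh.D X} (hK : DCoh.IsPerfect K) (x : X) :
    ∃ A : X.Opens, x ∈ A ∧ FreeModel A.ι K := by
  classical
  obtain ⟨V, hx, E, ⟨⟨a, b, hab⟩, hE⟩, ⟨α⟩⟩ := (isPerfect_iff K).1 hK x
  choose W n hW eW using fun q => hE q ⟨x, hx⟩
  let G : (V : Scheme.{u}).Opens := (Finset.Icc a b).inf W
  refine ⟨(G.ι ≫ V.ι).opensRange, ⟨⟨⟨x, hx⟩, H10Coh.finset_inf_mem _ _ fun q _ => hW q⟩, rfl⟩, ?_⟩
  have h : FreeModel (G.ι ≫ V.ι) K :=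
    ⟨((Scheme.Modules.restrictFunctor G.ι).mapHomologicalComplex (ComplexShape.up ℤ)).obj E,
      ⟨a, b, fun q hq => (Scheme.Modules.restrictFunctor G.ι).map_isZero (hab q hq)⟩, fun q => ?_,
      ⟨(rdQ G.ι).symm.app E ≪≫ (rd G.ι).mapIso α ≪≫ (rdComp G.ι V.ι _ rfl K).symm⟩⟩
  · exact h.pull (G.ι ≫ V.ι).isoOpensRange.inv _ ((G.ι ≫ V.ι).isoOpensRange_inv_comp)
  · by_cases hq : q ∈ Finset.Icc a b
    · have hle : G ≤ W q := Finset.inf_le hq
      exact ⟨n q, nonempty_restrict_free hle (eW q).some⟩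
    · refine ⟨0, ⟨IsZero.iso ((Scheme.Modules.restrictFunctor G.ι).map_isZero (hab q ?_)) ?_⟩⟩
      · simp only [Finset.mem_Icc] at hq; omega
      · exact (IsZero.iff_id_eq_zero _).2 (Sigma.hom_ext _ _ fun i => i.elim0)

/-- `j_!(K|_W)`. -/
noncomputable abbrev cut (W : X.Opens) (K : DCoh.D X) : DCoh.D X :=
  (CxOX.extZeroD W.ι).obj ((DCoh.restrictD W.ι).obj K)

/-- Cutting twice. -/
theorem nonempty_cut_cut {W A : X.Opens} (h : W ≤ A) (K : DCoh.D X) :
    Nonempty (cut W (cut A K) ≅ cut W K) := by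
  let C := DerivedCategory.Q.objPreimage K
  let e : DerivedCategory.Q.obj C ≅ K := DerivedCategory.Q.objObjPreimageIso K
  let F := DCoh.restrictD W.ι ⋙ CxOX.extZeroD W.ι
  haveI : ∀ q, IsIso (((MV.EC W).map (MV.εC A C)).f q) := fun q => MV.isIso_E_map_ε h (C.X q)
  haveI : IsIso ((MV.EC W).map (MV.εC A C)) := HomologicalComplex.Hom.isIso_of_components _
  exact ⟨F.mapIso ((DCoh.restrictD A.ι ⋙ CxOX.extZeroD A.ι).mapIso e.symm ≪≫ MV.extZeroDIso A C) ≪≫
    MV.extZeroDIso W _ ≪≫ DerivedCategory.Q.mapIso (asIso ((MV.EC W).map (MV.εC A C))) ≪≫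
    (MV.extZeroDIso W C).symm ≪≫ F.mapIso e⟩

include hP hbase in
/-- The affine-free step. -/
theorem Stable.cut_of_le {A W : X.Opens} {K : DCoh.D X} (hA : FreeModel A.ι K) (h : W ≤ A)
    [QuasiSeparatedSpace (W : Scheme.{u})] (hW : IsCompact (W : Set X)) : P (cut W K) := by
  obtain ⟨E, ⟨a, b, hab⟩, hE, ⟨α⟩⟩ := hA
  let C := ((CxOX.extZero A.ι).mapHomologicalComplex (ComplexShape.up ℤ)).obj E
  let F := DCoh.restrictD W.ι ⋙ CxOX.extZeroD W.ι
  let e : cut A K ≅ DerivedCategory.Q.obj C :=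
    (CxOX.extZeroD A.ι).mapIso α.symm ≪≫ (CxOX.extZero A.ι).mapDerivedCategoryFactors.app E
  refine hP.of_iso ((MV.extZeroDIso W C).symm ≪≫ F.mapIso e.symm ≪≫ (nonempty_cut_cut h K).some) ?_
  let G := CxOX.extZero A.ι ⋙ MV.E W
  have hz : ∀ q, q < a ∨ b < q → IsZero (G.obj (E.X q)) := fun q hq => Functor.map_isZero _ (hab q hq)
  have hr : ∀ q, P ((DerivedCategory.singleFunctor X.Modules q).obj (G.obj (E.X q))) := fun q => by
    obtain ⟨n, ⟨en⟩⟩ := hE q
    refine hP.of_iso ((G ⋙ DerivedCategory.singleFunctor X.Modules q).mapIso en.symm) ?_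
    refine hP.map_sigma (G ⋙ DerivedCategory.singleFunctor X.Modules q) n _ fun _ => ?_
    refine hP.of_iso (((DerivedCategory.singleFunctors X.Modules).shiftIso (-q) q 0 (by omega)).app _ ≪≫
      (DerivedCategory.singleFunctor X.Modules q).mapIso (nonempty_E_extZero_iso h).some.symm) ?_
    exact hP.shift (hP.of_freeSh hbase hW) _
  exact bounded_induction P (fun e h => hP.of_iso e h) hP.ext₂ (fun Z hZ => hP.of_isZero hZ)
    (b + 1 - a).toNat a _ (fun q hq => hz q (Or.inl hq)) (fun q hq => hz q (Or.inr (by omega))) hr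

include hP in
/-- Mayer–Vietoris step for cut objects. -/
theorem Stable.cut_sup {U V : X.Opens} {K : DCoh.D X} (hU : P (cut U K)) (hV : P (cut V K))
    (hUV : P (cut (U ⊓ V) K)) : P (cut (U ⊔ V) K) := by
  obtain ⟨a, b, c, hT⟩ := MV.exists_triangle_sup U V K
  exact hP.ext₃ _ hT hUV (hP.biprod hU hV)

/-- The cut at the whole scheme. -/
theorem nonempty_cut_top (K : DCoh.D X) : Nonempty (cut ⊤ K ≅ K) := by
  let C := DerivedCategory.Q.objPreimage K
  let e : DerivedCategory.Q.obj C ≅ K := DerivedCategory.Q.objObjPreimageIso K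
  haveI : ∀ q, IsIso ((MV.εC (⊤ : X.Opens) C).f q) := fun q =>
    isIso_of_stalk _ fun x => MV.isIso_stalk_ε ⊤ (C.X q) x trivial
  haveI : IsIso (MV.εC (⊤ : X.Opens) C) := HomologicalComplex.Hom.isIso_of_components _
  exact ⟨(DCoh.restrictD (⊤ : X.Opens).ι ⋙ CxOX.extZeroD (⊤ : X.Opens).ι).mapIso e.symm ≪≫
    MV.extZeroDIso ⊤ C ≪≫ DerivedCategory.Q.mapIso (asIso (MV.εC ⊤ C)) ≪≫ e⟩

include hP hbase in
/-- Induction for perfect objects on quasi-compact quasi-separated schemes. -/
theorem Stable.of_isPerfect [CompactSpace X] [QuasiSeparatedSpace X] {K : DCoh.D X}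
    (hK : DCoh.IsPerfect K) : P K := by
  classical
  choose A hA hmod using exists_freeModel hK
  have hqs : ∀ W : X.Opens, QuasiSeparatedSpace (W : Scheme.{u}) := fun W =>
    W.ι.isOpenEmbedding.quasiSeparatedSpace
  -- a finite cover by affine opens inside the good opens
  choose W hW hxW hWA using fun x : X => X.isBasis_affineOpens.exists_subset_of_mem_open
    (hA x) (A x).2
  have hcov : (Set.univ : Set X) ⊆ ⋃ x, W x := fun x _ => Set.mem_iUnion.2 ⟨x, hxW x⟩
  obtain ⟨t, ht⟩ := isCompact_univ.elim_finite_subcover W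
    (fun x => (hW x).choose_spec.2 ▸ (hW x).choose.2) hcov
  refine hP.of_iso (nonempty_cut_top K).some ?_
  let U : X → X.Opens := fun x => (hW x).choose
  have hUW : ∀ x, (U x : Set X) = W x := fun x => (hW x).choose_spec.2
  have hUaff : ∀ x, IsAffineOpen (U x) := fun x => (hW x).choose_spec.1
  have hUA : ∀ x, U x ≤ A x := fun x y hy => hWA x (by rw [← hUW x]; exact hy)
  have key : ∀ s : Finset X, IsCompact ((s.sup U : X.Opens) : Set X) ∧ P (cut (s.sup U) K) := by
    intro s
    induction s using Finset.induction_on with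
    | empty =>
      rw [Finset.sup_empty]
      refine ⟨by simp, hP.of_isZero ?_⟩
      refine IsZero.of_iso (Functor.map_isZero DerivedCategory.Q ?_)
        ((DCoh.restrictD (⊥ : X.Opens).ι ⋙ CxOX.extZeroD (⊥ : X.Opens).ι).mapIso
          (DerivedCategory.Q.objObjPreimageIso K).symm ≪≫ MV.extZeroDIso ⊥ _)
      refine (IsZero.iff_id_eq_zero _).2 (HomologicalComplex.hom_ext _ _ fun q => ?_)
      haveI : IsIso (0 : (MV.E (⊥ : X.Opens)).obj ((DerivedCategory.Q.objPreimage K).X q) ⟶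
          (MV.E (⊥ : X.Opens)).obj ((DerivedCategory.Q.objPreimage K).X q)) :=
        isIso_of_stalk _ fun y => by
          have hz := MV.isZero_stalk_E (⊥ : X.Opens) ((DerivedCategory.Q.objPreimage K).X q) y
            (Set.notMem_empty y)
          exact isIso_of_source_target_iso_zero _ hz.isoZero hz.isoZero
      exact ((isIsoZeroEquiv ((MV.E (⊥ : X.Opens)).obj ((DerivedCategory.Q.objPreimage K).X q))
        ((MV.E (⊥ : X.Opens)).obj ((DerivedCategory.Q.objPreimage K).X q))).toFun inferInstance).1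
    | insert x s hxs ih =>
      rw [Finset.sup_insert]
      haveI := hqs (U x)
      haveI := hqs (U x ⊓ s.sup U)
      exact ⟨by simpa using (hUaff x).isCompact.union ih.1,
        hP.cut_sup (hP.cut_of_le hbase (hmod x) (hUA x) (hUaff x).isCompact) ih.2
          (hP.cut_of_le hbase (hmod x) (inf_le_left.trans (hUA x))
            (QuasiSeparatedSpace.inter_isCompact _ _ (U x).2 (hUaff x).isCompact (s.sup U).2 ih.1))⟩
  have htop : t.sup U = ⊤ := by
    refine top_le_iff.1 fun y _ => ?_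
    obtain ⟨x, hx, hy⟩ := Set.mem_iUnion₂.1 (ht (Set.mem_univ y))
    exact Finset.le_sup (f := U) hx (by rw [← hUW x] at hy; exact hy)
  exact htop ▸ (key t).2

/-- Relative compactness is stable. -/
theorem stable_rel : Stable (X := X) Rel where
  of_iso := Rel.of_iso
  shift h n := h.shift n
  ext₂ _ hT h₁ h₃ := Rel.ext₂ hT h₁ h₃
  of_isZero hZ _ _ _ _ _ _ := ⟨∅, (Functor.map_isZero _ hZ).eq_of_src _ _⟩

/-- Perfect objects on quasi-compact quasi-separated schemes are relatively compact. -/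
theorem rel_of_isPerfect [CompactSpace X] [QuasiSeparatedSpace X] {K : DCoh.D X}
    (hK : DCoh.IsPerfect K) : Rel K :=
  stable_rel.of_isPerfect (fun _ hW => rel_affine hW) hK

end Groth.Agent.H16Derived.QCohD
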