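import Groth.Agent.H16Derived.QCohD.Perfect

/-!
# Maps from perfect objects into very negative quasi-coherent objects vanish
-/

set_option autoImplicit false
set_option linter.style.haveILetI false

universe u

open CategoryTheory CategoryTheory.Limits CategoryTheory.Pretriangulated AlgebraicGeometry
open DerivedCategory DerivedCategory.TStructure

attribute [local instance] HasDerivedCategory.standard

namespace Groth.Agent.H16Derived.QCohD.HomVanish

open Groth.Agent.H10Coh Groth.Agent.H16Derived.QCohD Groth.Agent.H16Derived.KFlat.Stalk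

variable {X : Scheme.{u}}

/-- Maps from `K` into quasi-coherent objects concentrated below `c` vanish. -/
def Van (K : DCoh.D X) : Prop :=
  ∃ c : ℤ, ∀ (L : DCoh.D X), DCoh.IsQCohD L → ∀ b : ℤ, b < c → L.IsLE b → ∀ φ : K ⟶ L, φ = 0

theorem isQCohD_shift {L : DCoh.D X} (h : DCoh.IsQCohD L) (n : ℤ) : DCoh.IsQCohD (L⟦n⟧) :=
  homP_shift Coh.IsQCoh isQCoh_iso h n

theorem stable_van : Stable (X := X) Van where
  of_iso {K K'} e := fun ⟨c, hc⟩ => ⟨c, fun L hL b hb hLE φ => by
    rw [← cancel_epi e.hom, comp_zero]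
    exact hc L hL b hb hLE _⟩
  shift {K} := fun ⟨c, hc⟩ n => ⟨c - n, fun L hL b hb hLE φ => by
    haveI : t.IsLE L b := hLE
    have hsh : t.IsLE (L⟦(-n)⟧) (b + n) := t.isLE_shift L b (-n) (b + n) (by omega)
    let e := (shiftEquiv (DCoh.D X) n).toAdjunction.homEquiv K L
    refine e.injective ?_
    exact (hc _ (isQCohD_shift hL (-n)) (b + n) (by omega) hsh (e φ)).trans
      (hc _ (isQCohD_shift hL (-n)) (b + n) (by omega) hsh (e 0)).symm⟩
  ext₂ T hT := fun ⟨c₁, h₁⟩ ⟨c₃, h₃⟩ => ⟨min c₁ c₃, fun L hL b hb hLE φ => by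
    obtain ⟨ψ, rfl⟩ := Triangle.yoneda_exact₂ T hT φ
      (h₁ L hL b (lt_of_lt_of_le hb (min_le_left _ _)) hLE _)
    rw [h₃ L hL b (lt_of_lt_of_le hb (min_le_right _ _)) hLE ψ, comp_zero]⟩
  of_isZero hZ := ⟨0, fun L _ b _ _ φ => hZ.eq_of_src _ _⟩

theorem van_affine {W : X.Opens} (hW : IsAffineOpen W) :
    Van ((DerivedCategory.singleFunctor X.Modules 0).obj (freeSh W)) :=
  ⟨0, fun L hL b hb hLE φ => by
    haveI := hLE
    exact (bijective_θ_affine hL hW 0).1 ((isZero_of_isLE L b 0 hb).eq_of_tgt _ _)⟩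

theorem van_of_isPerfect [CompactSpace X] [QuasiSeparatedSpace X] {K : DCoh.D X}
    (hK : DCoh.IsPerfect K) : Van K :=
  stable_van.of_isPerfect (fun _ hW => van_affine hW) hK

end Groth.Agent.H16Derived.QCohD.HomVanish
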