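import Groth.Agent.H16Derived.QCohD.Equiv
import Groth.Agent.H16Derived.KFlat.SheafTri
import Groth.Agent.H16Derived.KFlat.TildeStalk
import Groth.Agent.H16Derived.KFlat.PerfTilde
import Groth.Agent.H16Derived.KFlat.LpullLocal
import Groth.Agent.H4DR.TorAmp.Exists
import Groth.Agent.H17.OmegaAffine
import Groth.Agent.H10Coh.TildeExact
import Groth.Agent.H16Derived.KFlat.PerfConcD
import Groth.Agent.H10Coh.QCohLocal

/-!
# Derived pullback of quasi-coherent complexes
-/

set_option autoImplicit false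
set_option linter.style.haveILetI false

universe u

open CategoryTheory CategoryTheory.Limits AlgebraicGeometry

attribute [local instance] HasDerivedCategory.standard

namespace Groth.Agent.H16Derived.QCohD

open Groth.Agent.H16Derived.KFlat Groth.Agent.H16Derived.KFlat.Stalk Groth.Agent.H4DR.TorAmp

section Ring

variable {A B : Type u} [CommRing A] [CommRing B]

/-- `tilde` is exact (over `CommRingCat.of`). -/
instance preservesFiniteLimits_tilde_of (A : Type u) [CommRing A] :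
    PreservesFiniteLimits (tilde.functor (CommRingCat.of A)) :=
  H10Coh.tilde_preservesFiniteLimits (R := CommRingCat.of A)

/-- The tilde of a K-flat complex is K-flat. -/
theorem kflat_tilde {P : DRing.Cx A} (hP : KF A P) : kflat (Spec (CommRingCat.of A)) (tfCx P) :=
  (isKFlat_iff_stalk _).2 fun x =>
    letI : Algebra A ((Spec (CommRingCat.of A)).presheaf.stalk x) :=
      KFlat.TildeStalk.algebra (R := CommRingCat.of A) x
    KFlat.BaseChange.isKFlat P _
    (fun q => KFlat.TildeStalk.stalkEquiv (R := CommRingCat.of A) (P.X q) x)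
    (fun q t => (KFlat.TildeStalk.stalkLinMap_naturality (R := CommRingCat.of A) (P.X q) x
      (P.d q (q + 1)) t).symm)
    ((isKFlat_iff_homology _ _).1 hP)

/-- Tilde on K-flat complexes. -/
noncomputable def tfLift (A : Type u) [CommRing A] :
    (KF A).FullSubcategory ⥤ (kflat (Spec (CommRingCat.of A))).FullSubcategory :=
  (kflat _).lift ((KF A).ι ⋙ (tf A).mapHomologicalComplex (ComplexShape.up ℤ))
    fun P => kflat_tilde P.property

variable (φ : A →+* B)

/-- Pullback of tilde, on complexes. -/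
noncomputable def pullTildeCxIso :
    (tf A).mapHomologicalComplex (ComplexShape.up ℤ) ⋙
        (Scheme.Modules.pullback (Spec.map (CommRingCat.ofHom φ))).mapHomologicalComplex (ComplexShape.up ℤ) ≅
      (ModuleCat.extendScalars.{u, u, u} φ).mapHomologicalComplex (ComplexShape.up ℤ) ⋙
        (tf B).mapHomologicalComplex (ComplexShape.up ℤ) :=
  NatIso.ofComponents (fun P => HomologicalComplex.Hom.isoOfComponents
    (fun i => (H17.OmegaAffine.pullbackTildeIso (CommRingCat.ofHom φ)).app (P.X i))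
    fun i j _ => ((H17.OmegaAffine.pullbackTildeIso (CommRingCat.ofHom φ)).hom.naturality (P.d i j)).symm)
    fun {P P'} g => by
      refine HomologicalComplex.hom_ext _ _ fun i => ?_
      exact (H17.OmegaAffine.pullbackTildeIso (CommRingCat.ofHom φ)).hom.naturality (g.f i)

variable [DRing.HasLBaseChange φ] [DCoh.HasLpull (Spec.map (CommRingCat.ofHom φ))]

/-- Both composites on K-flat complexes of modules. -/
noncomputable def common : (KF A).FullSubcategory ⥤ DCoh.D (Spec (CommRingCat.of B)) :=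
  (KF A).ι ⋙ (ModuleCat.extendScalars.{u, u, u} φ).mapHomologicalComplex (ComplexShape.up ℤ) ⋙
    (tf B).mapHomologicalComplex (ComplexShape.up ℤ) ⋙ DerivedCategory.Q

/-- `(P ⊗_A B)~` computes base change followed by tilde. -/
noncomputable def baseChangeTildeIso :
    ((KF A).ι ⋙ DerivedCategory.Q) ⋙ DRing.LBaseChange φ ⋙ DCoh.tildeD (CommRingCat.of B) ≅
      common φ :=
  (Functor.associator _ _ _).symm ≪≫
    Functor.isoWhiskerRight
      (LeftDerTri.derivedIso ((DRing.baseChangeKh φ).totalLeftDerivedCounit DerivedCategory.Qh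
        (HomotopyCategory.quasiIso (ModuleCat.{u} A) (ComplexShape.up ℤ))) (extAdapted φ))
      (DCoh.tildeD (CommRingCat.of B)) ≪≫
    Functor.isoWhiskerLeft ((KF A).ι ⋙ (ModuleCat.extendScalars.{u, u, u} φ).mapHomologicalComplex
      (ComplexShape.up ℤ)) (tf B).mapDerivedCategoryFactors

/-- `(P ⊗_A B)~` computes tilde followed by derived pullback. -/
noncomputable def tildePullIso :
    ((KF A).ι ⋙ DerivedCategory.Q) ⋙
        DCoh.tildeD (CommRingCat.of A) ⋙ DCoh.Lpull (Spec.map (CommRingCat.ofHom φ)) ≅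
      common φ :=
  Functor.isoWhiskerRight (Functor.isoWhiskerLeft (KF A).ι (tf A).mapDerivedCategoryFactors)
      (DCoh.Lpull (Spec.map (CommRingCat.ofHom φ))) ≪≫
    Functor.isoWhiskerLeft (tfLift A) (lpullIso (Spec.map (CommRingCat.ofHom φ))) ≪≫
    Functor.isoWhiskerLeft (KF A).ι (Functor.isoWhiskerRight (pullTildeCxIso φ) DerivedCategory.Q)

/-- Derived base change is derived pullback. -/
noncomputable def lpullTildeIso :
    DRing.LBaseChange φ ⋙ DCoh.tildeD (CommRingCat.of B) ≅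
      DCoh.tildeD (CommRingCat.of A) ⋙ DCoh.Lpull (Spec.map (CommRingCat.ofHom φ)) :=
  haveI := LeftDerTri.isLocalization (extAdapted φ)
  Localization.liftNatIso ((KF A).ι ⋙ DerivedCategory.Q) (LeftDerTri.qis (KF A))
    (((KF A).ι ⋙ DerivedCategory.Q) ⋙ DRing.LBaseChange φ ⋙ DCoh.tildeD (CommRingCat.of B))
    (((KF A).ι ⋙ DerivedCategory.Q) ⋙
      DCoh.tildeD (CommRingCat.of A) ⋙ DCoh.Lpull (Spec.map (CommRingCat.ofHom φ)))
    _ _ (baseChangeTildeIso φ ≪≫ (tildePullIso φ).symm)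

end Ring

/-- `Lf^*` preserves quasi-coherent cohomology between affine schemes. -/
theorem isQCohD_lpull_spec {A B : Type u} [CommRing A] [CommRing B] (φ : A →+* B)
    [DCoh.HasLpull (Spec.map (CommRingCat.ofHom φ))] (K : DCoh.D (Spec (CommRingCat.of A)))
    (hK : DCoh.IsQCohD K) :
    DCoh.IsQCohD ((DCoh.Lpull (Spec.map (CommRingCat.ofHom φ))).obj K) := by
  haveI := H4DR.TorAmp.hasLBaseChange φ
  obtain ⟨M, ⟨e⟩⟩ := (isQCohD_iff (CommRingCat.of A) K).1 hK
  refine (isQCohD_iff (CommRingCat.of B) _).2 ⟨(DRing.LBaseChange φ).obj M, ⟨?_⟩⟩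
  exact (lpullTildeIso φ).app M ≪≫ (DCoh.Lpull (Spec.map (CommRingCat.ofHom φ))).mapIso e

/-- Invariance of `D_QCoh` under isomorphism. -/
theorem isQCohD_iso {X : Scheme.{u}} {K L : DCoh.D X} (e : K ≅ L) (h : DCoh.IsQCohD K) :
    DCoh.IsQCohD L :=
  fun i => isQCoh_iso ((DerivedCategory.homologyFunctor X.Modules i).mapIso e) (h i)

/-- Restriction preserves quasi-coherent cohomology. -/
theorem isQCohD_rd {X U : Scheme.{u}} (j : U ⟶ X) [IsOpenImmersion j] {K : DCoh.D X}
    (h : DCoh.IsQCohD K) : DCoh.IsQCohD ((rd j).obj K) := fun i => by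
  haveI : (DCoh.HD K i).IsQuasicoherent := h i
  exact isQCoh_iso (homologyRdIso j K i).symm
    (Scheme.Modules.isQuasicoherent_restrictFunctor j (DCoh.HD K i))

/-- `D_QCoh` is local on an affine cover. -/
theorem isQCohD_of_affineCover {X : Scheme.{u}} {K : DCoh.D X} {I : Type u} (U : I → X.Opens)
    (hU : TopologicalSpace.IsOpenCover U) (hA : ∀ i, IsAffineOpen (U i))
    (h : ∀ i, DCoh.IsQCohD ((rd (hA i).fromSpec).obj K)) : DCoh.IsQCohD K := fun n =>
  H10Coh.isQuasicoherent_of_affineCover _ U hU hA fun i =>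
    isQCoh_iso (homologyRdIso (hA i).fromSpec K n) (h i n)

/-- `Lj^*` is restriction for an open immersion. -/
theorem lpull_openImmersion {X U : Scheme.{u}} (j : U ⟶ X) [IsOpenImmersion j] [DCoh.HasLpull j]
    (K : DCoh.D X) : Nonempty ((DCoh.Lpull j).obj K ≅ (rd j).obj K) := by
  obtain ⟨P, hP, ⟨e⟩⟩ := exists_kflat_rep K
  exact ⟨(DCoh.Lpull j).mapIso e.symm ≪≫ lpullObjIso j P hP ≪≫
    DerivedCategory.Q.mapIso ((NatIso.mapHomologicalComplex
      (Scheme.Modules.restrictFunctorIsoPullback j).symm (ComplexShape.up ℤ)).app P) ≪≫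
    ((rdQ j).app P).symm ≪≫ (rd j).mapIso e⟩

/-- Lifting of an affine chart. -/
theorem lpull_factor {X Y V Z : Scheme.{u}} (f : Y ⟶ X) [DCoh.HasLpull f] (jU : Z ⟶ Y)
    [IsOpenImmersion jU] (g : Z ⟶ V) (jV : V ⟶ X) [IsOpenImmersion jV] [DCoh.HasLpull g]
    (h : g ≫ jV = jU ≫ f) (K : DCoh.D X) :
    Nonempty ((rd jU).obj ((DCoh.Lpull f).obj K) ≅ (DCoh.Lpull g).obj ((rd jV).obj K)) := by
  haveI := hasLpull jU
  haveI := hasLpull jV
  haveI := hasLpull (jU ≫ f)
  haveI := hasLpull (g ≫ jV)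
  obtain ⟨a⟩ := lpull_openImmersion jU ((DCoh.Lpull f).obj K)
  obtain ⟨b⟩ := lpull_comp jU f K
  obtain ⟨c⟩ := lpull_comp g jV K
  obtain ⟨d⟩ := lpull_openImmersion jV K
  have key : ∀ (q : Z ⟶ X) [DCoh.HasLpull q], q = jU ≫ f →
      Nonempty ((DCoh.Lpull (jU ≫ f)).obj K ≅ (DCoh.Lpull q).obj K) := by
    intro q _ hq; subst hq; exact ⟨Iso.refl _⟩
  obtain ⟨e⟩ := key (g ≫ jV) h
  exact ⟨a.symm ≪≫ b ≪≫ e ≪≫ c.symm ≪≫ (DCoh.Lpull g).mapIso d⟩

/-- `Lf^*` preserves quasi-coherent cohomology. -/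
theorem isQCohD_lpull {X Y : Scheme.{u}} (f : Y ⟶ X) [DCoh.HasLpull f] {K : DCoh.D X}
    (hK : DCoh.IsQCohD K) : DCoh.IsQCohD ((DCoh.Lpull f).obj K) := by
  choose V U hV hU hy e using fun y : Y => show ∃ (V : X.Opens) (U : Y.Opens),
      IsAffineOpen V ∧ IsAffineOpen U ∧ y ∈ U ∧ U ≤ f ⁻¹ᵁ V by
    obtain ⟨_, ⟨V, hV : IsAffineOpen V, rfl⟩, hxV, -⟩ :=
      X.isBasis_affineOpens.exists_subset_of_mem_open (Set.mem_univ (f.base y)) isOpen_univ
    obtain ⟨_, ⟨U, hU : IsAffineOpen U, rfl⟩, hyU, hle⟩ :=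
      Y.isBasis_affineOpens.exists_subset_of_mem_open (show y ∈ f ⁻¹ᵁ V from hxV) (f ⁻¹ᵁ V).isOpen
    exact ⟨V, U, hV, hU, hyU, hle⟩
  refine isQCohD_of_affineCover U (eq_top_iff.2 fun y _ => TopologicalSpace.Opens.mem_iSup.2 ⟨y, hy y⟩)
    hU fun y => ?_
  haveI := hasLpull (Spec.map (f.appLE (V y) (U y) (e y)))
  obtain ⟨i⟩ := lpull_factor f (hU y).fromSpec (Spec.map (f.appLE (V y) (U y) (e y))) (hV y).fromSpec
    (IsAffineOpen.SpecMap_appLE_fromSpec f (hV y) (hU y) (e y)) K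
  exact isQCohD_iso i.symm (isQCohD_lpull_spec (f.appLE (V y) (U y) (e y)).hom
    ((rd (hV y).fromSpec).obj K) (isQCohD_rd _ hK))

end Groth.Agent.H16Derived.QCohD
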