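import Groth.Agent.H16Derived.QCohD.Tower

/-!
# Cohomology of derived limits of towers which stabilise in every degree
-/

set_option autoImplicit false
set_option linter.style.haveILetI false
set_option linter.unusedSectionVars false

universe w v u

open CategoryTheory CategoryTheory.Limits CategoryTheory.Pretriangulated CategoryTheory.Triangulated
open DerivedCategory DerivedCategory.TStructure

namespace Groth.Agent.H16Derived.QCohD

variable {A : Type u} [Category.{v} A] [Abelian A] [HasDerivedCategory.{w} A]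
  (P : A → Prop) (hiso : ∀ {M M' : A}, (M ≅ M') → P M → P M')
  (hzero : ∀ M : A, IsZero M → P M)
  {K : ℕ → DerivedCategory A} (tK : ∀ n, K (n + 1) ⟶ K n)

/-- A tower of bounded below objects with cohomology in `P` which stabilises in each degree. -/
structure StableTower (B : ℤ → ℕ) : Prop where
  isGE : ∀ n, (K n).IsGE (-(n : ℤ))
  homP : ∀ n, HomP P (K n)
  stable : ∀ (m : ℤ) (n : ℕ), B m ≤ n → IsIso ((homologyFunctor A m).map (tK n))

/-- Postcomposition with the transition map. -/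
noncomputable def gHom (S : DerivedCategory A) (n : ℕ) : (S ⟶ K (n + 1)) →+ (S ⟶ K n) :=
  AddMonoidHom.mk' (fun x => x ≫ tK n) fun _ _ => Preadditive.add_comp _ _ _ _ _ _

lemma gHom_apply (S : DerivedCategory A) (n : ℕ) (x : S ⟶ K (n + 1)) :
    gHom tK S n x = x ≫ tK n := rfl

variable {B : ℤ → ℕ} (hK : StableTower P tK B) {G : A} (hG : Acyclic P G)

include hiso hzero hG hK in
lemma bijective_gHom (m : ℤ) (n : ℕ) (h : B m ≤ n) :
    Function.Bijective (gHom tK ((singleFunctor A m).obj G) n) := by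
  haveI := hK.isGE
  have h1 := θ_bijective_of_isGE P hiso hzero hG (N := K (n + 1)) (-((n + 1 : ℕ) : ℤ)) (hK.homP _) m
  have h2 := θ_bijective_of_isGE P hiso hzero hG (N := K n) (-(n : ℤ)) (hK.homP _) m
  have := hK.stable m n h
  have h3 : Function.Bijective fun g : G ⟶ (homologyFunctor A m).obj (K (n + 1)) =>
      g ≫ (homologyFunctor A m).map (tK n) :=
    ⟨fun a b hab => (cancel_mono _).1 hab, fun b => ⟨b ≫ inv ((homologyFunctor A m).map (tK n)), by simp⟩⟩
  have e : θ G m ∘ gHom tK ((singleFunctor A m).obj G) n =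
      (fun g => g ≫ (homologyFunctor A m).map (tK n)) ∘ θ G m :=
    funext fun f => θ_comp G m f _
  exact (Function.Bijective.of_comp_iff' h2 _).1 (e ▸ h3.comp h1)

variable [HasProduct K] {L : DerivedCategory A} (f : L ⟶ ∏ᶜ K) (h : ∏ᶜ K ⟶ L⟦(1 : ℤ)⟧)
  (hT : Triangle.mk f (Pi.lift fun n : ℕ => Pi.π K n - Pi.π K (n + 1) ≫ tK n) h ∈
    distTriang (DerivedCategory A))

include hiso hzero hG hK hT in
lemma gen_injective_comp_π (m : ℤ) (n₀ : ℕ) (hn₀ : B m ≤ n₀)
    (a : (singleFunctor A m).obj G ⟶ L) (ha : a ≫ f ≫ Pi.π K n₀ = 0) : a = 0 := by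
  have h0 : a ≫ f = 0 := by
    refine Pi.hom_ext _ _ fun n => ?_
    rw [zero_comp, Category.assoc]
    refine tower_eq_zero (gHom tK ((singleFunctor A m).obj G)) (B m)
      (fun k hk => (bijective_gHom P hiso hzero tK hK hG m k hk).1)
      (fun k => a ≫ f ≫ Pi.π K k) (fun k => ?_) n₀ hn₀ ha n
    have hz : f ≫ (Pi.lift fun n : ℕ => Pi.π K n - Pi.π K (n + 1) ≫ tK n) = 0 :=
      comp_distTriang_mor_zero₁₂ _ hT
    have := congrArg (fun φ => a ≫ φ ≫ Pi.π K k) hz
    simp only [Category.assoc, Pi.lift_π, Preadditive.comp_sub, zero_comp, comp_zero,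
      sub_eq_zero] at this
    rw [this]
    simp [gHom_apply]
  have h1 : a⟦(1 : ℤ)⟧' ≫ f⟦(1 : ℤ)⟧' = 0 := by rw [← Functor.map_comp, h0, Functor.map_zero]
  obtain ⟨b, hb⟩ : ∃ b : ((singleFunctor A m).obj G)⟦(1 : ℤ)⟧ ⟶ ∏ᶜ K, a⟦(1 : ℤ)⟧' = b ≫ h :=
    Triangle.coyoneda_exact₁ _ hT (a⟦(1 : ℤ)⟧') h1
  let e : ((singleFunctor A m).obj G)⟦(1 : ℤ)⟧ ≅ (singleFunctor A (m - 1)).obj G :=
    ((singleFunctors A).shiftIso 1 (m - 1) m (by omega)).app G
  obtain ⟨x, hx⟩ := exists_tower_solution (gHom tK ((singleFunctor A (m - 1)).obj G))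
    (fun n => (e.inv ≫ b) ≫ Pi.π K n) (B (m - 1))
    fun n hn => (bijective_gHom P hiso hzero tK hK hG (m - 1) n hn).2
  have hb' : b = e.hom ≫ Pi.lift x ≫ Pi.lift fun n : ℕ => Pi.π K n - Pi.π K (n + 1) ≫ tK n := by
    rw [← Iso.inv_comp_eq]
    refine Pi.hom_ext _ _ fun n => ?_
    refine (hx n).symm.trans ?_
    rw [Category.assoc, Pi.lift_π, Preadditive.comp_sub, Pi.lift_π, Pi.lift_π_assoc]
    rfl
  have hz : (Pi.lift fun n : ℕ => Pi.π K n - Pi.π K (n + 1) ≫ tK n) ≫ h = 0 :=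
    comp_distTriang_mor_zero₂₃ _ hT
  apply (shiftFunctor (DerivedCategory A) (1 : ℤ)).map_injective
  rw [Functor.map_zero, hb, hb', Category.assoc, Category.assoc, hz, comp_zero, comp_zero]

include hiso hzero hK hT in
/-- The cohomology of the limit is the stable value. -/
theorem isIso_homology_π (T : Tests P) (m : ℤ) (n₀ : ℕ) (hn₀ : B m ≤ n₀) :
    IsIso ((homologyFunctor A m).map (f ≫ Pi.π K n₀)) := by
  haveI := hK.isGE
  haveI : Mono ((homologyFunctor A m).map (f ≫ Pi.π K n₀)) := by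
    refine Preadditive.mono_of_cancel_zero _ fun {W} φ hφ => T.hom_ext φ fun G hG g => ?_
    refine T.lift L m G hG _ fun G' hG' e he => ?_
    obtain ⟨a, ha⟩ := he
    have h2 := θ_bijective_of_isGE P hiso hzero (T.acyclic G' hG') (N := K n₀) (-(n₀ : ℤ))
      (hK.homP _) m
    have ha0 : a ≫ f ≫ Pi.π K n₀ = 0 := h2.1 (by
      rw [θ_comp, ha, θ_zero]
      simp only [Category.assoc, hφ, comp_zero])
    rw [← ha, gen_injective_comp_π P hiso hzero tK hK (T.acyclic G' hG') f h hT m n₀ hn₀ a ha0,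
      θ_zero]
  haveI : Epi ((homologyFunctor A m).map (f ≫ Pi.π K n₀)) := by
    refine Preadditive.epi_of_cancel_zero _ fun {W} ψ hψ => T.hom_ext ψ fun G hG g => ?_
    have hA := T.acyclic G hG
    obtain ⟨b, hb⟩ := (θ_bijective_of_isGE P hiso hzero hA (N := K n₀) (-(n₀ : ℤ)) (hK.homP _) m).2 g
    obtain ⟨x, hx0, hx⟩ := exists_tower_lift (M := fun n => (singleFunctor A m).obj G ⟶ K n)
      (gHom tK ((singleFunctor A m).obj G)) n₀
      (fun n hn => (bijective_gHom P hiso hzero tK hK hA m n (hn₀.trans hn)).2) b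
    have hcomp : Pi.lift x ≫ (Pi.lift fun n : ℕ => Pi.π K n - Pi.π K (n + 1) ≫ tK n) = 0 :=
      Pi.hom_ext _ _ fun n => by
        rw [Category.assoc, Pi.lift_π, Preadditive.comp_sub, Pi.lift_π, Pi.lift_π_assoc, zero_comp,
          sub_eq_zero]
        exact hx n
    obtain ⟨a, ha⟩ : ∃ a : (singleFunctor A m).obj G ⟶ L, Pi.lift x = a ≫ f :=
      Triangle.coyoneda_exact₂ _ hT (Pi.lift x) hcomp
    have hg : θ G m a ≫ (homologyFunctor A m).map (f ≫ Pi.π K n₀) = g := by
      rw [← θ_comp, ← Category.assoc, ← ha, Pi.lift_π, hx0, hb]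
    rw [← hg, Category.assoc, hψ, comp_zero]
  exact isIso_of_mono_of_epi _

end Groth.Agent.H16Derived.QCohD
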