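import Groth.Agent.H16Derived.QCohD.Rpush
import Groth.Agent.H16Derived.QCohD.TowerGen
import Groth.Agent.H16Derived.QCohD.Lpull

/-!
# Derived direct image of unbounded quasi-coherent complexes
-/

set_option autoImplicit false
set_option linter.style.haveILetI false

universe u

open CategoryTheory CategoryTheory.Limits CategoryTheory.Pretriangulated AlgebraicGeometry
open DerivedCategory DerivedCategory.TStructure

attribute [local instance] HasDerivedCategory.standard

namespace Groth.Agent.H16Derived.QCohD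

open Groth.Agent.H16Derived.KFlat.Stalk

/-- `Rf_*` exists. -/
theorem hasRpush {X Y : Scheme.{u}} (f : X ⟶ Y) : DCoh.HasRpush f := by
  haveI := isGrothendieckAbelian_modules (X := X)
  haveI : (DCoh.pushKh f).HasPointwiseRightDerivedFunctor
      (HomotopyCategory.quasiIso X.Modules (ComplexShape.up ℤ)) :=
    RDerived.hasPointwiseRightDerivedFunctor_of_resolutions DerivedCategory.Qh _ _ fun M => by
      obtain ⟨I, hI, s, hs⟩ := exists_local M
      exact ⟨_, s, hs, fun K => CochainComplex.IsKInjective.Qh_map_bijective K I⟩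
  exact inferInstance

variable {X S : Scheme.{u}} (f : X ⟶ S) [DCoh.HasRpush f] [QuasiCompact f] [QuasiSeparated f] {N : ℕ}

/-- Truncating below does not change high cohomology. -/
theorem isIso_rpush_truncGEπ (hN : Bound f N) (Y : DCoh.D X) (a b : ℤ) [Y.IsGE a]
    (hY : DCoh.IsQCohD Y) (m : ℤ) (hm : b - 1 + N ≤ m) :
    IsIso ((homologyFunctor S.Modules m).map ((DCoh.Rpush f).map ((t.truncGEπ b).app Y))) := by
  letI := rpushCommShift f
  haveI := rpush_isTriangulated f
  have hRT := (DCoh.Rpush f).map_distinguished _ (t.triangleLTGE_distinguished b Y)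
  haveI : DerivedCategory.IsGE ((t.truncLT b).obj Y) a := DTrunc.isGE_truncLT Y b a
  haveI : DerivedCategory.IsLE ((t.truncLT b).obj Y) (b - 1) := inferInstanceAs (t.IsLE _ _)
  have hz := vanish_isGE f hN ((t.truncLT b).obj Y) a (b - 1)
    (homP_truncLT Coh.IsQCoh isQCoh_iso isQCoh_isZero hY b)
  haveI : Mono ((homologyFunctor S.Modules m).map ((DCoh.Rpush f).map ((t.truncGEπ b).app Y))) :=
    (HomologySequence.exact₂ _ hRT m).mono_g ((hz m hm).eq_of_src _ _)
  haveI : Epi ((homologyFunctor S.Modules m).map ((DCoh.Rpush f).map ((t.truncGEπ b).app Y))) :=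
    (HomologySequence.exact₃ _ hRT m (m + 1) rfl).epi_f ((hz (m + 1) (by omega)).eq_of_tgt _ _)
  exact isIso_of_mono_of_epi _

/-- The transition maps of the truncations stabilise after `Rf_*`. -/
theorem isIso_rpush_trMap (hN : Bound f N) (K : DCoh.D X) (hK : DCoh.IsQCohD K) (m : ℤ) (n : ℕ)
    (hm : -(n : ℤ) - 1 + N ≤ m) :
    IsIso ((homologyFunctor S.Modules m).map ((DCoh.Rpush f).map (trMap K n))) := by
  haveI := isIso_rpush_truncGEπ f hN (tr K (n + 1)) (-((n + 1 : ℕ) : ℤ)) (-(n : ℤ))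
    (homP_truncGE Coh.IsQCoh isQCoh_iso isQCoh_isZero hK _) m hm
  haveI : IsIso ((t.truncGE (-(n : ℤ))).map ((t.truncGEπ (-((n + 1 : ℕ) : ℤ))).app K)) :=
    t.isIso_truncGE_map_truncGEπ_app _ _ (by omega) K
  have e : (t.truncGEπ (-(n : ℤ))).app (tr K (n + 1)) =
      trMap K n ≫ (t.truncGE (-(n : ℤ))).map ((t.truncGEπ (-((n + 1 : ℕ) : ℤ))).app K) := by
    refine t.from_truncGE_obj_ext ?_
    rw [reassoc_of% (π_trMap K n)]
    exact ((t.truncGEπ (-(n : ℤ))).naturality ((t.truncGEπ (-((n + 1 : ℕ) : ℤ))).app K))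
  rw [show trMap K n = (t.truncGEπ (-(n : ℤ))).app (tr K (n + 1)) ≫
    inv ((t.truncGE (-(n : ℤ))).map ((t.truncGEπ (-((n + 1 : ℕ) : ℤ))).app K)) by simp [e]]
  rw [Functor.map_comp, Functor.map_comp]
  infer_instance

/-- The truncations after `Rf_*` form a stable tower. -/
theorem stableTower (hN : Bound f N) (K : DCoh.D X) (hK : DCoh.IsQCohD K) :
    StableTower (Coh.IsQCoh (X := S)) (K := fun n => (DCoh.Rpush f).obj (tr K n))
      (fun n => (DCoh.Rpush f).map (trMap K n)) (fun m => (N - m).toNat) := by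
  haveI := fun n : ℕ => (inferInstanceAs (t.IsGE (tr K n) (-(n : ℤ))) :
    DerivedCategory.IsGE (tr K n) (-(n : ℤ)))
  exact ⟨fun n => isGE_rpush f _ _, fun n => good_isGE f hN (tr K n) (-(n : ℤ))
      (homP_truncGE Coh.IsQCoh isQCoh_iso isQCoh_isZero hK _),
    fun m n h => isIso_rpush_trMap f hN K hK m n (by omega)⟩

/-- The cohomology of `Rf_* K` is that of a truncation. -/
theorem isIso_rpush_truncGEπ_unbounded (hN : Bound f N) (K : DCoh.D X) (hK : DCoh.IsQCohD K)
    (m : ℤ) (n : ℕ) (hn : (N - m).toNat ≤ n) :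
    IsIso ((homologyFunctor S.Modules m).map ((DCoh.Rpush f).map ((t.truncGEπ (-(n : ℤ))).app K))) := by
  letI := rpushCommShift f
  haveI := rpush_isTriangulated f
  haveI := hasProduct_nat (tr (A := X.Modules) K)
  haveI := hasProduct_nat (fun n => (DCoh.Rpush f).obj (tr (A := X.Modules) K n))
  haveI := rpush_isRightAdjoint f
  haveI : PreservesLimit (Discrete.functor (tr (A := X.Modules) K)) (DCoh.Rpush f) :=
    (Adjunction.ofIsRightAdjoint (DCoh.Rpush f)).rightAdjoint_preservesLimits.preservesLimitsOfShape.preservesLimit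
  obtain ⟨c, hT⟩ := exists_triangle_truncations hK
  let G := DCoh.Rpush f
  let e := PreservesProduct.iso G (tr (A := X.Modules) K)
  let π := Pi.lift fun n : ℕ => (t.truncGEπ (-(n : ℤ))).app K
  have hT' : Triangle.mk (G.map π ≫ e.hom)
      (Pi.lift fun n : ℕ => Pi.π (fun n => G.obj (tr K n)) n -
        Pi.π (fun n => G.obj (tr K n)) (n + 1) ≫ G.map (trMap K n))
      (e.inv ≫ G.map c ≫ (G.commShiftIso (1 : ℤ)).hom.app K) ∈ distTriang (DCoh.D S) := by
    refine isomorphic_distinguished _ (G.map_distinguished _ hT) _ ?_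
    refine Triangle.isoMk _ _ (Iso.refl _) e.symm e.symm ?_ ?_ ?_
    · show (G.map π ≫ e.hom) ≫ e.inv = 𝟙 _ ≫ G.map π
      rw [Category.assoc, e.hom_inv_id, Category.comp_id, Category.id_comp]
    · show Pi.lift _ ≫ e.inv = e.inv ≫ G.map (oneSub K)
      rw [Iso.comp_inv_eq, Category.assoc, Iso.eq_inv_comp]
      refine Pi.hom_ext _ _ fun n => ?_
      simp [e, G, ← Functor.map_comp, Functor.map_sub, piComparison_comp_π_assoc, Preadditive.comp_sub]
    · show (e.inv ≫ G.map c ≫ (G.commShiftIso (1 : ℤ)).hom.app K) ≫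
          (shiftFunctor _ (1 : ℤ)).map (𝟙 _) = e.inv ≫ G.map c ≫ (G.commShiftIso (1 : ℤ)).hom.app K
      rw [CategoryTheory.Functor.map_id]
      exact Category.comp_id _
  have h := isIso_homology_π (Coh.IsQCoh (X := S)) (fun e h => isQCoh_iso e h) isQCoh_isZero
    (fun n => G.map (trMap K n)) (stableTower f hN K hK) (G.map π ≫ e.hom) _ hT' (affineTests S) m n hn
  have e' : (G.map π ≫ e.hom) ≫ Pi.π (fun n => G.obj (tr K n)) n =
      G.map ((t.truncGEπ (-(n : ℤ))).app K) := by
    rw [Category.assoc, show e.hom ≫ Pi.π (fun n => G.obj (tr K n)) n = G.map (Pi.π (tr K) n) from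
      piComparison_comp_π G (tr K) n, ← Functor.map_comp, Pi.lift_π]
  rw [e'] at h
  exact h

/-- `Rf_*` preserves quasi-coherent cohomology over a quasi-compact base. -/
theorem isQCohD_rpush_of_compact [CompactSpace S] {K : DCoh.D X} (hK : DCoh.IsQCohD K) :
    DCoh.IsQCohD ((DCoh.Rpush f).obj K) := by
  obtain ⟨N, hN⟩ := exists_bound f
  intro m
  have := isIso_rpush_truncGEπ_unbounded f hN K hK m (N - m).toNat le_rfl
  exact isQCoh_iso (@asIso _ _ _ _ _ this).symm ((stableTower f hN K hK).homP _ m)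

/-- Uniform vanishing. -/
theorem isZero_rpush_of_isLE (hN : Bound f N) (K : DCoh.D X) (hK : DCoh.IsQCohD K) (b : ℤ) [K.IsLE b]
    (m : ℤ) (hm : b + N ≤ m) : IsZero (DCoh.HD ((DCoh.Rpush f).obj K) m) := by
  let n := (N - m).toNat
  have := isIso_rpush_truncGEπ_unbounded f hN K hK m n le_rfl
  refine IsZero.of_iso ?_ (@asIso _ _ _ _ _ this)
  haveI : DerivedCategory.IsGE ((t.truncGE (-(n : ℤ))).obj K) (-(n : ℤ)) := inferInstanceAs (t.IsGE _ _)
  haveI : DerivedCategory.IsLE ((t.truncGE (-(n : ℤ))).obj K) b := DTrunc.isLE_truncGE K (-(n : ℤ)) b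
  exact vanish_isGE f hN _ (-(n : ℤ)) b (homP_truncGE Coh.IsQCoh isQCoh_iso isQCoh_isZero hK _) m hm

/-- `Rf_*` preserves quasi-coherent cohomology. -/
theorem isQCohD_rpush {K : DCoh.D X} (hK : DCoh.IsQCohD K) :
    DCoh.IsQCohD ((DCoh.Rpush f).obj K) := by
  let U : S.affineOpens → S.Opens := fun U => U.1
  refine isQCohD_of_affineCover U (iSup_affineOpens_eq_top S) (fun i => i.2) fun i => ?_
  haveI : CompactSpace (i.1 : Scheme.{u}) := isCompact_iff_compactSpace.1 i.2.isCompact
  haveI := hasRpush (f ∣_ i.1)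
  obtain ⟨e⟩ := nonempty_restrictD_rpush_iso f i.1
  have h1 : DCoh.IsQCohD ((rd i.1.ι).obj ((DCoh.Rpush f).obj K)) :=
    isQCohD_iso (e.app K).symm (isQCohD_rpush_of_compact (f ∣_ i.1) (isQCohD_rd _ hK))
  exact isQCohD_iso (rdComp i.2.isoSpec.inv i.1.ι i.2.fromSpec (by rfl) _).symm
    (isQCohD_rd i.2.isoSpec.inv h1)

end Groth.Agent.H16Derived.QCohD
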