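import Groth.Agent.H16Derived.QCohD.Lpull
import Groth.Agent.H16Derived.KFlat.PerfectTensor

/-!
# Derived tensor products of quasi-coherent complexes
-/

set_option autoImplicit false
set_option linter.style.haveILetI false

universe u

open CategoryTheory CategoryTheory.Limits AlgebraicGeometry

attribute [local instance] HasDerivedCategory.standard

namespace Groth.Agent.H16Derived.QCohD

open Groth.Agent.H16Derived.KFlat Groth.Agent.H16Derived.KFlat.Stalk Groth.Agent.H4DR.TorAmp

section Affine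

variable {A : Type u} [CommRing A]

/-- Every module is a cokernel of a map of direct sums of copies of the ring. -/
theorem exists_presentation (N : ModuleCat.{u} A) :
    ∃ (I J : Type u) (f : (∐ fun _ : I => ModuleCat.of A A) ⟶ ∐ fun _ : J => ModuleCat.of A A),
      Nonempty (cokernel f ≅ N) := by
  have hcov : ∀ N' : ModuleCat.{u} A,
      Epi (Sigma.desc fun m : N' => (ModuleCat.ofHom (LinearMap.toSpanSingleton A N' m) :
        ModuleCat.of A A ⟶ N')) := fun N' => by
    rw [ModuleCat.epi_iff_surjective]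
    intro m
    refine ⟨(Sigma.ι (fun _ : N' => ModuleCat.of A A) m).hom (1 : A), ?_⟩
    rw [← ModuleCat.comp_apply, Sigma.ι_desc]
    exact one_smul A m
  let p := Sigma.desc fun m : N => (ModuleCat.ofHom (LinearMap.toSpanSingleton A N m) :
        ModuleCat.of A A ⟶ N)
  haveI : Epi p := hcov N
  let q := Sigma.desc fun m : (kernel p : ModuleCat.{u} A) =>
    (ModuleCat.ofHom (LinearMap.toSpanSingleton A _ m) : ModuleCat.of A A ⟶ kernel p)
  haveI : Epi q := hcov _
  refine ⟨_, _, q ≫ kernel.ι p, ⟨cokernelEpiComp q (kernel.ι p) ≪≫ ?_⟩⟩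
  exact (cokernelIsCokernel (kernel.ι p)).coconePointUniqueUpToIso
    (Abelian.epiIsCokernelOfKernel (KernelFork.ofι _ (kernel.condition p)) (kernelIsKernel p))

/-- The tensor product of two tildes is quasi-coherent. -/
theorem isQCoh_tensor_tilde (M N : ModuleCat.{u} A) :
    Coh.IsQCoh (((DCoh.tensorBi (X := Spec (CommRingCat.of A))).obj ((tf A).obj M)).obj
      ((tf A).obj N)) := by
  let G := tf A ⋙ (DCoh.tensorBi (X := Spec (CommRingCat.of A))).obj ((tf A).obj M)
  haveI : PreservesColimitsOfSize.{u, u} (tf A) :=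
    (tilde.adjunction (R := CommRingCat.of A)).leftAdjoint_preservesColimits
  haveI : PreservesColimitsOfSize.{u, u} G := comp_preservesColimits _ _
  haveI : PreservesColimitsOfShape WalkingParallelPair G :=
    have := preservesColimitsOfSize_shrink.{0, u, 0, u} G
    inferInstance
  have hunit : Coh.IsQCoh (G.obj (ModuleCat.of A A)) := by
    refine isQCoh_iso ?_ (isQCoh_tf A M)
    exact (((tensorRightModIso (Coh.structureModule _)).symm ≪≫ tensorUnitModIso).app
        ((tf A).obj M)).symm ≪≫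
      ((DCoh.tensorBi (X := Spec (CommRingCat.of A))).obj ((tf A).obj M)).mapIso
        (tildeSelf (R := CommRingCat.of A)).symm
  have hfree : ∀ I : Type u, Coh.IsQCoh (G.obj (∐ fun _ : I => ModuleCat.of A A)) := fun I =>
    isQCoh_iso (PreservesCoproduct.iso G _).symm
      (H10Coh.isQuasicoherent_colimit_Spec _ fun _ => hunit)
  obtain ⟨I, J, f, ⟨e⟩⟩ := exists_presentation N
  haveI : (G.obj (∐ fun _ : I => ModuleCat.of A A)).IsQuasicoherent := hfree I
  haveI : (G.obj (∐ fun _ : J => ModuleCat.of A A)).IsQuasicoherent := hfree J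
  refine isQCoh_iso ((cokernelIsCokernel (G.map f)).coconePointUniqueUpToIso
    (isColimitCoforkMapOfIsColimit' G (cokernel.condition f) (cokernelIsCokernel f)) ≪≫ G.mapIso e) ?_
  exact H10Coh.isQuasicoherent_cokernel (G.map f)

/-- The tensor product of tilde complexes has quasi-coherent cohomology. -/
theorem isQCohD_tot_tilde (P M : DRing.Cx A) :
    DCoh.IsQCohD (DCoh.toD (Spec (CommRingCat.of A))
      ((tot (DCoh.tensorBi (X := Spec (CommRingCat.of A))) (tfCx P)).obj (tfCx M))) := by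
  intro i
  refine isQCoh_iso ((DerivedCategory.homologyFunctorFactors _ i).app _).symm
    (isQCoh_homology (CommRingCat.of A) _ (fun n => ?_) i)
  let S := (ComplexShape.π (ComplexShape.up ℤ) (ComplexShape.up ℤ) (ComplexShape.up ℤ)) ⁻¹' {n}
  let f : S → (Spec (CommRingCat.of A)).Modules := fun s =>
    ((DCoh.tensorBi (X := Spec (CommRingCat.of A))).obj ((tf A).obj (P.X s.1.1))).obj
      ((tf A).obj (M.X s.1.2))
  refine isQCoh_iso (Sigma.whiskerEquiv (f := fun s : ULift.{u} S => f s.down) (g := f)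
    Equiv.ulift fun _ => Iso.refl _) (H10Coh.isQuasicoherent_colimit_Spec _ fun s => ?_)
  exact isQCoh_tensor_tilde (P.X s.as.down.1.1) (M.X s.as.down.1.2)

/-- A quasi-coherent complex on an affine scheme is the tilde of a K-flat complex. -/
theorem exists_tilde_rep {K : DCoh.D (Spec (CommRingCat.of A))} (hK : DCoh.IsQCohD K) :
    ∃ P : DRing.Cx A, KF A P ∧ Nonempty (DCoh.toD (Spec (CommRingCat.of A)) (tfCx P) ≅ K) := by
  obtain ⟨M, ⟨e⟩⟩ := (isQCohD_iff (CommRingCat.of A) K).1 hK
  let G := DerivedCategory.Q.objPreimage M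
  obtain ⟨P, r, hP, -, hr, -⟩ := Groth.Agent.H4DR.KFlatMod.exists_resolution (R := A) G
  haveI : IsIso (DerivedCategory.Q.map r) :=
    Localization.inverts _ (HomologicalComplex.quasiIso _ (ComplexShape.up ℤ)) _ hr
  exact ⟨P, hP, ⟨(tildeDQ P).symm ≪≫ (DCoh.tildeD (CommRingCat.of A)).mapIso
    (asIso (DerivedCategory.Q.map r) ≪≫ DerivedCategory.Q.objObjPreimageIso M) ≪≫ e⟩⟩

/-- The tensor product of K-flat complexes with quasi-coherent cohomology on an affine scheme. -/
theorem isQCohD_tot_spec {K L : CochainComplex (Spec (CommRingCat.of A)).Modules ℤ}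
    (hL : kflat (Spec (CommRingCat.of A)) L)
    (hKq : DCoh.IsQCohD (DCoh.toD _ K)) (hLq : DCoh.IsQCohD (DCoh.toD _ L)) :
    DCoh.IsQCohD (DCoh.toD (Spec (CommRingCat.of A))
      ((tot (DCoh.tensorBi (X := Spec (CommRingCat.of A))) K).obj L)) := by
  obtain ⟨P, -, ⟨a⟩⟩ := exists_tilde_rep hKq
  obtain ⟨M, hM, ⟨b⟩⟩ := exists_tilde_rep hLq
  obtain ⟨i₁⟩ := nonempty_tensor_congr_left a ((isKFlat_iff' L).2 hL)
  obtain ⟨i₂⟩ := nonempty_tensor_congr_right (tfCx P) b ((isKFlat_iff' _).2 (kflat_tilde hM))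
    ((isKFlat_iff' L).2 hL)
  exact isQCohD_iso (i₂ ≪≫ i₁) (isQCohD_tot_tilde P M)

end Affine

/-- `E ⊗^L F` has quasi-coherent cohomology if `E` and `F` have. -/
theorem isQCohD_ltensorCx {X : Scheme.{u}} (F : CochainComplex X.Modules ℤ)
    (hF : DCoh.IsQCohD (DCoh.toD X F)) [DCoh.HasLTensorCx F] {K : DCoh.D X}
    (hK : DCoh.IsQCohD K) : DCoh.IsQCohD ((DCoh.LTensorCx F).obj K) := by
  let G := DerivedCategory.Q.objPreimage K
  let P := (res (X := X)).obj G
  let F' := (res (X := X)).obj F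
  haveI : IsIso (DerivedCategory.Q.map ((resψ (X := X)).app G)) :=
    isIso_Q_map _ (quasiIso_resψ G)
  haveI : IsIso (DerivedCategory.Q.map ((resψ (X := X)).app F)) :=
    isIso_Q_map _ (quasiIso_resψ F)
  let e : DCoh.toD X P ≅ K :=
    asIso (DerivedCategory.Q.map ((resψ (X := X)).app G)) ≪≫ DerivedCategory.Q.objObjPreimageIso K
  let eF : DCoh.toD X F' ≅ DCoh.toD X F := asIso (DerivedCategory.Q.map ((resψ (X := X)).app F))
  haveI : QuasiIso ((resψ (X := X)).app F) := quasiIso_resψ F
  haveI := quasiIso_tot_map_of_isKFlat_left (DCoh.tensorBi (X := X)) P ((resψ (X := X)).app F)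
    fun W hW => acyclic_tot_of_isKFlat_flip (isKFlat_flip_res G) hW
  let eT : DCoh.toD X ((tot (DCoh.tensorBi (X := X)) P).obj F') ≅ (DCoh.LTensorCx F).obj K :=
    @asIso _ _ _ _ _ (isIso_Q_map ((tot (DCoh.tensorBi (X := X)) P).map ((resψ (X := X)).app F))
        inferInstance) ≪≫
      ((ltensorCxIso F).app ⟨P, isKFlat_flip_res G⟩).symm ≪≫ (DCoh.LTensorCx F).mapIso e
  refine isQCohD_iso eT ?_
  let U : X.affineOpens → X.Opens := fun U => U.1
  refine isQCohD_of_affineCover U ?_ (fun i => i.2) fun i => ?_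
  · exact iSup_affineOpens_eq_top X
  let j := i.2.fromSpec
  let R : CochainComplex X.Modules ℤ ⥤ CochainComplex (Spec Γ(X, i.1)).Modules ℤ :=
    (Scheme.Modules.pullback j).mapHomologicalComplex (ComplexShape.up ℤ)
  let ε : ∀ C : CochainComplex X.Modules ℤ,
      (rd j).obj (DerivedCategory.Q.obj C) ≅ DerivedCategory.Q.obj (R.obj C) := fun C =>
    (rdQ j).app C ≪≫ DerivedCategory.Q.mapIso
      ((NatIso.mapHomologicalComplex (Scheme.Modules.restrictFunctorIsoPullback j)
        (ComplexShape.up ℤ)).app C)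
  refine isQCohD_iso ((ε _) ≪≫ DerivedCategory.Q.mapIso (pullTotIso j P F')).symm ?_
  exact isQCohD_tot_spec (A := Γ(X, i.1)) (isKFlat_pullback j (isKFlat_res F))
    (isQCohD_iso (ε P) (isQCohD_rd j (isQCohD_iso e.symm hK)))
    (isQCohD_iso (ε F') (isQCohD_rd j (isQCohD_iso eF.symm hF)))

end Groth.Agent.H16Derived.QCohD
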