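import Groth.Agent.H16Derived.QCohD.AffineUnit
import Groth.Agent.H16Derived.MVPush.Support

/-!
# Affine direct images reflect isomorphisms between objects with quasi-coherent cohomology
-/

set_option autoImplicit false
set_option linter.style.haveILetI false

universe u

open CategoryTheory CategoryTheory.Limits AlgebraicGeometry Opposite TopologicalSpace
  CategoryTheory.Pretriangulated

attribute [local instance] HasDerivedCategory.standard

namespace Groth.Agent.H16Derived.QCohD.AffineUnit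

open Groth.Agent.H10Coh Groth.Agent.H16Derived.KFlat Groth.Agent.H16Derived.QCohD
open Groth.Agent.H16Derived.KFlat.GammaAcyclic

variable {X S : Scheme.{u}}

theorem isQCoh_hd_shift {K : DCoh.D X} (hK : DCoh.IsQCohD K) (m : ℤ) :
    Coh.IsQCoh (DCoh.HD (K⟦(1 : ℤ)⟧) m) :=
  isQCoh_iso (((DerivedCategory.homologyFunctor X.Modules 0).shiftIso (1 : ℤ) m (m + 1) (by omega)).app K).symm
    (hK (m + 1))

theorem isQCohD_obj₃ {T : Triangle (DCoh.D X)} (hT : T ∈ distTriang (DCoh.D X))
    (h₁ : DCoh.IsQCohD T.obj₁) (h₂ : DCoh.IsQCohD T.obj₂) : DCoh.IsQCohD T.obj₃ := fun m =>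
  isQCoh_middle (T := T.rotate) (rot_of_distTriang T hT) m (isQCoh_hd_shift h₁ (m - 1)) (h₂ m)
    (isQCoh_hd_shift h₁ m) (h₂ (m + 1))

theorem subsingleton_stalk_of_sections {M : X.Modules} (hM : Coh.IsQCoh M) {U : X.Opens}
    (hU : IsAffineOpen U) [Subsingleton Γ(M, U)] {x : X} (hx : x ∈ U) :
    Subsingleton (M.presheaf.stalk x) := by
  let F := Scheme.Modules.restrictFunctor hU.fromSpec
  haveI : M.IsQuasicoherent := hM
  haveI := Scheme.Modules.isQuasicoherent_restrictFunctor hU.fromSpec M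
  haveI : Subsingleton Γ(F.obj M, ⊤) := by
    have e : hU.fromSpec ''ᵁ ⊤ = U := by
      rw [Scheme.Hom.image_top_eq_opensRange, hU.opensRange_fromSpec]
    show Subsingleton Γ(M, hU.fromSpec ''ᵁ ⊤)
    rw [e]
    infer_instance
  haveI : IsIso (0 : F.obj M ⟶ F.obj M) :=
    isIso_of_bijective_app_top _ ‹(F.obj M).IsQuasicoherent› ‹(F.obj M).IsQuasicoherent› 0
      ⟨fun _ _ _ => Subsingleton.elim _ _, fun b => ⟨b, Subsingleton.elim _ _⟩⟩
  have hz : IsZero (F.obj M) := (IsZero.iff_id_eq_zero _).2 (((isIsoZeroEquiv _ _).toFun this).1)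
  obtain ⟨y, rfl⟩ : ∃ y, hU.fromSpec.base y = x := by
    have h : x ∈ Set.range hU.fromSpec.base := by rw [IsAffineOpen.range_fromSpec]; exact hx
    exact h
  let s := ((Scheme.Modules.restrictStalkNatIso hU.fromSpec y).app M).addCommGroupIsoToAddEquiv
  haveI : Subsingleton ((Scheme.Modules.restrictFunctor hU.fromSpec ⋙ Scheme.Modules.toPresheaf _ ⋙
      TopCat.Presheaf.stalkFunctor AddCommGrpCat.{u} y).obj M) :=
    AddCommGrpCat.subsingleton_of_isZero
      ((Scheme.Modules.toPresheaf _ ⋙ TopCat.Presheaf.stalkFunctor AddCommGrpCat.{u} y).map_isZero hz)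
  exact @Equiv.subsingleton _ _ s.symm.toEquiv this

open ZeroObject in
theorem isZero_rΓ_obj (X : Scheme.{u}) [DCoh.HasRΓ X] {E : DCoh.D X} (hE : IsZero E) :
    IsZero ((DCoh.RΓ X).obj E) := by
  have h0 : IsZero (0 : CochainComplex X.Modules ℤ) := isZero_zero _
  haveI : CochainComplex.IsKInjective (0 : CochainComplex X.Modules ℤ) :=
    ⟨fun f _ => ⟨Homotopy.ofEq (h0.eq_of_tgt f 0)⟩⟩
  exact (Functor.map_isZero _ (Functor.map_isZero _ h0)).of_iso
    (MVPush.rΓObjIso X (0 : CochainComplex X.Modules ℤ) ((Functor.map_isZero _ h0).iso hE))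

variable (f : X ⟶ S) [IsAffineHom f]

theorem isZero_of_rpush [DCoh.HasRpush f] (Z : DCoh.D X) (hZ : DCoh.IsQCohD Z)
    (h : IsZero ((DCoh.Rpush f).obj Z)) : IsZero Z := by
  obtain ⟨I, hI, -, ⟨e⟩⟩ := MVPush.exists_rep Z
  have hq : DCoh.IsQCohD (DCoh.toD X I) := fun m =>
    isQCoh_iso ((DerivedCategory.homologyFunctor X.Modules m).mapIso e.symm) (hZ m)
  let M := ((Scheme.Modules.pushforward f).mapHomologicalComplex (ComplexShape.up ℤ)).obj I
  have hM : IsZero (DerivedCategory.Q.obj M) := h.of_iso (MVPush.rpushObjIso f I e).symm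
  refine MVPush.isZero_of_hd Z fun m => ?_
  refine IsZero.of_iso ?_ ((DerivedCategory.homologyFunctor X.Modules m).mapIso e.symm ≪≫
    (DerivedCategory.homologyFunctorFactors X.Modules m).app I)
  refine H17.FPExt.isZero_of_stalk _ fun x => ?_
  obtain ⟨V, hV, hxV, -⟩ := exists_isAffineOpen_mem_and_subset (U := (⊤ : S.Opens)) (x := f.base x) trivial
  have hU := isAffineOpen_preimage f hV
  have hxU : x ∈ f ⁻¹ᵁ (V.ι ''ᵁ ⊤) := by rw [Scheme.Opens.ι_image_top]; exact hxV
  have hqh : Coh.IsQCoh (I.homology m) :=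
    isQCoh_iso ((DerivedCategory.homologyFunctorFactors X.Modules m).app I) (hq m)
  -- sections over `U` are acyclic
  haveI := hasRΓ (V : Scheme.{u})
  have hz0 : IsZero ((DCoh.RΓ (V : Scheme.{u})).obj
      (DerivedCategory.Qh.obj ((HomotopyCategory.quotient _ _).obj ((DCoh.restrictCx V).obj M)))) := by
    refine isZero_rΓ_obj _ (IsZero.of_iso ?_ ((DerivedCategory.quotientCompQhIso _).app _ ≪≫
      ((Scheme.Modules.restrictFunctor V.ι).mapDerivedCategoryFactors.app M).symm))
    exact Functor.map_isZero (Scheme.Modules.restrictFunctor V.ι).mapDerivedCategory hM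
  haveI : IsIso ((gammaUnit (V : Scheme.{u})).app ((HomotopyCategory.quotient _ _).obj ((DCoh.restrictCx V).obj M))) :=
    isIso_gammaUnit_pushforward_restrict f V I
  have hz1 : IsZero (DerivedCategory.Q.obj (((DCoh.gammaAb (V : Scheme.{u})).mapHomologicalComplex
      (ComplexShape.up ℤ)).obj ((DCoh.restrictCx V).obj M))) :=
    hz0.of_iso (((DerivedCategory.quotientCompQhIso _).app _).symm ≪≫
      @asIso _ _ _ _ ((gammaUnit (V : Scheme.{u})).app ((HomotopyCategory.quotient _ _).obj ((DCoh.restrictCx V).obj M))) (isIso_gammaUnit_pushforward_restrict f V I))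
  let G := ((DCoh.gammaAb (V : Scheme.{u})).mapHomologicalComplex (ComplexShape.up ℤ)).obj
    ((DCoh.restrictCx V).obj M)
  have hex : G.ExactAt m := (HomologicalComplex.exactAt_iff_isZero_homology _ _).2
    (((DerivedCategory.homologyFunctor _ m).map_isZero hz1).of_iso
      ((DerivedCategory.homologyFunctorFactors _ m).app G).symm)
  rw [HomologicalComplex.exactAt_iff' _ (m - 1) m (m + 1) (by simp) (by simp),
    ShortComplex.ab_exact_iff] at hex
  haveI : Subsingleton Γ(I.homology m, f ⁻¹ᵁ (V.ι ''ᵁ ⊤)) := by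
    refine subsingleton_of_forall_eq 0 fun s => ?_
    let U := f ⁻¹ᵁ (V.ι ''ᵁ ⊤)
    obtain ⟨z, hz⟩ := exists_cycle hq hU m ((freeShEquiv U _).symm s)
    let c := freeShEquiv U _ z
    have hc : (I.homologyπ m).app U c = s := by
      rw [← freeShEquiv_comp, hz, Equiv.apply_symm_apply]
    obtain ⟨b, hb⟩ := hex ((I.iCycles m).app U c) (by
      show (I.d m (m + 1)).app U _ = 0
      rw [app_comp', HomologicalComplex.iCycles_d]
      rfl)
    have hb' : (I.toCycles (m - 1) m).app U b = c := injective_app_of_mono' (I.iCycles m) U (by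
      rw [app_comp', HomologicalComplex.toCycles_i]; exact hb)
    rw [← hc, ← hb', app_comp', HomologicalComplex.toCycles_comp_homologyπ]
    rfl
  exact subsingleton_stalk_of_sections hqh hU hxU

theorem isIso_of_isIso_rpush [DCoh.HasRpush f] {E F : DCoh.D X} (hE : DCoh.IsQCohD E)
    (hF : DCoh.IsQCohD F) (α : E ⟶ F) (hα : IsIso ((DCoh.Rpush f).map α)) : IsIso α := by
  obtain ⟨Z, b, c, hT⟩ := distinguished_cocone_triangle α
  letI := KFlat.Stalk.rpushCommShift f
  haveI := KFlat.Stalk.rpush_isTriangulated f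
  refine (Triangle.isZero₃_iff_isIso₁ _ hT).1 (isZero_of_rpush f Z (isQCohD_obj₃ hT hE hF) ?_)
  exact (Triangle.isZero₃_iff_isIso₁ _ ((DCoh.Rpush f).map_distinguished _ hT)).2 hα

end Groth.Agent.H16Derived.QCohD.AffineUnit
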