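import Groth.Agent.H25DTen.Compact
import Groth.Agent.H4DR.TorAmp.Perfect

/-!
# Compact objects of `D(A)` are perfect
-/

set_option autoImplicit false
set_option linter.style.haveILetI false

universe u

open CategoryTheory CategoryTheory.Limits CategoryTheory.Pretriangulated

attribute [local instance] HasDerivedCategory.standard

namespace Groth.Agent.H16Derived.QCohD.CompactPerfect

open Groth.Agent.H25DTen Groth.Agent.H4DR.TorAmp Groth.Agent.H16Derived

variable {A : Type u} [CommRing A]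

/-- `f` factors through a perfect object. -/
def Factors {M X : Dual.D A} (f : M ⟶ X) : Prop :=
  ∃ (E : Dual.D A) (a : M ⟶ E) (b : E ⟶ X), DRing.IsPerfect A E ∧ a ≫ b = f

/-- Maps from compact objects into `X` factor through perfect objects. -/
def Good (X : Dual.D A) : Prop :=
  ∀ (M : Dual.D A), FiniteSupport M → ∀ f : M ⟶ X, Factors f

lemma isPerfect_S (k : ℤ) : DRing.IsPerfect A (S A k) := by
  let C := (HomologicalComplex.single (ModuleCat.{u} A) (ComplexShape.up ℤ) (-k)).obj (ModuleCat.of A A)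
  have h : DRing.IsPerfect A (DerivedCategory.Q.obj C) := by
    refine ⟨C, -k, -k, fun q hq => HomologicalComplex.isZero_single_obj_X _ _ _ _ (by omega),
      fun q => ?_, ⟨Iso.refl _⟩⟩
    by_cases hq : q = -k
    · subst hq
      haveI : Module.Finite A (ModuleCat.of A A) := inferInstanceAs (Module.Finite A A)
      haveI : Module.Projective A (ModuleCat.of A A) := inferInstanceAs (Module.Projective A A)
      exact finiteProjective_of_iso
        (HomologicalComplex.singleObjXSelf (ComplexShape.up ℤ) (-k) (ModuleCat.of A A)).symm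
        ⟨inferInstance, inferInstance⟩
    · exact finiteProjective_of_isZero (HomologicalComplex.isZero_single_obj_X _ _ _ _ hq)
  exact isPerfect_of_iso (DerivedCategory.Q.mapIso (singleUnitIso (A := A) (-k) ≪≫ eqToIso (by rw [neg_neg]))) h

lemma factors_add {M X : Dual.D A} {f g : M ⟶ X} (hf : Factors f) (hg : Factors g) :
    Factors (f + g) := by
  obtain ⟨E, a, b, hE, rfl⟩ := hf
  obtain ⟨E', a', b', hE', rfl⟩ := hg
  exact ⟨E ⊞ E', biprod.lift a a', biprod.desc b b',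
    isPerfect_obj₂ _ (binaryBiproductTriangle_distinguished E E') hE hE', biprod.lift_desc⟩

lemma factors_zero {M X : Dual.D A} : Factors (0 : M ⟶ X) :=
  ⟨S A 0, 0, 0, isPerfect_S 0, zero_comp⟩

lemma good_retract {K L : Dual.D A} (i : K ⟶ L) (r : L ⟶ K) (h : i ≫ r = 𝟙 K) (hL : Good L) :
    Good K := fun M hM f => by
  obtain ⟨E, a, b, hE, hab⟩ := hL M hM (f ≫ i)
  exact ⟨E, a, b ≫ r, hE, by rw [← Category.assoc, hab, Category.assoc, h, Category.comp_id]⟩

lemma good_coprod (ι : Type u) (K : ι → DRing.Cx A)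
    (h : ∀ i, Good (DerivedCategory.Q.obj (K i))) : Good (DerivedCategory.Q.obj (∐ K)) := by
  classical
  intro M hM f
  obtain ⟨s, hs⟩ := hM ι K f
  rw [Functor.map_sub, CategoryTheory.Functor.map_id, Preadditive.comp_sub, sub_eq_zero,
    Category.comp_id] at hs
  rw [hs, Compact.idem, Functor.map_sum, Preadditive.comp_sum]
  clear hs
  induction s using Finset.induction_on with
  | empty => simpa using factors_zero
  | insert i s his ih =>
    rw [Finset.sum_insert his]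
    refine factors_add ?_ ih
    obtain ⟨E, a, b, hE, hab⟩ := h i M hM (f ≫ DerivedCategory.Q.map (Compact.proj K i))
    exact ⟨E, a, b ≫ DerivedCategory.Q.map (Sigma.ι K i), hE, by
      rw [← Category.assoc, hab, Category.assoc, ← Functor.map_comp]⟩

lemma good_ext (T : Triangle (Dual.D A)) (hT : T ∈ (distTriang _)) (h₁ : Good T.obj₁)
    (h₃ : Good T.obj₃) : Good T.obj₂ := by
  intro M hM f
  obtain ⟨E₃, π, c, hE₃, hc⟩ := h₃ M hM (f ≫ T.mor₂)
  obtain ⟨M', j, δ, hM'⟩ := distinguished_cocone_triangle₁ π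
  have hfsM' : FiniteSupport M' :=
    finiteSupport_ext _ (inv_rot_of_distTriang _ hM')
      (finiteSupport_of_isPerfect (isPerfect_shift (-1) hE₃)) hM
  obtain ⟨l, hl₁, hl₂⟩ : ∃ l : M' ⟶ T.obj₁, j ≫ f = l ≫ T.mor₁ ∧ δ ≫ l⟦(1 : ℤ)⟧' = c ≫ T.mor₃ := complete_distinguished_triangle_morphism₁
    (Triangle.mk j π δ) T hM' hT f c (by exact hc)
  obtain ⟨E₁, a, b, hE₁, hab⟩ := h₁ M' hfsM' l
  obtain ⟨E₂, u, q, hE₂⟩ := distinguished_cocone_triangle₂ (δ ≫ a⟦(1 : ℤ)⟧')
  have hperf : DRing.IsPerfect A E₂ := isPerfect_obj₂ _ hE₂ hE₁ hE₃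
  obtain ⟨g, hg₁, hg₂⟩ : ∃ g : M ⟶ E₂, j ≫ g = a ≫ u ∧ π ≫ 𝟙 E₃ = g ≫ q := complete_distinguished_triangle_morphism₂
    (Triangle.mk j π δ) (Triangle.mk u q (δ ≫ a⟦(1 : ℤ)⟧')) hM' hE₂ a (𝟙 E₃) (by
      show δ ≫ a⟦(1 : ℤ)⟧' = 𝟙 E₃ ≫ δ ≫ a⟦(1 : ℤ)⟧'
      rw [Category.id_comp])
  have hl₂' : δ ≫ l⟦(1 : ℤ)⟧' = c ≫ T.mor₃ := hl₂
  obtain ⟨h, hh₁, hh₂⟩ : ∃ h : E₂ ⟶ T.obj₂, u ≫ h = b ≫ T.mor₁ ∧ q ≫ c = h ≫ T.mor₂ := complete_distinguished_triangle_morphism₂
    (Triangle.mk u q (δ ≫ a⟦(1 : ℤ)⟧')) T hE₂ hT b c (by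
      show (δ ≫ a⟦(1 : ℤ)⟧') ≫ b⟦(1 : ℤ)⟧' = c ≫ T.mor₃
      rw [Category.assoc, ← Functor.map_comp, hab]
      exact hl₂')
  have hg₁' : j ≫ g = a ≫ u := hg₁
  have hg₂' : π = g ≫ q := (Category.comp_id π).symm.trans hg₂
  have hh₁' : u ≫ h = b ≫ T.mor₁ := hh₁
  have hl₁' : j ≫ f = l ≫ T.mor₁ := hl₁
  obtain ⟨v, hv⟩ := Triangle.yoneda_exact₂ (Triangle.mk j π δ) hM' (f - g ≫ h) (by
    show j ≫ (f - g ≫ h) = 0
    rw [Preadditive.comp_sub, ← Category.assoc, hg₁', Category.assoc, hh₁', ← Category.assoc, hab,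
      hl₁', sub_self])
  refine ⟨E₂, g, h + q ≫ v, hperf, ?_⟩
  have hv' : f - g ≫ h = π ≫ v := hv
  rw [Preadditive.comp_add, ← Category.assoc, ← hg₂', ← hv']
  abel

lemma good_S (k : ℤ) : Good (S A k) :=
  fun _ _ f => ⟨S A k, f, 𝟙 _, isPerfect_S k, Category.comp_id f⟩

/-- Compact objects of `D(A)` are perfect. -/
theorem isPerfect_of_finiteSupport {M : Dual.D A} (hM : FiniteSupport M) : DRing.IsPerfect A M := by
  obtain ⟨E, a, b, hE, hab⟩ :=
    localizing_induction Good good_retract good_ext good_coprod good_S M M hM (𝟙 M)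
  exact isPerfect_of_retract a b hab hE

end Groth.Agent.H16Derived.QCohD.CompactPerfect
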