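import Groth.Agent.H16Derived.QCohD.Affine
import Groth.Agent.H16Derived.ExactAdj
import Groth.Agent.H10Coh.QCohExt

/-!
# `D(R)` and the derived category of quasi-coherent cohomology on `Spec R`
-/

set_option autoImplicit false
set_option linter.style.haveILetI false

universe u

open CategoryTheory CategoryTheory.Limits AlgebraicGeometry Opposite TopologicalSpace
  Pretriangulated DerivedCategory

attribute [local instance] HasDerivedCategory.standard

namespace Groth.Agent.H16Derived.QCohD

open Groth.Agent.H10Coh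

section General

variable {X : Scheme.{u}} {I : CochainComplex X.Modules ℤ} [I.IsKInjective]

/-- The map of complexes given by a cycle. -/
noncomputable def cycleMap {G : X.Modules} (C : CochainComplex X.Modules ℤ) (m : ℤ)
    (φ : G ⟶ C.cycles m) : (CochainComplex.singleFunctor X.Modules m).obj G ⟶ C :=
  HomologicalComplex.mkHomFromSingle (φ ≫ C.iCycles m) (fun k _ => by
    rw [Category.assoc, HomologicalComplex.iCycles_d, comp_zero])

/-- The class of the tautological cycle of `G[-m]`. -/
noncomputable def singleClass (G : X.Modules) (m : ℤ) :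
    G ⟶ ((CochainComplex.singleFunctor X.Modules m).obj G).homology m :=
  ((CochainComplex.singleFunctor X.Modules m).obj G).liftCycles
      (HomologicalComplex.singleObjXSelf (ComplexShape.up ℤ) m G).inv (m + 1) (by simp)
      ((HomologicalComplex.isZero_single_obj_X _ _ _ _ (by omega)).eq_of_tgt _ _) ≫
    ((CochainComplex.singleFunctor X.Modules m).obj G).homologyπ m

instance isIso_singleClass (G : X.Modules) (m : ℤ) : IsIso (singleClass G m) := by
  let S := (CochainComplex.singleFunctor X.Modules m).obj G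
  have h1 : IsIso (S.iCycles m) := S.isIso_iCycles m (m + 1) (by simp)
    ((HomologicalComplex.isZero_single_obj_X _ _ _ _ (by omega)).eq_of_tgt _ _)
  have h2 : IsIso (S.homologyπ m) := S.isIso_homologyπ (m - 1) m (by simp)
    ((HomologicalComplex.isZero_single_obj_X _ _ _ _ (by omega)).eq_of_src _ _)
  haveI : IsIso (S.liftCycles
      (HomologicalComplex.singleObjXSelf (ComplexShape.up ℤ) m G).inv (m + 1) (by simp)
      ((HomologicalComplex.isZero_single_obj_X _ _ _ _ (by omega)).eq_of_tgt _ _)) := by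
    haveI := h1
    exact IsIso.of_isIso_fac_right (HomologicalComplex.liftCycles_i _ _ _ _ _)
  haveI := h2
  unfold singleClass
  infer_instance

theorem singleClass_homologyMap {G : X.Modules} (C : CochainComplex X.Modules ℤ) (m : ℤ)
    (φ : G ⟶ C.cycles m) :
    singleClass G m ≫ HomologicalComplex.homologyMap (cycleMap C m φ) m = φ ≫ C.homologyπ m := by
  rw [singleClass, Category.assoc, HomologicalComplex.homologyπ_naturality, ← Category.assoc]
  congr 1
  rw [← cancel_mono (C.iCycles m), Category.assoc, HomologicalComplex.cyclesMap_i,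
    HomologicalComplex.liftCycles_i_assoc]
  exact (congrArg (_ ≫ ·) (HomologicalComplex.mkHomFromSingle_f _ _)).trans
    (Iso.inv_hom_id_assoc _ _)

theorem exists_cycleMap {G : X.Modules} (C : CochainComplex X.Modules ℤ) (m : ℤ)
    (ψ : (CochainComplex.singleFunctor X.Modules m).obj G ⟶ C) :
    ∃ φ : G ⟶ C.cycles m, ψ = cycleMap C m φ := by
  refine ⟨C.liftCycles ((HomologicalComplex.singleObjXSelf (ComplexShape.up ℤ) m G).inv ≫ ψ.f m)
    (m + 1) (by simp) ?_, ?_⟩
  · rw [Category.assoc]
    erw [ψ.comm m (m + 1)]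
    rw [(HomologicalComplex.isZero_single_obj_X (ComplexShape.up ℤ) m G (m + 1) (by omega)).eq_of_src
      (ψ.f (m + 1)) 0]
    erw [comp_zero]
  · refine HomologicalComplex.hom_ext _ _ fun i => ?_
    by_cases hi : i = m
    · subst hi
      rw [cycleMap]
      refine Eq.trans ?_ (HomologicalComplex.mkHomFromSingle_f _ _).symm
      rw [HomologicalComplex.liftCycles_i]
      exact (Iso.hom_inv_id_assoc _ _).symm
    · exact (HomologicalComplex.isZero_single_obj_X (ComplexShape.up ℤ) m G i hi).eq_of_src _ _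

theorem θ_cycleMap {G : X.Modules} (C : CochainComplex X.Modules ℤ) (m : ℤ)
    (φ : G ⟶ C.cycles m) :
    singleClass G m ≫ (homologyFunctorFactors X.Modules m).inv.app _ ≫
        (homologyFunctor X.Modules m).map ((singleFunctorIsoCompQ X.Modules m).inv.app G) ≫
      (singleFunctorCompHomologyFunctorIso X.Modules m).hom.app G ≫
        θ G m ((singleFunctorIsoCompQ X.Modules m).hom.app G ≫ Q.map (cycleMap C m φ)) =
      φ ≫ C.homologyπ m ≫ (homologyFunctorFactors X.Modules m).inv.app C := by
  rw [θ]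
  erw [Iso.hom_inv_id_app_assoc]
  rw [← Functor.map_comp, ← Category.assoc ((singleFunctorIsoCompQ X.Modules m).inv.app G),
    Iso.inv_hom_id_app, Category.id_comp]
  have nat := (homologyFunctorFactors X.Modules m).inv.naturality (cycleMap C m φ)
  simp only [Functor.comp_map] at nat
  refine (congrArg (singleClass G m ≫ ·) nat.symm).trans ?_
  rw [← Category.assoc φ, ← singleClass_homologyMap C m φ]
  exact (Category.assoc _ _ _).symm

variable (hI : DCoh.IsQCohD (DCoh.toD X I))
include hI

/-- Cohomology sections lift to cycles. -/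
theorem exists_cycle {U : X.Opens} (hU : IsAffineOpen U) (m : ℤ)
    (s : freeSh U ⟶ I.homology m) : ∃ z : freeSh U ⟶ I.cycles m, z ≫ I.homologyπ m = s := by
  let G := freeSh U
  let E := (singleFunctorIsoCompQ X.Modules m).app G
  let σ : G ≅ G := asIso (singleClass G m) ≪≫ ((homologyFunctorFactors X.Modules m).app _).symm ≪≫
    (homologyFunctor X.Modules m).mapIso E.symm ≪≫
    (singleFunctorCompHomologyFunctorIso X.Modules m).app G
  obtain ⟨a, ha⟩ := (bijective_θ_affine hI hU m).2
    (σ.inv ≫ s ≫ (homologyFunctorFactors X.Modules m).inv.app I)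
  obtain ⟨ψ, hψ⟩ := KInjRes.exists_Q_map_eq (E.inv ≫ a)
  obtain ⟨φ, rfl⟩ := exists_cycleMap I m ψ
  refine ⟨φ, ?_⟩
  refine (cancel_mono ((homologyFunctorFactors X.Modules m).inv.app I)).1 ?_
  refine (Category.assoc _ _ _).trans ((θ_cycleMap I m φ).symm.trans ?_)
  rw [hψ]
  rw [show (singleFunctorIsoCompQ X.Modules m).hom.app G ≫ E.inv ≫ a = a from
    E.hom_inv_id_assoc a, ha]
  refine Eq.trans ?_ (σ.hom_inv_id_assoc (s ≫ (homologyFunctorFactors X.Modules m).inv.app I))
  simp only [σ, Iso.trans_hom, asIso_hom, Iso.symm_hom, Iso.app_inv, Iso.app_hom, Functor.mapIso_hom,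
    Category.assoc]
  rfl

/-- A cycle with zero class is a boundary. -/
theorem exists_boundary {U : X.Opens} (hU : IsAffineOpen U) (m : ℤ)
    (z : freeSh U ⟶ I.cycles m) (hz : z ≫ I.homologyπ m = 0) :
    ∃ w : freeSh U ⟶ I.X (m - 1), w ≫ I.toCycles (m - 1) m = z := by
  let G := freeSh U
  let E := (singleFunctorIsoCompQ X.Modules m).app G
  have h := θ_cycleMap I m z
  rw [← Category.assoc z, hz, zero_comp] at h
  simp only [← Category.assoc] at h
  have h0 : θ G m (E.hom ≫ Q.map (cycleMap I m z)) = 0 := by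
    let σ : G ≅ G := asIso (singleClass G m) ≪≫ ((homologyFunctorFactors X.Modules m).app _).symm ≪≫
      (homologyFunctor X.Modules m).mapIso E.symm ≪≫
      (singleFunctorCompHomologyFunctorIso X.Modules m).app G
    refine (cancel_epi σ.hom).1 ?_
    rw [comp_zero]
    simp only [σ, Iso.trans_hom, asIso_hom, Iso.symm_hom, Iso.app_inv, Iso.app_hom,
      Functor.mapIso_hom]
    simp only [Category.assoc] at h ⊢
    exact h
  have h1 : E.hom ≫ Q.map (cycleMap I m z) = 0 :=
    (bijective_θ_affine hI hU m).1 (h0.trans (θ_zero G m _).symm)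
  rw [← Iso.eq_inv_comp, comp_zero] at h1
  have h1' : Q.map (cycleMap I m z) = Q.map 0 := h1.trans (Functor.map_zero Q _ _).symm
  obtain ⟨hh⟩ := KInjRes.nonempty_homotopy_of_Q_map_eq h1'
  refine ⟨(HomologicalComplex.singleObjXSelf (ComplexShape.up ℤ) m G).inv ≫ hh.hom m (m - 1), ?_⟩
  rw [← cancel_mono (I.iCycles m), Category.assoc, HomologicalComplex.toCycles_i]
  have hc := hh.comm m
  rw [dNext_eq _ (show (ComplexShape.up ℤ).Rel m (m + 1) from rfl),
    prevD_eq _ (show (ComplexShape.up ℤ).Rel (m - 1) m by simp)] at hc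
  simp only [sub_zero, HomologicalComplex.zero_f, add_zero] at hc
  rw [show ((CochainComplex.singleFunctor X.Modules m).obj G).d m (m + 1) = 0 from
    (HomologicalComplex.isZero_single_obj_X _ _ _ _ (by omega)).eq_of_tgt _ _, zero_comp, zero_add]
    at hc
  rw [Category.assoc]
  refine (congrArg (_ ≫ ·) hc.symm).trans ?_
  exact (congrArg (_ ≫ ·) (HomologicalComplex.mkHomFromSingle_f _ _)).trans
    (Iso.inv_hom_id_assoc _ _)

end General

section Spec

variable (R : CommRingCat.{u})

theorem bijective_app_top_fromTildeΓ (M : (Spec R).Modules) :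
    Function.Bijective (M.fromTildeΓ.app ⊤) := by
  have h := (tilde.adjunction (R := R)).right_triangle_components M
  haveI : IsIso ((tilde.adjunction (R := R)).unit) :=
    Adjunction.unit_isIso_of_L_fully_faithful _
  haveI : IsIso ((ΓSpec R).map M.fromTildeΓ) :=
    @IsIso.of_isIso_fac_left _ _ _ _ _ _ _ _
      (NatIso.isIso_app_of_isIso (tilde.adjunction (R := R)).unit _) (IsIso.id _) h
  exact ConcreteCategory.bijective_of_isIso ((ΓSpec R).map M.fromTildeΓ)

theorem isIso_of_bijective_app_top {M N : (Spec R).Modules} (hM : Coh.IsQCoh M) (hN : Coh.IsQCoh N)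
    (f : M ⟶ N) (hf : Function.Bijective (f.app ⊤)) : IsIso f := by
  haveI : IsIso ((ΓSpec R).map f) := (ConcreteCategory.isIso_iff_bijective _).2 hf
  haveI := Scheme.Modules.isIso_fromTildeΓ_of_isQuasicoherent (R := R) M
  haveI := Scheme.Modules.isIso_fromTildeΓ_of_isQuasicoherent (R := R) N
  have h := Scheme.Modules.fromTildeΓNatTrans.naturality f
  haveI : IsIso (M.fromTildeΓ ≫ f) := by
    rw [show M.fromTildeΓ ≫ f = (tilde.functor R).map ((ΓSpec R).map f) ≫ N.fromTildeΓ from h.symm]
    exact @IsIso.comp_isIso _ _ _ _ _ _ _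
      (@Functor.map_isIso _ _ _ _ _ _ (tilde.functor R) ((ΓSpec R).map f) ‹IsIso ((ΓSpec R).map f)›)
      ‹IsIso N.fromTildeΓ›
  exact IsIso.of_isIso_comp_left M.fromTildeΓ f

variable [PreservesFiniteLimits (tilde.functor R)]

/-- `Γ` on complexes. -/
noncomputable abbrev ΓCx (I : CochainComplex (Spec R).Modules ℤ) :
    CochainComplex (ModuleCat.{u} R) ℤ :=
  ((ΓSpec R).mapHomologicalComplex (ComplexShape.up ℤ)).obj I

/-- Tilde on complexes. -/
noncomputable abbrev tCx : CochainComplex (ModuleCat.{u} R) ℤ ⥤ CochainComplex (Spec R).Modules ℤ :=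
  (tilde.functor R).mapHomologicalComplex (ComplexShape.up ℤ)

/-- The counit on complexes. -/
noncomputable def counitCx (I : CochainComplex (Spec R).Modules ℤ) :
    (tCx R).obj (ΓCx R I) ⟶ I where
  f i := (I.X i).fromTildeΓ
  comm' i j _ := (Scheme.Modules.fromTildeΓNatTrans.naturality (I.d i j)).symm

theorem isQCoh_tilde_X (M : CochainComplex (ModuleCat.{u} R) ℤ) (i : ℤ) :
    Coh.IsQCoh (((tCx R).obj M).X i) := by
  have h : (tilde (M.X i)).IsQuasicoherent := inferInstance
  exact h

theorem isQCoh_cycles (C : CochainComplex (Spec R).Modules ℤ) (hC : ∀ i, Coh.IsQCoh (C.X i))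
    (i : ℤ) : Coh.IsQCoh (C.cycles i) := by
  haveI : (C.X i).IsQuasicoherent := hC i
  haveI : (C.X (i + 1)).IsQuasicoherent := hC (i + 1)
  exact isQCoh_iso ((kernelIsKernel _).conePointUniqueUpToIso
    (C.cyclesIsKernel i (i + 1) (by simp))) (isQuasicoherent_kernel (C.d i (i + 1)))

theorem isQCoh_homology (C : CochainComplex (Spec R).Modules ℤ) (hC : ∀ i, Coh.IsQCoh (C.X i))
    (i : ℤ) : Coh.IsQCoh (C.homology i) := by
  haveI : (C.X (i - 1)).IsQuasicoherent := hC (i - 1)
  haveI : (C.cycles i).IsQuasicoherent := isQCoh_cycles R C hC i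
  exact isQCoh_iso ((cokernelIsCokernel _).coconePointUniqueUpToIso
    (C.homologyIsCokernel (i - 1) i (by simp))) (isQuasicoherent_cokernel (C.toCycles (i - 1) i))

/-- The counit is a quasi-isomorphism for K-injective complexes with quasi-coherent cohomology. -/
theorem quasiIso_counitCx (I : CochainComplex (Spec R).Modules ℤ) [I.IsKInjective]
    (hI : DCoh.IsQCohD (DCoh.toD (Spec R) I)) : QuasiIso (counitCx R I) := by
  refine ⟨fun m => ?_⟩
  rw [quasiIsoAt_iff_isIso_homologyMap]
  let C := (tCx R).obj (ΓCx R I)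
  have hCX : ∀ i, Coh.IsQCoh (C.X i) := isQCoh_tilde_X R _
  have hH : Coh.IsQCoh (I.homology m) :=
    isQCoh_iso ((homologyFunctorFactors (Spec R).Modules m).app I) (hI m)
  have hU : IsAffineOpen (⊤ : (Spec R).Opens) := isAffineOpen_top _
  have hbij : ∀ i, Function.Bijective fun x : freeSh (⊤ : (Spec R).Opens) ⟶ C.X i =>
      x ≫ (counitCx R I).f i := fun i => by
    have := (bijective_app_top_fromTildeΓ R (I.X i)).comp (freeShEquiv ⊤ (C.X i)).bijective
    refine (Function.Bijective.of_comp_iff' (freeShEquiv ⊤ (I.X i)).bijective _).1 ?_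
    refine Eq.subst (motive := fun F => Function.Bijective F) (funext fun x => ?_) this
    exact (freeShEquiv_comp ⊤ x _).symm
  refine isIso_of_bijective_app_top R (isQCoh_homology R C hCX m) hH _ ?_
  have key : Function.Bijective fun t : freeSh (⊤ : (Spec R).Opens) ⟶ C.homology m =>
      t ≫ HomologicalComplex.homologyMap (counitCx R I) m := by
    constructor
    · intro t t' htt
      dsimp only at htt
      rw [← sub_eq_zero]
      have h0 : (t - t') ≫ HomologicalComplex.homologyMap (counitCx R I) m = 0 := by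
        rw [Preadditive.sub_comp, htt, sub_self]
      haveI : (C.cycles m).IsQuasicoherent := isQCoh_cycles R C hCX m
      haveI : (C.homology m).IsQuasicoherent := isQCoh_homology R C hCX m
      obtain ⟨x', hx'⟩ := surjective_app_of_epi (C.homologyπ m) hU (freeShEquiv ⊤ _ (t - t'))
      let x := (freeShEquiv (⊤ : (Spec R).Opens) (C.cycles m)).symm x'
      have hx : x ≫ C.homologyπ m = t - t' := (freeShEquiv ⊤ _).injective (by
        rw [freeShEquiv_comp, Equiv.apply_symm_apply, hx'])
      obtain ⟨w, hw⟩ := exists_boundary hI hU m (x ≫ HomologicalComplex.cyclesMap (counitCx R I) m)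
        (by rw [Category.assoc, ← HomologicalComplex.homologyπ_naturality, ← Category.assoc, hx, h0])
      obtain ⟨v, hv⟩ := (hbij (m - 1)).2 w
      dsimp only at hv
      have hxv : x = v ≫ C.toCycles (m - 1) m := by
        rw [← cancel_mono (C.iCycles m)]
        apply (hbij m).1
        dsimp only
        rw [Category.assoc, Category.assoc, Category.assoc, HomologicalComplex.toCycles_i_assoc,
          ← HomologicalComplex.Hom.comm, ← Category.assoc v, hv, ← HomologicalComplex.cyclesMap_i,
          ← Category.assoc x, ← hw, Category.assoc, HomologicalComplex.toCycles_i]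
      rw [← hx, hxv, Category.assoc, HomologicalComplex.toCycles_comp_homologyπ, comp_zero]
    · intro s
      obtain ⟨z, hz⟩ := exists_cycle hI hU m s
      obtain ⟨x, hx⟩ := (hbij m).2 (z ≫ I.iCycles m)
      dsimp only at hx
      have hxd : x ≫ C.d m (m + 1) = 0 := by
        apply (hbij (m + 1)).1
        dsimp only
        rw [zero_comp, Category.assoc, ← HomologicalComplex.Hom.comm, ← Category.assoc x, hx,
          Category.assoc, HomologicalComplex.iCycles_d, comp_zero]
      refine ⟨C.liftCycles x (m + 1) (by simp) hxd ≫ C.homologyπ m, ?_⟩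
      dsimp only
      rw [← hz, Category.assoc, HomologicalComplex.homologyπ_naturality, ← Category.assoc]
      congr 1
      rw [← cancel_mono (I.iCycles m), Category.assoc, HomologicalComplex.cyclesMap_i,
        HomologicalComplex.liftCycles_i_assoc, hx]
  refine (Function.Bijective.of_comp_iff _ (freeShEquiv ⊤ (C.homology m)).bijective).1 ?_
  refine Eq.subst (motive := fun F => Function.Bijective F) (funext fun t => ?_)
    ((freeShEquiv ⊤ (I.homology m)).bijective.comp key)
  exact freeShEquiv_comp ⊤ t _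

theorem exists_kInjective_resolution (C : CochainComplex (Spec R).Modules ℤ) :
    ∃ (I : CochainComplex (Spec R).Modules ℤ) (_ : I.IsKInjective) (r : C ⟶ I), QuasiIso r := by
  haveI := KFlat.Stalk.isGrothendieckAbelian_modules (X := Spec R)
  obtain ⟨I, hI, ⟨e⟩⟩ := KInjRes.exists_kInjective_iso (Q.obj C)
  obtain ⟨r, hr⟩ := KInjRes.exists_Q_map_eq e.hom
  refine ⟨I, hI, r, (DerivedCategory.isIso_Q_map_iff_quasiIso _ r).1 ?_⟩
  rw [hr]
  exact inferInstance

theorem isKInjective_ΓCx (I : CochainComplex (Spec R).Modules ℤ) [I.IsKInjective] :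
    CochainComplex.IsKInjective (ΓCx R I) := by
  haveI : PreservesFiniteColimits (tilde.functor R) :=
    @PreservesColimitsOfSize.preservesFiniteColimits.{0, 0} _ _ _ _ (tilde.functor R)
      ((tilde.adjunction (R := R)).leftAdjoint_preservesColimits)
  exact ExactAdj.isKInjective_map (tilde.adjunction (R := R)) I

/-- An object of `D(Spec R)` with quasi-coherent cohomology comes from `D(R)`. -/
theorem exists_tildeD_iso {K : DCoh.D (Spec (CommRingCat.of R))} (hK : DCoh.IsQCohD K) :
    ∃ M, Nonempty ((DCoh.tildeD R).obj M ≅ K) := by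
  haveI := KFlat.Stalk.isGrothendieckAbelian_modules (X := Spec R)
  obtain ⟨I, hI, ⟨e⟩⟩ := KInjRes.exists_kInjective_iso (A := (Spec R).Modules) K
  have hI' : DCoh.IsQCohD (DCoh.toD (Spec R) I) := fun i =>
    isQCoh_iso ((homologyFunctor (Spec R).Modules i).mapIso e) (hK i)
  haveI := quasiIso_counitCx R I hI'
  exact ⟨Q.obj (ΓCx R I), ⟨(tilde.functor R).mapDerivedCategoryFactors.app (ΓCx R I) ≪≫
    asIso (Q.map (counitCx R I)) ≪≫ e.symm⟩⟩

theorem isQCohD_tildeD (M : DerivedCategory (ModuleCat.{u} R)) :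
    DCoh.IsQCohD ((DCoh.tildeD R).obj M) := fun i => by
  let e : Q.obj ((tCx R).obj (Q.objPreimage M)) ≅ (DCoh.tildeD R).obj M :=
    ((tilde.functor R).mapDerivedCategoryFactors.app _).symm ≪≫
      (DCoh.tildeD R).mapIso (Q.objObjPreimageIso M)
  exact isQCoh_iso (((homologyFunctorFactors (Spec R).Modules i).app _).symm ≪≫
      (homologyFunctor (Spec R).Modules i).mapIso e)
    (isQCoh_homology R _ (isQCoh_tilde_X R _) i)

/-- Adjunct of a map into a K-injective complex. -/
theorem exists_adjunct {M : CochainComplex (ModuleCat.{u} R) ℤ}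
    {I : CochainComplex (Spec R).Modules ℤ} (g : (tCx R).obj M ⟶ I) :
    ∃ g' : M ⟶ ΓCx R I, (tCx R).map g' ≫ counitCx R I = g := by
  let adj := tilde.adjunction (R := R)
  refine ⟨{ f := fun i => adj.homEquiv (M.X i) (I.X i) (g.f i), comm' := fun i j _ => ?_ }, ?_⟩
  · apply (adj.homEquiv (M.X i) (I.X j)).symm.injective
    show (adj.homEquiv _ _).symm (adj.homEquiv _ _ (g.f i) ≫ (ΓSpec R).map (I.d i j)) =
      (adj.homEquiv _ _).symm (M.d i j ≫ adj.homEquiv _ _ (g.f j))
    rw [adj.homEquiv_naturality_right_symm, adj.homEquiv_naturality_left_symm,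
      Equiv.symm_apply_apply, Equiv.symm_apply_apply]
    exact g.comm i j
  · refine HomologicalComplex.hom_ext _ _ fun i => ?_
    exact (adj.homEquiv_counit _ _ _).symm.trans ((adj.homEquiv _ _).symm_apply_apply _)

theorem full_faithful : (DCoh.tildeD R).Full ∧ (DCoh.tildeD R).Faithful := by
  haveI : PreservesFiniteColimits (tilde.functor R) :=
    @PreservesColimitsOfSize.preservesFiniteColimits.{0, 0} _ _ _ _ (tilde.functor R)
      ((tilde.adjunction (R := R)).leftAdjoint_preservesColimits)
  let F := DCoh.tildeD R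
  let φ := (tilde.functor R).mapDerivedCategoryFactors
  have step : ∀ N : CochainComplex (ModuleCat.{u} R) ℤ,
      ∃ (I : CochainComplex (Spec R).Modules ℤ) (_ : I.IsKInjective) (r : (tCx R).obj N ⟶ I)
        (n : N ⟶ ΓCx R I), QuasiIso r ∧ QuasiIso n ∧ (tCx R).map n ≫ counitCx R I = r := by
    intro N
    obtain ⟨I, hI, r, hr⟩ := exists_kInjective_resolution R ((tCx R).obj N)
    haveI := hr
    haveI : IsIso (Q.map r) := inferInstance
    obtain ⟨n, hn⟩ := exists_adjunct R r
    have hI' : DCoh.IsQCohD (DCoh.toD (Spec R) I) := fun i =>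
      isQCoh_iso ((homologyFunctor (Spec R).Modules i).mapIso (φ.app N ≪≫ asIso (Q.map r)))
        (isQCohD_tildeD R (Q.obj N) i)
    haveI := quasiIso_counitCx R I hI'
    haveI : QuasiIso ((tCx R).map n ≫ counitCx R I) := by rw [hn]; exact hr
    haveI : QuasiIso ((tCx R).map n) := quasiIso_of_comp_right _ (counitCx R I)
    exact ⟨I, hI, r, n, hr, (HomologicalComplex.quasiIso_map_iff_of_preservesHomology n (tilde.functor R)).1 ‹_›, hn⟩
  constructor
  · refine ⟨fun {M N} f => ?_⟩
    let M₀ := Q.objPreimage M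
    let N₀ := Q.objPreimage N
    let eM : Q.obj M₀ ≅ M := Q.objObjPreimageIso M
    let eN : Q.obj N₀ ≅ N := Q.objObjPreimageIso N
    obtain ⟨I, hI, r, n, hr, hn, hnr⟩ := step N₀
    haveI := hr
    haveI := hn
    haveI : IsIso (Q.map n) := inferInstance
    haveI : IsIso (Q.map r) := inferInstance
    obtain ⟨g, hg⟩ := KInjRes.exists_Q_map_eq
      ((φ.app M₀).inv ≫ F.map eM.hom ≫ f ≫ F.map eN.inv ≫ (φ.app N₀).hom ≫ Q.map r)
    obtain ⟨g', hg'⟩ := exists_adjunct R g
    let a : Q.obj M₀ ⟶ Q.obj N₀ := Q.map g' ≫ inv (Q.map n)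
    refine ⟨eM.inv ≫ a ≫ eN.hom, ?_⟩
    have key : F.map a ≫ (φ.app N₀).hom ≫ Q.map r = (φ.app M₀).hom ≫ Q.map g := by
      have hN : F.map (Q.map n) ≫ φ.hom.app (ΓCx R I) = φ.hom.app N₀ ≫ Q.map ((tCx R).map n) :=
        φ.hom.naturality n
      have hM : F.map (Q.map g') ≫ φ.hom.app (ΓCx R I) = φ.hom.app M₀ ≫ Q.map ((tCx R).map g') :=
        φ.hom.naturality g'
      have ha : F.map a ≫ F.map (Q.map n) = F.map (Q.map g') := by
        rw [← Functor.map_comp, show a ≫ Q.map n = Q.map g' by simp [a]]
      calc F.map a ≫ (φ.app N₀).hom ≫ Q.map r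
          = F.map a ≫ (φ.hom.app N₀ ≫ Q.map ((tCx R).map n)) ≫ Q.map (counitCx R I) := by
            rw [← hnr, Q.map_comp]; simp only [Category.assoc, Iso.app_hom]
        _ = (F.map a ≫ F.map (Q.map n)) ≫ φ.hom.app (ΓCx R I) ≫ Q.map (counitCx R I) := by
            rw [← hN]; simp only [Category.assoc]
        _ = (F.map (Q.map g') ≫ φ.hom.app (ΓCx R I)) ≫ Q.map (counitCx R I) := by
            rw [ha, Category.assoc]
        _ = (φ.app M₀).hom ≫ Q.map g := by
            rw [hM, ← hg', Functor.map_comp, Category.assoc]; rfl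
    rw [hg, Iso.hom_inv_id_assoc] at key
    have hfa : F.map a = F.map eM.hom ≫ f ≫ F.map eN.inv := by
      rw [← cancel_mono ((φ.app N₀).hom ≫ Q.map r)]
      simp only [Category.assoc]
      exact key
    show F.map (eM.inv ≫ a ≫ eN.hom) = f
    rw [Functor.map_comp, Functor.map_comp, hfa]
    simp only [Category.assoc, ← F.map_comp, ← F.map_comp_assoc, Iso.inv_hom_id,
      CategoryTheory.Functor.map_id, Category.id_comp]
    erw [Category.comp_id]
  · refine ⟨fun {M N} f₁ f₂ h => ?_⟩
    rw [← sub_eq_zero]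
    let M₀ := Q.objPreimage M
    let N₀ := Q.objPreimage N
    let eM : Q.obj M₀ ≅ M := Q.objObjPreimageIso M
    let eN : Q.obj N₀ ≅ N := Q.objObjPreimageIso N
    obtain ⟨I, hI, r, n, hr, hn, hnr⟩ := step N₀
    haveI := hn
    haveI : IsIso (Q.map n) := inferInstance
    haveI := isKInjective_ΓCx R I
    let a := eM.hom ≫ (f₁ - f₂) ≫ eN.inv
    obtain ⟨h', hh'⟩ := KInjRes.exists_Q_map_eq (a ≫ Q.map n)
    have hz : F.map (a ≫ Q.map n) = 0 := by
      simp [a, F, Functor.map_sub, h]
    have hM := φ.hom.naturality h'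
    simp only [Functor.comp_map] at hM
    have h0 : Q.map ((tCx R).map h' ≫ counitCx R I) = 0 := by
      rw [← cancel_epi (φ.hom.app M₀), comp_zero, Functor.map_comp, ← reassoc_of% hM, hh', hz,
        zero_comp]
    obtain ⟨hom⟩ := KInjRes.nonempty_homotopy_of_Q_map_eq (g' := 0)
      (h0.trans (Functor.map_zero _ _ _).symm)
    let u : M₀ ⟶ ΓCx R ((tCx R).obj M₀) :=
      { f := fun i => (tilde.adjunction (R := R)).unit.app (M₀.X i)
        comm' := fun i j _ => ((tilde.adjunction (R := R)).unit.naturality (M₀.d i j)).symm }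
    have hfac : h' = u ≫ ((ΓSpec R).mapHomologicalComplex (ComplexShape.up ℤ)).map
        ((tCx R).map h' ≫ counitCx R I - 0) := by
      refine HomologicalComplex.hom_ext _ _ fun i => ?_
      rw [sub_zero]
      exact (((tilde.adjunction (R := R)).homEquiv_unit _ _ _).symm.trans
        ((congrArg _ ((tilde.adjunction (R := R)).homEquiv_counit _ _ _).symm).trans
          (Equiv.apply_symm_apply _ _))).symm
    have hzero : Q.map h' = 0 := by
      rw [hfac, Q_map_eq_of_homotopy _
        (((ΓSpec R).mapHomotopy hom).compLeft u), Functor.map_zero, comp_zero, Functor.map_zero]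
    rw [hzero] at hh'
    have ha : a = 0 := by
      rw [← cancel_mono (Q.map n), zero_comp]; exact hh'.symm
    rw [← cancel_epi eM.hom, ← cancel_mono eN.inv, comp_zero, zero_comp, Category.assoc]
    exact ha

theorem isQCohD_iff (K : DCoh.D (Spec (CommRingCat.of R))) :
    DCoh.IsQCohD K ↔ ∃ M, Nonempty ((DCoh.tildeD R).obj M ≅ K) :=
  ⟨exists_tildeD_iso R, fun ⟨M, ⟨e⟩⟩ i =>
    isQCoh_iso ((homologyFunctor (Spec (CommRingCat.of R)).Modules i).mapIso e)
      (isQCohD_tildeD R M i)⟩

end Spec

end Groth.Agent.H16Derived.QCohD
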