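import Groth.Agent.H16Derived.QCohD.CompactFree
import Groth.Agent.H16Derived.QCohD.RpushUnb
import Groth.Agent.H16Derived.KFlat.FlatCover
import Groth.Agent.H16Derived.KFlat.TorAmp
import Groth.Agent.S1040

/-!
# `Rf_*` commutes with direct sums of quasi-coherent complexes
-/

set_option autoImplicit false
set_option linter.style.haveILetI false

universe u

open CategoryTheory CategoryTheory.Limits CategoryTheory.Pretriangulated AlgebraicGeometry

attribute [local instance] HasDerivedCategory.standard

namespace Groth.Agent.H16Derived.QCohD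

open Groth.Agent.H10Coh Groth.Agent.H16Derived.KFlat.Stalk

variable {X S : Scheme.{u}} (f : X ⟶ S)

/-- `f^* (j_! O_W) ≅ j_! O_{f⁻¹ W}`. -/
noncomputable def pullFreeIso (W : S.Opens) :
    (Scheme.Modules.pullback f).obj (freeSh W) ≅ freeSh (f ⁻¹ᵁ W) :=
  let adj := Scheme.Modules.pullbackPushforwardAdjunction f
  let E : ∀ M : X.Modules, ((Scheme.Modules.pullback f).obj (freeSh W) ⟶ M) ≃
      (freeSh (f ⁻¹ᵁ W) ⟶ M) := fun M =>
    ((adj.homEquiv _ M).trans (freeShEquiv W _)).trans (freeShEquiv (f ⁻¹ᵁ W) M).symm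
  have hE : ∀ {M N : X.Modules} (g : M ⟶ N) (h : (Scheme.Modules.pullback f).obj (freeSh W) ⟶ M),
      E N (h ≫ g) = E M h ≫ g := fun {M N} g h => by
    apply (freeShEquiv (f ⁻¹ᵁ W) N).injective
    simp only [E, Equiv.trans_apply]
    rw [freeShEquiv_comp]
    refine (Equiv.apply_symm_apply (freeShEquiv (f ⁻¹ᵁ W) N) _).trans ?_
    refine Eq.trans ?_ (congrArg _ (Equiv.apply_symm_apply (freeShEquiv (f ⁻¹ᵁ W) M) _)).symm
    rw [Adjunction.homEquiv_naturality_right, freeShEquiv_comp]
    rfl
  { hom := (E _).symm (𝟙 _)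
    inv := E _ (𝟙 _)
    hom_inv_id := (E _).injective (by rw [hE, Equiv.apply_symm_apply, Category.id_comp])
    inv_hom_id := by rw [← hE, Category.id_comp, Equiv.apply_symm_apply] }

/-- `Lf^* (j_! O_W[-m]) ≅ j_! O_{f⁻¹ W}[-m]`. -/
theorem nonempty_lpull_freeSh [DCoh.HasLpull f] (W : S.Opens) (m : ℤ) :
    Nonempty ((DCoh.Lpull f).obj ((DerivedCategory.singleFunctor S.Modules m).obj (freeSh W)) ≅
      (DerivedCategory.singleFunctor X.Modules m).obj (freeSh (f ⁻¹ᵁ W))) := by
  have hk : kflat S ((HomologicalComplex.single S.Modules (ComplexShape.up ℤ) m).obj (freeSh W)) :=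
    kflat_of_boundedAbove _ m (fun q hq => HomologicalComplex.isZero_single_obj_X _ _ _ _ hq.ne')
      fun q => by
        rcases eq_or_ne q m with rfl | hq
        · exact isFlat_of_retract
            (HomologicalComplex.singleObjXSelf (ComplexShape.up ℤ) q (freeSh W)).hom
            (HomologicalComplex.singleObjXSelf (ComplexShape.up ℤ) q (freeSh W)).inv
            (Iso.hom_inv_id _) (isFlat_gen W)
        · exact isFlat_of_isZero (HomologicalComplex.isZero_single_obj_X _ _ _ _ hq)
  exact ⟨(DCoh.Lpull f).mapIso ((DerivedCategory.singleFunctorIsoCompQ S.Modules m).app _) ≪≫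
    lpullObjIso f _ hk ≪≫ DerivedCategory.Q.mapIso
      ((HomologicalComplex.singleMapHomologicalComplex (Scheme.Modules.pullback f)
        (ComplexShape.up ℤ) m).app _) ≪≫
    ((DerivedCategory.singleFunctorIsoCompQ X.Modules m).app _).symm ≪≫
    (DerivedCategory.singleFunctor X.Modules m).mapIso (pullFreeIso f W)⟩

variable [QuasiCompact f] [QuasiSeparated f]

/-- `Lf^*` of a free sheaf on an affine open is compact relative to quasi-coherent complexes. -/
theorem holds_lpull_freeSh [DCoh.HasLpull f] {W : S.Opens} (hW : IsAffineOpen W) (m : ℤ) :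
    FinSupp.Holds.{u} (fun L : DCoh.D X => DCoh.IsQCohD L)
      ((DCoh.Lpull f).obj ((DerivedCategory.singleFunctor S.Modules m).obj (freeSh W))) := by
  obtain ⟨e⟩ := nonempty_lpull_freeSh f W m
  haveI : IsAffine (W : Scheme.{u}) := hW
  haveI : QuasiSeparatedSpace (f ⁻¹ᵁ W : Scheme.{u}) := quasiSeparatedSpace_of_quasiSeparated (f ∣_ W)
  have h := rel_freeSh (W := f ⁻¹ᵁ W)
    (QuasiCompact.isCompact_preimage (f := f) _ W.isOpen hW.isCompact) (-m)
  exact FinSupp.of_iso ((((DerivedCategory.singleFunctors X.Modules).shiftIso (-m) m 0 (by omega)).app _) ≪≫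
    e.symm) h

variable [DCoh.HasRpush f] {ι : Type u} (K : ι → DCoh.D X) (hK : ∀ i, DCoh.IsQCohD (K i))
  [HasCoproduct K] [HasCoproduct (fun i => (DCoh.Rpush f).obj (K i))]

open Classical in
omit [QuasiCompact f] [QuasiSeparated f] in
lemma desc_comp_proj (i : ι) [(DCoh.Rpush f).Additive] :
    Sigma.desc (fun i => (DCoh.Rpush f).map (Sigma.ι K i)) ≫
      (DCoh.Rpush f).map (FinSupp.proj K i) = FinSupp.proj (fun i => (DCoh.Rpush f).obj (K i)) i := by
  refine Sigma.hom_ext _ _ fun k => ?_
  rw [Sigma.ι_desc_assoc, ← Functor.map_comp]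
  simp only [FinSupp.proj, Sigma.ι_desc]
  by_cases h : k = i
  · subst h; simp
  · simp [h]

include hK in
/-- The comparison map is an isomorphism. -/
theorem isIso_rpush_sigma :
    IsIso (Sigma.desc (fun i => (DCoh.Rpush f).map (Sigma.ι K i))) := by
  haveI := hasLpull f
  letI := rpushCommShift f
  haveI := rpush_isTriangulated f
  haveI : (DCoh.Rpush f).Additive := (
    letI := lpullCommShift f
    haveI := lpull_isTriangulated f
    (lpullRpushAdj f).right_adjoint_additive)
  let G := DCoh.Rpush f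
  let φ := Sigma.desc (fun i => G.map (Sigma.ι K i))
  have hq₁ : DCoh.IsQCohD (∐ fun i => G.obj (K i)) :=
    S1040.result S _ fun i => isQCohD_rpush f (hK i)
  have hq₂ : DCoh.IsQCohD (G.obj (∐ K)) := isQCohD_rpush f (S1040.result X K hK)
  have hbij : ∀ (W : S.Opens) (_ : IsAffineOpen W) (m : ℤ),
      Function.Bijective fun t : freeSh W ⟶ (DerivedCategory.homologyFunctor S.Modules m).obj
        (∐ fun i => G.obj (K i)) => t ≫ (DerivedCategory.homologyFunctor S.Modules m).map φ := by
    intro W hW m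
    let T := (DerivedCategory.singleFunctor S.Modules m).obj (freeSh W)
    let a := lpullRpushAdj f
    have hb : Function.Bijective fun t : T ⟶ ∐ (fun i => G.obj (K i)) => t ≫ φ := by
      constructor
      · intro t t' htt
        dsimp only at htt
        rw [← sub_eq_zero]
        obtain ⟨s, hs⟩ := holds_affine hW m ι (fun i => G.obj (K i))
          (fun i => isQCohD_rpush f (hK i)) (t - t')
        rw [← hs, FinSupp.idem, Preadditive.comp_sum]
        refine Finset.sum_eq_zero fun i _ => ?_
        rw [← Category.assoc, ← desc_comp_proj f K i, ← Category.assoc, Preadditive.sub_comp, htt,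
          sub_self, zero_comp, zero_comp]
      · intro β
        obtain ⟨s, hs⟩ := holds_lpull_freeSh f hW m ι K hK ((a.homEquiv T (∐ K)).symm β)
        have hβ : β ≫ G.map (FinSupp.idem K s) = β := by
          conv_lhs => rw [← (a.homEquiv T (∐ K)).apply_symm_apply β, ← a.homEquiv_naturality_right, hs]
          exact Equiv.apply_symm_apply _ _
        refine ⟨∑ i ∈ s, (β ≫ G.map (FinSupp.proj K i)) ≫ Sigma.ι (fun i => G.obj (K i)) i, ?_⟩
        show (∑ i ∈ s, _) ≫ φ = β
        conv_rhs => rw [← hβ, FinSupp.idem, Functor.map_sum, Preadditive.comp_sum]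
        rw [Preadditive.sum_comp]
        refine Finset.sum_congr rfl fun i _ => ?_
        simp [φ, G]
    have e : θ (freeSh W) m ∘ (fun t : T ⟶ ∐ (fun i => G.obj (K i)) => t ≫ φ) =
        (fun t => t ≫ (DerivedCategory.homologyFunctor S.Modules m).map φ) ∘ θ (freeSh W) m :=
      funext fun t => θ_comp (freeSh W) m t φ
    have h := (bijective_θ_affine hq₂ hW m).comp hb
    rw [e] at h
    exact (Function.Bijective.of_comp_iff _ (bijective_θ_affine hq₁ hW m)).1 h
  rw [DerivedCategory.isIso_iff]
  intro m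
  haveI : Mono ((DerivedCategory.homologyFunctor S.Modules m).map φ) :=
    Preadditive.mono_of_cancel_zero _ fun {Z} ψ hψ => (affineTests S).hom_ext ψ fun F hF g => by
      obtain ⟨W, hW, rfl⟩ := hF
      exact (hbij W hW m).1 (show (g ≫ ψ) ≫ _ = (0 : freeSh W ⟶ _) ≫ _ by
        rw [Category.assoc, hψ, comp_zero, zero_comp])
  haveI : Epi ((DerivedCategory.homologyFunctor S.Modules m).map φ) :=
    Preadditive.epi_of_cancel_zero _ fun {Z} ψ hψ => (affineTests S).hom_ext ψ fun F hF g => by
      obtain ⟨W, hW, rfl⟩ := hF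
      obtain ⟨t, rfl⟩ := (hbij W hW m).2 g
      rw [Category.assoc, hψ, comp_zero]
  exact isIso_of_mono_of_epi _

end Groth.Agent.H16Derived.QCohD
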