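import Groth.Agent.H16Derived.QCohD.Perfect
import Groth.Agent.H16Derived.QCohD.CompactPerfect
import Groth.Agent.H16Derived.QCohD.RpushCoprod
import Groth.Agent.H16Derived.QCohD.Equiv
import Groth.Agent.H16Derived.QCohD.Lpull
import Groth.Agent.S1105

/-!
# Relatively compact objects of `D_QCoh` are perfect
-/

set_option autoImplicit false
set_option linter.style.haveILetI false

universe u

open CategoryTheory CategoryTheory.Limits CategoryTheory.Pretriangulated AlgebraicGeometry

attribute [local instance] HasDerivedCategory.standard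

namespace Groth.Agent.H16Derived.QCohD

open Groth.Agent.H10Coh Groth.Agent.H16Derived.KFlat.Stalk

variable {X : Scheme.{u}}

/-- `D(O_X)` has small coproducts. -/
theorem hasCoproduct_D {κ : Type u} (K : κ → DCoh.D X) : HasCoproduct K := by
  haveI := KFlat.Stalk.isGrothendieckAbelian_modules (X := X)
  let C : κ → CochainComplex X.Modules ℤ := fun i => DerivedCategory.Q.objPreimage (K i)
  haveI := QCoprod.preservesColimit_Q C
  let cof : Cofan fun i => DerivedCategory.Q.obj (C i) :=
    Cofan.mk (DerivedCategory.Q.obj (∐ C)) fun i => DerivedCategory.Q.map (Sigma.ι C i)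
  haveI : HasColimit (Discrete.functor fun i => DerivedCategory.Q.obj (C i)) :=
    HasColimit.mk ⟨cof, isColimitCofanMkObjOfIsColimit DerivedCategory.Q _ _ (coproductIsCoproduct C)⟩
  exact hasColimit_of_iso (Discrete.natIso fun i => (DerivedCategory.Q.objObjPreimageIso (K i.as)).symm :
    Discrete.functor K ≅ Discrete.functor fun i => DerivedCategory.Q.obj (C i))

/-- `Lf^*` preserves relative compactness. -/
theorem holds_lpull {Y : Scheme.{u}} (f : Y ⟶ X) [QuasiCompact f] [QuasiSeparated f] [DCoh.HasLpull f]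
    {K : DCoh.D X} (hK : FinSupp.Holds.{u} (fun L : DCoh.D X => DCoh.IsQCohD L) K) :
    FinSupp.Holds.{u} (fun L : DCoh.D Y => DCoh.IsQCohD L) ((DCoh.Lpull f).obj K) := by
  intro κ M _ hM α
  haveI := hasRpush f
  haveI : (DCoh.Rpush f).Additive := (
    letI := lpullCommShift f
    haveI := lpull_isTriangulated f
    (lpullRpushAdj f).right_adjoint_additive)
  let G := DCoh.Rpush f
  let a := lpullRpushAdj f
  haveI : HasCoproduct fun i => G.obj (M i) := hasCoproduct_D _
  haveI : IsIso (sigmaComparison G M) := isIso_rpush_sigma f M hM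
  let β := a.homEquiv K (∐ M) α
  obtain ⟨s, hs⟩ := hK κ (fun i => G.obj (M i)) (fun i => isQCohD_rpush f (hM i))
    (β ≫ inv (sigmaComparison G M))
  refine ⟨s, (a.homEquiv K (∐ M)).injective ?_⟩
  rw [a.homEquiv_naturality_right]
  show β ≫ G.map (FinSupp.idem M s) = β
  rw [← cancel_mono (sigmaComparison G M), Category.assoc, FinSupp.sigmaComparison_idem,
    Category.assoc, IsIso.inv_hom_id_assoc] at hs
  exact hs.trans ((Category.assoc _ _ _).trans ((congrArg (β ≫ ·) (IsIso.inv_hom_id _)).trans
    (Category.comp_id _)))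

/-- Relative compactness of `M~` gives compactness of `M`. -/
theorem finiteSupport_of_holds_tilde (A : Type u) [CommRing A]
    (M : Dual.D A) (h : FinSupp.Holds.{u} (fun L : DCoh.D (Spec (CommRingCat.of A)) => DCoh.IsQCohD L)
      ((DCoh.tildeD (CommRingCat.of A)).obj M)) : H25DTen.FiniteSupport M := by
  classical
  intro κ C α
  let R := CommRingCat.of A
  haveI := KFlat.Stalk.isGrothendieckAbelian_modules (X := Spec R)
  let T := DCoh.tildeD R
  let F : CochainComplex (ModuleCat.{u} A) ℤ ⥤ DCoh.D (Spec R) := DerivedCategory.Q ⋙ T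
  let TC := (tilde.functor R).mapHomologicalComplex (ComplexShape.up ℤ)
  haveI : (tilde.functor R).IsLeftAdjoint := (tilde.adjunction (R := R)).isLeftAdjoint
  haveI : PreservesColimitsOfShape (Discrete κ) TC :=
    HomologicalComplex.preservesColimitsOfShape_of_eval _ fun j =>
      inferInstanceAs (PreservesColimitsOfShape (Discrete κ)
        (HomologicalComplex.eval (ModuleCat.{u} R) (ComplexShape.up ℤ) j ⋙ tilde.functor R))
  haveI : PreservesColimit (Discrete.functor C ⋙ TC) (DerivedCategory.Q (C := (Spec R).Modules)) :=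
    @preservesColimit_of_iso_diagram _ _ _ _ _ _ _ _ (DerivedCategory.Q (C := (Spec R).Modules))
      (Discrete.natIso fun i => Iso.refl (TC.obj (C i.as)) :
        Discrete.functor (fun i => TC.obj (C i)) ≅ Discrete.functor C ⋙ TC)
      (QCoprod.preservesColimit_Q fun i => TC.obj (C i))
  haveI : PreservesColimit (Discrete.functor C) F :=
    haveI : PreservesColimit (Discrete.functor C) (TC ⋙ DerivedCategory.Q) :=
      Limits.comp_preservesColimit TC DerivedCategory.Q
    preservesColimit_of_natIso _ (tilde.functor R).mapDerivedCategoryFactors.symm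
  let cof : Cofan fun i => F.obj (C i) := Cofan.mk (F.obj (∐ C)) fun i => F.map (Sigma.ι C i)
  let hcof : IsColimit cof := isColimitCofanMkObjOfIsColimit F _ _ (coproductIsCoproduct C)
  haveI : HasCoproduct fun i => F.obj (C i) := HasColimit.mk ⟨cof, hcof⟩
  haveI : IsIso (sigmaComparison F C) := by
    exact (PreservesCoproduct.iso F C).isIso_inv
  obtain ⟨s, hs⟩ := h κ (fun i => F.obj (C i)) (fun i => isQCohD_tildeD R _)
    (T.map α ≫ inv (sigmaComparison F C))
  refine ⟨s, ?_⟩
  haveI := (full_faithful R).2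
  apply T.map_injective
  rw [← cancel_mono (sigmaComparison F C), Category.assoc, FinSupp.sigmaComparison_idem,
    Category.assoc, IsIso.inv_hom_id_assoc] at hs
  have hs' : T.map α ≫ F.map (FinSupp.idem C s) = T.map α :=
    hs.trans ((Category.assoc _ _ _).trans ((congrArg (T.map α ≫ ·) (IsIso.inv_hom_id _)).trans
      (Category.comp_id _)))
  have he : Compact.idem C s = FinSupp.idem C s := rfl
  rw [Functor.map_sub, CategoryTheory.Functor.map_id, Preadditive.comp_sub, Category.comp_id,
    Functor.map_sub, Functor.map_zero, T.map_comp, he, sub_eq_zero]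
  exact hs'.symm

/-- Relatively compact objects of `D_QCoh` are perfect. -/
theorem isPerfect_of_holds [QuasiSeparatedSpace X] {K : DCoh.D X} (hK : DCoh.IsQCohD K)
    (h : FinSupp.Holds.{u} (fun L : DCoh.D X => DCoh.IsQCohD L) K) : DCoh.IsPerfect K := by
  refine isPerfect_of_local fun x => ?_
  obtain ⟨_, ⟨U, hU, rfl⟩, hxU, -⟩ :=
    X.isBasis_affineOpens.exists_subset_of_mem_open (Set.mem_univ x) isOpen_univ
  have hU' : IsAffineOpen U := hU
  let A := Γ(X, U)
  let j : Spec (CommRingCat.of A) ⟶ X := hU'.fromSpec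
  haveI : QuasiCompact j := quasiCompact_of_compactSpace j
  haveI : DCoh.HasLpull j := hasLpull j
  obtain ⟨e'⟩ := lpull_openImmersion j K
  have hq : DCoh.IsQCohD ((rd j).obj K) := isQCohD_iso e' (isQCohD_lpull j hK)
  obtain ⟨M, ⟨eM⟩⟩ := exists_tildeD_iso (R := CommRingCat.of A) hq
  have hM : DRing.IsPerfect A M := CompactPerfect.isPerfect_of_finiteSupport
    (finiteSupport_of_holds_tilde A M (FinSupp.of_iso (e' ≪≫ eM.symm) (holds_lpull j h)))
  have hperf : DCoh.IsPerfect ((rd j).obj K) := by
    obtain ⟨z, hz⟩ : ∃ K', K' = (DCoh.tildeD (CommRingCat.of A)).obj M ∧ DCoh.IsPerfect K' :=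
      ⟨_, rfl, (S1105.result A M).2 hM⟩
    exact fun y => (hz.2 y).imp fun V hV => ⟨hV.1, fun F ⟨eF⟩ => hV.2 F ⟨eF ≪≫ eM.symm ≪≫ eqToIso hz.1.symm⟩⟩
  obtain ⟨y, hy⟩ : x ∈ Set.range j := by
    rw [hU'.range_fromSpec]; exact hxU
  obtain ⟨V, hyV, E, hE, ⟨ε⟩⟩ := (isPerfect_iff _).1 hperf y
  exact ⟨_, V.ι ≫ j, inferInstance, ⟨⟨y, hyV⟩, hy⟩, E, hE,
    ⟨ε ≪≫ (rdComp V.ι j _ rfl K).symm⟩⟩

end Groth.Agent.H16Derived.QCohD
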