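import Groth.Agent.H16Derived.QCohD.Affine
import Groth.Agent.H16Derived.KFlat.RestrictD
import Groth.Agent.H16Derived.KFlat.PerfConcD
import Groth.Agent.H15Site.RDerPlus
import Groth.Agent.H10Coh.HigherDirect2
import Groth.Agent.H10Coh.Bounded
import Groth.Agent.H10Coh.QCohExt

/-!
# Derived direct image of quasi-coherent complexes

For a bounded below complex with quasi-coherent cohomology: dévissage from higher direct images of modules.
-/

set_option autoImplicit false
set_option linter.style.haveILetI false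

universe u

open CategoryTheory CategoryTheory.Limits CategoryTheory.Pretriangulated AlgebraicGeometry
open DerivedCategory DerivedCategory.TStructure

attribute [local instance] HasDerivedCategory.standard

namespace Groth.Agent.H16Derived.QCohD

open Groth.Agent.H16Derived.KFlat.Stalk

variable {X S : Scheme.{u}} (f : X ⟶ S) [DCoh.HasRpush f]

/-- Direct image on the derived category, in one degree. -/
theorem nonempty_hd_rpush_single [HasInjectiveResolutions X.Modules] (M : X.Modules) (p : ℕ) :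
    Nonempty (DCoh.HD ((DCoh.Rpush f).obj ((singleFunctor X.Modules 0).obj M)) (p : ℤ) ≅
      (Coh.Rpush f p).obj M) :=
  haveI := isGrothendieckAbelian_modules (X := X)
  haveI : (H15Site.FlatAdjD.toD (Scheme.Modules.pushforward f)).HasRightDerivedFunctor
      (HomotopyCategory.quasiIso X.Modules (ComplexShape.up ℤ)) := ‹DCoh.HasRpush f›
  H15Site.RDerPlus.nonempty_homology_single_iso (Scheme.Modules.pushforward f) M p

theorem hasInjectiveResolutions_modules : HasInjectiveResolutions X.Modules :=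
  haveI := isGrothendieckAbelian_modules (X := X)
  haveI : EnoughInjectives X.Modules := inferInstance
  inferInstance

/-- All cohomological degrees `≥ N` of higher direct images of quasi-coherent modules vanish. -/
def Bound (N : ℕ) : Prop :=
  ∀ (M : X.Modules), Coh.IsQCoh M → ∀ [HasInjectiveResolutions X.Modules] (p : ℕ), N ≤ p →
    IsZero ((Coh.Rpush f p).obj M)

theorem exists_bound [QuasiCompact f] [QuasiSeparated f] [CompactSpace S] :
    ∃ N : ℕ, Bound f N := by
  obtain ⟨d, hd⟩ := H10Coh.exists_rpush_bound f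
  refine ⟨d, fun M hM _ p hp => ?_⟩
  rw [IsZero.iff_id_eq_zero]
  exact (H10Coh.shF S).map_injective
    (((hd M hM p hp).of_iso (H10Coh.nonempty_toAb_rpush f M p).some).eq_of_src _ _)

/-- The shifted single object. -/
theorem nonempty_hd_rpush_singleAt [HasInjectiveResolutions X.Modules] (M : X.Modules) (a i : ℤ)
    (p : ℕ) (h : i = a + p) :
    Nonempty (DCoh.HD ((DCoh.Rpush f).obj ((singleFunctor X.Modules a).obj M)) i ≅
      (Coh.Rpush f p).obj M) := by
  letI := rpushCommShift f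
  obtain ⟨e⟩ := nonempty_hd_rpush_single f M p
  let s : ((singleFunctor X.Modules 0).obj M)⟦-a⟧ ≅ (singleFunctor X.Modules a).obj M :=
    ((singleFunctors X.Modules).shiftIso (-a) a 0 (by omega)).app M
  exact ⟨(homologyFunctor S.Modules i).mapIso ((DCoh.Rpush f).mapIso s.symm ≪≫
      ((DCoh.Rpush f).commShiftIso (-a)).app _) ≪≫
    ((homologyFunctor S.Modules 0).shiftIso (-a) i (p : ℤ) (by omega)).app _ ≪≫ e⟩

section Middle

variable {T : Triangle (DCoh.D S)} (hT : T ∈ distTriang (DCoh.D S)) (m : ℤ)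

include hT in
theorem isQCoh_middle (h₀ : Coh.IsQCoh (DCoh.HD T.obj₃ (m - 1))) (h₁ : Coh.IsQCoh (DCoh.HD T.obj₁ m))
    (h₂ : Coh.IsQCoh (DCoh.HD T.obj₃ m)) (h₃ : Coh.IsQCoh (DCoh.HD T.obj₁ (m + 1))) :
    Coh.IsQCoh (DCoh.HD T.obj₂ m) := by
  let H := fun i => homologyFunctor S.Modules i
  have e₁ := HomologySequence.exact₁ T hT (m - 1) m (by omega)
  have e₂ := HomologySequence.exact₂ T hT m
  have e₃ := HomologySequence.exact₃ T hT m (m + 1) rfl
  haveI : (DCoh.HD T.obj₁ m).IsQuasicoherent := h₁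
  haveI : (DCoh.HD T.obj₃ m).IsQuasicoherent := h₂
  haveI : (DCoh.HD T.obj₃ (m - 1)).IsQuasicoherent := h₀
  haveI : (DCoh.HD T.obj₁ (m + 1)).IsQuasicoherent := h₃
  let δ₀ := HomologySequence.δ T (m - 1) m (by omega)
  let δ := HomologySequence.δ T m (m + 1) rfl
  haveI : (cokernel δ₀).IsQuasicoherent := H10Coh.isQuasicoherent_cokernel δ₀
  haveI : (kernel δ).IsQuasicoherent := H10Coh.isQuasicoherent_kernel δ
  let i : cokernel δ₀ ⟶ (H m).obj T.obj₂ := cokernel.desc δ₀ ((H m).map T.mor₁)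
    (HomologySequence.δ_comp T hT (m - 1) m (by omega))
  let q : (H m).obj T.obj₂ ⟶ kernel δ := kernel.lift δ ((H m).map T.mor₂)
    (HomologySequence.comp_δ T hT m (m + 1) rfl)
  haveI : Mono i := e₁.mono_cokernelDesc
  haveI : Epi q := e₃.epi_kernelLift
  have hw : i ≫ q = 0 := by
    rw [← cancel_epi (cokernel.π δ₀), ← cancel_mono (kernel.ι δ)]
    simp [i, q, ← Functor.map_comp, comp_distTriang_mor_zero₁₂ T hT]
  have hS : (ShortComplex.mk i q hw).ShortExact := by
    refine { exact := ?_ }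
    have hw₁ : (H m).map T.mor₁ ≫ q = 0 := by
      rw [← cancel_mono (kernel.ι δ)]
      simp [q, H, ← Functor.map_comp, comp_distTriang_mor_zero₁₂ T hT]
    let φ : ShortComplex.mk ((H m).map T.mor₁) q hw₁ ⟶
        ShortComplex.mk i q hw :=
      { τ₁ := cokernel.π δ₀, τ₂ := 𝟙 _, τ₃ := 𝟙 _,
        comm₁₂ := (cokernel.π_desc _ _ _).trans (Category.comp_id _).symm }
    haveI : Epi φ.τ₁ := inferInstanceAs (Epi (cokernel.π δ₀))
    haveI : IsIso φ.τ₂ := inferInstanceAs (IsIso (𝟙 _))
    haveI : Mono φ.τ₃ := inferInstanceAs (Mono (𝟙 _))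
    refine (ShortComplex.exact_iff_of_epi_of_isIso_of_mono φ).1 ?_
    let ψ : ShortComplex.mk ((H m).map T.mor₁) q hw₁ ⟶ ShortComplex.mk ((H m).map T.mor₁) ((H m).map T.mor₂)
        (by rw [← Functor.map_comp, comp_distTriang_mor_zero₁₂ T hT, Functor.map_zero]) :=
      { τ₁ := 𝟙 _, τ₂ := 𝟙 _, τ₃ := kernel.ι δ, comm₂₃ := by simp [q] }
    haveI : Epi ψ.τ₁ := inferInstanceAs (Epi (𝟙 _))
    haveI : IsIso ψ.τ₂ := inferInstanceAs (IsIso (𝟙 _))
    haveI : Mono ψ.τ₃ := inferInstanceAs (Mono (kernel.ι δ))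
    exact (ShortComplex.exact_iff_of_epi_of_isIso_of_mono ψ).2 e₂
  exact H10Coh.isQuasicoherent_X₂ hS

end Middle

/-- The conclusion of the dévissage. -/
structure Good (N : ℕ) (K : DCoh.D X) (b : ℤ) : Prop where
  qcoh : DCoh.IsQCohD ((DCoh.Rpush f).obj K)
  vanish : ∀ m : ℤ, b + N ≤ m → IsZero (DCoh.HD ((DCoh.Rpush f).obj K) m)

variable [QuasiCompact f] [QuasiSeparated f] {N : ℕ}

theorem good_single (hN : Bound f N) {M : X.Modules} (hM : Coh.IsQCoh M) (a : ℤ) :
    Good f N ((singleFunctor X.Modules a).obj M) a := by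
  haveI := hasInjectiveResolutions_modules (X := X)
  haveI : M.IsQuasicoherent := hM
  have hge : DerivedCategory.IsGE ((DCoh.Rpush f).obj ((singleFunctor X.Modules a).obj M)) a :=
    isGE_rpush f _ a
  refine ⟨fun i => ?_, fun m hm => ?_⟩
  · rcases lt_or_ge i a with h | h
    · exact isQCoh_isZero _ (DerivedCategory.isZero_of_isGE _ a i h)
    · obtain ⟨p, hp⟩ := Int.eq_ofNat_of_zero_le (show 0 ≤ i - a by omega)
      exact isQCoh_iso (nonempty_hd_rpush_singleAt f M a i p (by omega)).some.symm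
        (H10Coh.isQuasicoherent_rpush f M p)
  · obtain ⟨p, hp⟩ := Int.eq_ofNat_of_zero_le (show 0 ≤ m - a by omega)
    exact (hN M hM p (by omega)).of_iso (nonempty_hd_rpush_singleAt f M a m p (by omega)).some

theorem good_bounded (hN : Bound f N) : ∀ (k : ℕ) (a b : ℤ), b - a + 1 ≤ k →
    ∀ (K : DCoh.D X), K.IsGE a → K.IsLE b → DCoh.IsQCohD K → Good f N K b := by
  intro k
  induction k with
  | zero =>
    intro a b hk K _ _ _
    letI := rpushCommShift f
    haveI := rpush_isTriangulated f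
    have hz : IsZero ((DCoh.Rpush f).obj K) :=
      (DCoh.Rpush f).map_isZero (t.isZero K b a (by omega))
    exact ⟨fun i => isQCoh_isZero _ ((homologyFunctor S.Modules i).map_isZero hz),
      fun m _ => (homologyFunctor S.Modules m).map_isZero hz⟩
  | succ k ih =>
    intro a b hk K _ _ hK
    letI := rpushCommShift f
    haveI := rpush_isTriangulated f
    have hT := t.triangleLTGE_distinguished b K
    haveI : DerivedCategory.IsGE ((t.truncGE b).obj K) b := inferInstanceAs (t.IsGE _ b)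
    haveI : DerivedCategory.IsLE ((t.truncGE b).obj K) b := DTrunc.isLE_truncGE K b b
    obtain ⟨M, ⟨e⟩⟩ := ((t.truncGE b).obj K).exists_iso_singleFunctor_obj_of_isGE_of_isLE b
    have hM : Coh.IsQCoh M := isQCoh_iso ((homologyFunctor X.Modules b).mapIso e ≪≫
      (singleFunctorCompHomologyFunctorIso X.Modules b).app M)
      (homP_truncGE Coh.IsQCoh isQCoh_iso isQCoh_isZero hK b b)
    obtain ⟨q₁, v₁⟩ := ih a (b - 1) (by omega) _ (DTrunc.isGE_truncLT K b a)
      (inferInstanceAs (t.IsLE ((t.truncLT b).obj K) (b - 1)))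
      (homP_truncLT Coh.IsQCoh isQCoh_iso isQCoh_isZero hK b)
    obtain ⟨q₂, v₂⟩ := good_single f hN hM b
    have hRT := (DCoh.Rpush f).map_distinguished _ hT
    have e' : ∀ i, DCoh.HD ((DCoh.Rpush f).obj ((singleFunctor X.Modules b).obj M)) i ≅
        DCoh.HD ((DCoh.Rpush f).obj ((t.truncGE b).obj K)) i := fun i =>
      (homologyFunctor S.Modules i).mapIso ((DCoh.Rpush f).mapIso e.symm)
    refine ⟨fun m => ?_, fun m hm => ?_⟩
    · exact isQCoh_middle hRT m (isQCoh_iso (e' _) (q₂ _)) (q₁ _) (isQCoh_iso (e' _) (q₂ _)) (q₁ _)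
    · exact (HomologySequence.exact₂ _ hRT m).isZero_of_both_zeros
        ((v₁ m (by omega)).eq_of_src _ _) (((v₂ m hm).of_iso (e' m).symm).eq_of_tgt _ _)

/-- Bounded below objects. -/
theorem good_isGE (hN : Bound f N) (K : DCoh.D X) (a : ℤ) [K.IsGE a] (hK : DCoh.IsQCohD K) :
    DCoh.IsQCohD ((DCoh.Rpush f).obj K) := by
  intro m
  letI := rpushCommShift f
  haveI := rpush_isTriangulated f
  have hRT := (DCoh.Rpush f).map_distinguished _ (t.triangleLTGE_distinguished (m + 2) K)
  haveI : DerivedCategory.IsGE ((t.truncGE (m + 2)).obj K) (m + 2) := inferInstanceAs (t.IsGE _ (m + 2))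
  haveI := isGE_rpush f ((t.truncGE (m + 2)).obj K) (m + 2)
  haveI : DerivedCategory.IsGE ((t.truncLT (m + 2)).obj K) a := DTrunc.isGE_truncLT K (m + 2) a
  have hLE : DerivedCategory.IsLE ((t.truncLT (m + 2)).obj K) (m + 1) := by
    have h : DerivedCategory.IsLE ((t.truncLT (m + 2)).obj K) (m + 2 - 1) := inferInstanceAs (t.IsLE _ _)
    rwa [show m + 2 - 1 = m + 1 by omega] at h
  let K' := (DCoh.Rpush f).obj ((t.truncGE (m + 2)).obj K)
  have hz : ∀ i, i < m + 2 → IsZero (DCoh.HD K' i) := fun i hi =>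
    DerivedCategory.isZero_of_isGE K' (m + 2) i hi
  have q₁ := (good_bounded f hN ((m + 1) - a + 1).toNat a (m + 1) (Int.self_le_toNat _) _ inferInstance
    hLE
    (homP_truncLT Coh.IsQCoh isQCoh_iso isQCoh_isZero hK (m + 2))).qcoh
  exact isQCoh_middle hRT m
    (isQCoh_isZero _ (hz (m - 1) (by omega))) (q₁ _)
    (isQCoh_isZero _ (hz m (by omega))) (q₁ _)

/-- The vanishing bound for bounded below objects. -/
theorem vanish_isGE (hN : Bound f N) (K : DCoh.D X) (a b : ℤ) [K.IsGE a] [K.IsLE b]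
    (hK : DCoh.IsQCohD K) (m : ℤ) (hm : b + N ≤ m) : IsZero (DCoh.HD ((DCoh.Rpush f).obj K) m) :=
  (good_bounded f hN (b - a + 1).toNat a b (Int.self_le_toNat _) K ‹_› ‹_› hK).vanish m hm

end Groth.Agent.H16Derived.QCohD
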