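import Groth.Agent.H16Derived.QCohD.Equiv
import Groth.Agent.H16Derived.QCohD.RpushUnb
import Groth.Agent.H16Derived.QCohD.MV
import Groth.Agent.H16Derived.KFlat.GammaDetect

/-!
# Complexes of quasi-coherent modules and affine morphisms
-/

set_option autoImplicit false
set_option linter.style.haveILetI false

universe u

open CategoryTheory CategoryTheory.Limits AlgebraicGeometry Opposite TopologicalSpace

attribute [local instance] HasDerivedCategory.standard

namespace Groth.Agent.H16Derived.QCohD.AffineUnit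

open Groth.Agent.H10Coh Groth.Agent.H16Derived.KFlat Groth.Agent.H16Derived.QCohD

variable {X S : Scheme.{u}}

theorem isQCoh_cycles' (C : CochainComplex X.Modules ℤ) (hC : ∀ i, Coh.IsQCoh (C.X i))
    (i : ℤ) : Coh.IsQCoh (C.cycles i) := by
  haveI : (C.X i).IsQuasicoherent := hC i
  haveI : (C.X (i + 1)).IsQuasicoherent := hC (i + 1)
  exact isQCoh_iso ((kernelIsKernel _).conePointUniqueUpToIso
    (C.cyclesIsKernel i (i + 1) (by simp))) (isQuasicoherent_kernel (C.d i (i + 1)))

theorem isQCoh_homology' (C : CochainComplex X.Modules ℤ) (hC : ∀ i, Coh.IsQCoh (C.X i))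
    (i : ℤ) : Coh.IsQCoh (C.homology i) := by
  haveI : (C.X (i - 1)).IsQuasicoherent := hC (i - 1)
  haveI : (C.cycles i).IsQuasicoherent := isQCoh_cycles' C hC i
  exact isQCoh_iso ((cokernelIsCokernel _).coconePointUniqueUpToIso
    (C.homologyIsCokernel (i - 1) i (by simp))) (isQuasicoherent_cokernel (C.toCycles (i - 1) i))

theorem isQCohD_Q (C : CochainComplex X.Modules ℤ) (hC : ∀ i, Coh.IsQCoh (C.X i)) :
    DCoh.IsQCohD (DCoh.toD X C) := fun i =>
  isQCoh_iso ((DerivedCategory.homologyFunctorFactors X.Modules i).app C).symm (isQCoh_homology' C hC i)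

lemma sub_app' {M N : X.Modules} (φ : M ⟶ N) (U : X.Opens) (a b : Γ(M, U)) :
    φ.app U (a - b) = φ.app U a - φ.app U b := map_sub _ _ _

lemma app_comp' {M N K : X.Modules} (φ : M ⟶ N) (ψ : N ⟶ K) (U : X.Opens) (a : Γ(M, U)) :
    ψ.app U (φ.app U a) = (φ ≫ ψ).app U a := rfl

/-- A cycle of sections with zero cohomology class is a boundary. -/
theorem exists_boundary_qcoh (C : CochainComplex X.Modules ℤ) (hC : ∀ i, Coh.IsQCoh (C.X i))
    {U : X.Opens} (hU : IsAffineOpen U) (m : ℤ) (c : Γ(C.cycles m, U))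
    (hc : (C.homologyπ m).app U c = 0) :
    ∃ a : Γ(C.X (m - 1), U), (C.toCycles (m - 1) m).app U a = c := by
  let K := kernel (C.homologyπ m)
  let k : C.X (m - 1) ⟶ K := kernel.lift _ (C.toCycles (m - 1) m) (C.toCycles_comp_homologyπ (m - 1) m)
  haveI : Epi k := by
    have h : (ShortComplex.mk _ _ (C.toCycles_comp_homologyπ (m - 1) m)).Exact :=
      ShortComplex.exact_of_g_is_cokernel _ (C.homologyIsCokernel (m - 1) m (by simp))
    exact h.epi_kernelLift
  haveI : (C.X (m - 1)).IsQuasicoherent := hC (m - 1)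
  haveI : (C.cycles m).IsQuasicoherent := isQCoh_cycles' C hC m
  haveI : (C.homology m).IsQuasicoherent := isQCoh_homology' C hC m
  haveI : K.IsQuasicoherent := isQuasicoherent_kernel (C.homologyπ m)
  let φ := (freeShEquiv U (C.cycles m)).symm c
  have hφ : φ ≫ C.homologyπ m = 0 := (freeShEquiv U _).injective (by
    rw [freeShEquiv_comp, Equiv.apply_symm_apply, hc]
    have h := freeShEquiv_comp U (0 : freeSh U ⟶ C.cycles m) (0 : C.cycles m ⟶ C.homology m)
    rw [comp_zero] at h
    exact h.symm.trans (by rfl) |>.symm)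
  obtain ⟨a, ha⟩ := surjective_app_of_epi k hU (freeShEquiv U K (kernel.lift _ φ hφ))
  refine ⟨a, ?_⟩
  have h1 : k ≫ kernel.ι _ = C.toCycles (m - 1) m := kernel.lift_ι _ _ _
  rw [← h1, ← app_comp', ha, ← freeShEquiv_comp, kernel.lift_ι, Equiv.apply_symm_apply]

/-- Sections over an affine open of a K-injective resolution of a complex of quasi-coherent modules. -/
theorem quasiIso_sections (F I : CochainComplex X.Modules ℤ) (hF : ∀ i, Coh.IsQCoh (F.X i))
    [I.IsKInjective] (r : F ⟶ I) [QuasiIso r] {U : X.Opens} (hU : IsAffineOpen U) (i : ℤ) :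
    (∀ y : Γ(I.X i, U), (I.d i (i + 1)).app U y = 0 →
      ∃ (x : Γ(F.X i, U)) (b : Γ(I.X (i - 1), U)), (F.d i (i + 1)).app U x = 0 ∧
        (r.f i).app U x = y + (I.d (i - 1) i).app U b) ∧
    (∀ (x : Γ(F.X i, U)) (b : Γ(I.X (i - 1), U)), (F.d i (i + 1)).app U x = 0 →
      (r.f i).app U x = (I.d (i - 1) i).app U b →
      ∃ a : Γ(F.X (i - 1), U), (F.d (i - 1) i).app U a = x) := by
  have hI : DCoh.IsQCohD (DCoh.toD X I) := fun m =>
    isQCoh_iso ((DerivedCategory.homologyFunctor X.Modules m).mapIso (asIso (DerivedCategory.Q.map r)))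
      (isQCohD_Q F hF m)
  haveI : (F.cycles i).IsQuasicoherent := isQCoh_cycles' F hF i
  haveI : (F.homology i).IsQuasicoherent := isQCoh_homology' F hF i
  let hr := HomologicalComplex.homologyMap r i
  have lift_cycle : ∀ {C : CochainComplex X.Modules ℤ} (z : Γ(C.X i, U)),
      (C.d i (i + 1)).app U z = 0 → ∃ c : Γ(C.cycles i, U), (C.iCycles i).app U c = z := by
    intro C z hz
    have h0 : (freeShEquiv U _).symm z ≫ C.d i (i + 1) = 0 := (freeShEquiv U _).injective (by
      rw [freeShEquiv_comp, Equiv.apply_symm_apply, hz]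
      have h := freeShEquiv_comp U (0 : freeSh U ⟶ C.X i) (0 : C.X i ⟶ C.X (i + 1))
      rw [comp_zero] at h
      exact h.symm.trans (by rfl) |>.symm)
    refine ⟨freeShEquiv U _ (C.liftCycles _ (i + 1) (by simp) h0), ?_⟩
    rw [← freeShEquiv_comp, HomologicalComplex.liftCycles_i, Equiv.apply_symm_apply]
  have bdI : ∀ c : Γ(I.cycles i, U), (I.homologyπ i).app U c = 0 →
      ∃ b : Γ(I.X (i - 1), U), (I.toCycles (i - 1) i).app U b = c := by
    intro c hc
    have h0 : (freeShEquiv U _).symm c ≫ I.homologyπ i = 0 := (freeShEquiv U _).injective (by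
      rw [freeShEquiv_comp, Equiv.apply_symm_apply, hc]
      have h := freeShEquiv_comp U (0 : freeSh U ⟶ I.cycles i) (0 : I.cycles i ⟶ I.homology i)
      rw [comp_zero] at h
      exact h.symm.trans (by rfl) |>.symm)
    obtain ⟨w, hw⟩ := exists_boundary hI hU i _ h0
    exact ⟨freeShEquiv U _ w, by rw [← freeShEquiv_comp, hw, Equiv.apply_symm_apply]⟩
  constructor
  · intro y hy
    obtain ⟨c, hc⟩ := lift_cycle y hy
    haveI : IsIso hr := (quasiIsoAt_iff_isIso_homologyMap r i).1 inferInstance
    haveI : IsIso (hr.app U) := Scheme.Modules.Hom.isIso_iff_isIso_app.mp inferInstance U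
    obtain ⟨s, hs⟩ := (ConcreteCategory.bijective_of_isIso (hr.app U)).2 ((I.homologyπ i).app U c)
    obtain ⟨z, hz⟩ := surjective_app_of_epi (F.homologyπ i) hU s
    obtain ⟨b, hb⟩ := bdI ((HomologicalComplex.cyclesMap r i).app U z - c) (by
      rw [sub_app', app_comp', ← HomologicalComplex.homologyπ_naturality, ← app_comp', hz, hs, sub_self])
    refine ⟨(F.iCycles i).app U z, b, ?_, ?_⟩
    · rw [app_comp', HomologicalComplex.iCycles_d]; rfl
    · rw [app_comp', ← HomologicalComplex.cyclesMap_i, ← app_comp', ← hc, ← I.toCycles_i (i - 1) i,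
        ← app_comp', hb, sub_app', add_sub_cancel]
  · intro x b hx hxb
    obtain ⟨c, hc⟩ := lift_cycle x hx
    obtain ⟨a, ha⟩ := exists_boundary_qcoh F hF hU i c (by
      haveI : IsIso hr := (quasiIsoAt_iff_isIso_homologyMap r i).1 inferInstance
      haveI : IsIso (hr.app U) := Scheme.Modules.Hom.isIso_iff_isIso_app.mp inferInstance U
      refine (ConcreteCategory.bijective_of_isIso (hr.app U)).1 ?_
      rw [map_zero]
      show (HomologicalComplex.homologyMap r i).app U _ = 0
      rw [app_comp', HomologicalComplex.homologyπ_naturality, ← app_comp']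
      have e : (HomologicalComplex.cyclesMap r i).app U c = (I.toCycles (i - 1) i).app U b :=
        injective_app_of_mono' (I.iCycles i) U (by
          rw [app_comp', app_comp', HomologicalComplex.cyclesMap_i, HomologicalComplex.toCycles_i,
            ← app_comp', hc, hxb])
      rw [e, app_comp', HomologicalComplex.toCycles_comp_homologyπ]
      rfl)
    exact ⟨a, by rw [← F.toCycles_i (i - 1) i, ← app_comp', ha, hc]⟩

theorem quasiIso_of_affine_sections {K L : CochainComplex X.Modules ℤ} (g : K ⟶ L)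
    (h : ∀ V : X.Opens, IsAffineOpen V → QuasiIso (((DCoh.gammaAb (V : Scheme.{u})).mapHomologicalComplex
      (ComplexShape.up ℤ)).map ((DCoh.restrictCx V).map g))) : QuasiIso g := by
  rw [AcyclicLES.quasiIso_iff_acyclic_mappingCone]
  refine GammaAcyclic.acyclic_of_affine_sections _ fun V hV => ?_
  have h5 := h V hV
  rw [AcyclicLES.quasiIso_iff_acyclic_mappingCone] at h5
  intro i
  refine (h5 i).of_iso ?_
  exact (((DCoh.gammaAb (V : Scheme.{u})).mapHomologicalComplex (ComplexShape.up ℤ)).mapIso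
      (CochainComplex.mappingCone.mapHomologicalComplexIso g (Scheme.Modules.restrictFunctor V.ι)) ≪≫
    CochainComplex.mappingCone.mapHomologicalComplexIso _ (DCoh.gammaAb (V : Scheme.{u}))).symm

variable (f : X ⟶ S) [IsAffineHom f]

theorem isAffineOpen_preimage {V : S.Opens} (hV : IsAffineOpen V) : IsAffineOpen (f ⁻¹ᵁ (V.ι ''ᵁ ⊤)) := by
  rw [Scheme.Opens.ι_image_top]
  exact hV.preimage f

/-- The direct image of a resolution of a complex of quasi-coherent modules. -/
theorem quasiIso_push (F I : CochainComplex X.Modules ℤ) (hF : ∀ i, Coh.IsQCoh (F.X i))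
    [I.IsKInjective] (r : F ⟶ I) [QuasiIso r] :
    QuasiIso (((Scheme.Modules.pushforward f).mapHomologicalComplex (ComplexShape.up ℤ)).map r) := by
  refine quasiIso_of_affine_sections _ fun V hV => ⟨fun i => ?_⟩
  obtain ⟨hs, hi⟩ := quasiIso_sections F I hF r (isAffineOpen_preimage f hV) i
  exact GammaAcyclic.quasiIso_of_elements _ i hs hi

/-- `Rf_* F = f_* F` for complexes of quasi-coherent modules and affine `f`. -/
theorem isIso_rpushUnit_qcoh [DCoh.HasRpush f] (F : CochainComplex X.Modules ℤ)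
    (hF : ∀ i, Coh.IsQCoh (F.X i)) :
    IsIso ((KFlat.Stalk.rpushUnit f).app ((HomotopyCategory.quotient _ _).obj F)) := by
  obtain ⟨N, j, hN⟩ := KInjRes.exists_resolution_functor (A := X.Modules)
  let r : F ⟶ N.obj F := j.app F
  haveI : QuasiIso r := (hN F).2.1
  haveI : CochainComplex.IsKInjective (N.obj F) := (hN F).2.2.1
  let qX := HomotopyCategory.quotient X.Modules (ComplexShape.up ℤ)
  let u := KFlat.Stalk.rpushUnit f
  haveI : IsIso (u.app (qX.obj (N.obj F))) := KFlat.Stalk.isIso_rpushUnit f (N.obj F)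
  haveI : IsIso ((DerivedCategory.Qh (C := X.Modules)).map (qX.map r)) :=
    Localization.inverts DerivedCategory.Qh (HomotopyCategory.quasiIso X.Modules (ComplexShape.up ℤ)) _
      ((HomotopyCategory.quotient_map_mem_quasiIso_iff _).2 ‹QuasiIso r›)
  haveI : IsIso ((DCoh.pushKh f).map (qX.map r)) :=
    Localization.inverts DerivedCategory.Qh (HomotopyCategory.quasiIso S.Modules (ComplexShape.up ℤ)) _
      ((HomotopyCategory.quotient_map_mem_quasiIso_iff _).2 (quasiIso_push f F (N.obj F) hF r))
  haveI : IsIso ((DerivedCategory.Qh ⋙ DCoh.Rpush f).map (qX.map r)) :=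
    Functor.map_isIso (DCoh.Rpush f) (DerivedCategory.Qh.map (qX.map r))
  haveI : IsIso (u.app (qX.obj F) ≫ (DerivedCategory.Qh ⋙ DCoh.Rpush f).map (qX.map r)) := by
    rw [← u.naturality]
    infer_instance
  exact IsIso.of_isIso_comp_right _ ((DerivedCategory.Qh ⋙ DCoh.Rpush f).map (qX.map r))

end Groth.Agent.H16Derived.QCohD.AffineUnit
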