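import Groth.Agent.H16Derived.DTrunc
import Mathlib.CategoryTheory.Limits.Shapes.Products

/-!
# Cohomology of objects which are limits of their truncations

Let `G` be an object of an abelian category, `P` a class of objects with no higher extensions by `G`.
We compare maps `G[-m] ⟶ N` with maps `G ⟶ H^m N` when all cohomology objects of `N` are in `P`.
-/

set_option autoImplicit false
set_option linter.style.haveILetI false
set_option linter.unusedSectionVars false

universe w v u

open CategoryTheory CategoryTheory.Limits CategoryTheory.Pretriangulated CategoryTheory.Triangulated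
open DerivedCategory DerivedCategory.TStructure

namespace Groth.Agent.H16Derived.QCohD

/-- Solving `x n - t n (x (n + 1)) = y n` for an eventually bijective tower. -/
theorem exists_tower_solution {M : ℕ → Type*} [∀ n, AddCommGroup (M n)]
    (t : ∀ n, M (n + 1) →+ M n) (y : ∀ n, M n) (N : ℕ)
    (h : ∀ n, N ≤ n → Function.Surjective (t n)) :
    ∃ x : ∀ n, M n, ∀ n, x n - t n (x (n + 1)) = y n := by
  induction N generalizing M with
  | zero =>
    choose s hs using fun n => h n (Nat.zero_le n)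
    let x : ∀ n, M n := fun n => Nat.rec (motive := fun k => M k) 0 (fun k xk => s k (xk - y k)) n
    exact ⟨x, fun n => by
      show x n - t n (s n (x n - y n)) = y n
      rw [hs, sub_sub_cancel]⟩
  | succ N ih =>
    obtain ⟨x, hx⟩ := ih (M := fun n => M (n + 1)) (fun n => t (n + 1)) (fun n => y (n + 1))
      (fun n hn => h (n + 1) (by omega))
    let x' : ∀ n, M n := fun n => match n with
      | 0 => y 0 + t 0 (x 0)
      | k + 1 => x k
    refine ⟨x', fun n => ?_⟩
    cases n with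
    | zero => exact add_sub_cancel_right _ _
    | succ k => exact hx k

/-- A compatible family of an eventually injective tower vanishing at a large index vanishes. -/
theorem tower_eq_zero {M : ℕ → Type*} [∀ n, AddCommGroup (M n)]
    (t : ∀ n, M (n + 1) →+ M n) (N : ℕ) (h : ∀ n, N ≤ n → Function.Injective (t n))
    (x : ∀ n, M n) (hx : ∀ n, x n = t n (x (n + 1))) (n₀ : ℕ) (hn₀ : N ≤ n₀) (h0 : x n₀ = 0)
    (n : ℕ) : x n = 0 := by
  rcases le_or_gt n₀ n with hn | hn
  · induction n, hn using Nat.le_induction with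
    | base => exact h0
    | succ k hk ih => exact h k (by omega) (((hx k).symm.trans ih).trans (map_zero (t k)).symm)
  · obtain ⟨d, rfl⟩ := Nat.exists_eq_add_of_le hn.le
    clear hn
    induction d generalizing n with
    | zero => exact h0
    | succ d ih =>
      rw [hx n, ih (n + 1) (by omega) (by rw [show n + 1 + d = n + (d + 1) by omega]; exact h0),
        map_zero]

/-- Extending an element to a compatible family. -/
theorem exists_tower_lift {M : ℕ → Type*} [∀ n, AddCommGroup (M n)]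
    (t : ∀ n, M (n + 1) →+ M n) (n₀ : ℕ) (h : ∀ n, n₀ ≤ n → Function.Surjective (t n)) (b : M n₀) :
    ∃ x : ∀ n, M n, x n₀ = b ∧ ∀ n, x n = t n (x (n + 1)) := by
  induction n₀ generalizing M with
  | zero =>
    choose s hs using fun n => h n (Nat.zero_le n)
    let x : ∀ n, M n := fun n => Nat.rec (motive := fun k => M k) b (fun k xk => s k xk) n
    exact ⟨x, rfl, fun n => (hs n (x n)).symm⟩
  | succ n₀ ih =>
    obtain ⟨x, hx0, hx⟩ := ih (M := fun n => M (n + 1)) (fun n => t (n + 1))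
      (fun n hn => h (n + 1) (by omega)) b
    let x' : ∀ n, M n := fun n => match n with
      | 0 => t 0 (x 0)
      | k + 1 => x k
    refine ⟨x', hx0, fun n => ?_⟩
    cases n with
    | zero => rfl
    | succ k => exact hx k

variable {A : Type u} [Category.{v} A] [Abelian A] [HasDerivedCategory.{w} A]

/-- A map `G[-m] ⟶ N` gives a map `G ⟶ H^m N`. -/
noncomputable def θ (G : A) (m : ℤ) {N : DerivedCategory A}
    (f : (singleFunctor A m).obj G ⟶ N) : G ⟶ (homologyFunctor A m).obj N :=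
  (singleFunctorCompHomologyFunctorIso A m).inv.app G ≫ (homologyFunctor A m).map f

lemma θ_comp (G : A) (m : ℤ) {N N' : DerivedCategory A} (f : (singleFunctor A m).obj G ⟶ N)
    (φ : N ⟶ N') : θ G m (f ≫ φ) = θ G m f ≫ (homologyFunctor A m).map φ := by
  rw [θ, θ, Functor.map_comp, Category.assoc]

lemma θ_precomp {G G' : A} (g : G' ⟶ G) (m : ℤ) {N : DerivedCategory A}
    (f : (singleFunctor A m).obj G ⟶ N) :
    θ G' m ((singleFunctor A m).map g ≫ f) = g ≫ θ G m f := by
  rw [θ, θ, Functor.map_comp]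
  exact ((singleFunctorCompHomologyFunctorIso A m).inv.naturality_assoc g _).symm

lemma θ_zero (G : A) (m : ℤ) (N : DerivedCategory A) :
    θ G m (0 : (singleFunctor A m).obj G ⟶ N) = 0 := by
  rw [θ, Functor.map_zero, comp_zero]

lemma θ_sub (G : A) (m : ℤ) {N : DerivedCategory A} (f g : (singleFunctor A m).obj G ⟶ N) :
    θ G m (f - g) = θ G m f - θ G m g := by
  rw [θ, θ, θ, Functor.map_sub, Preadditive.comp_sub]

lemma eq_zero_of_θ_of_isGE (G : A) (m : ℤ) {N : DerivedCategory A} [N.IsGE m]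
    (f : (singleFunctor A m).obj G ⟶ N) (hf : θ G m f = 0) : f = 0 := by
  refine DTrunc.eq_zero_of_homologyMap_eq_zero f m ?_
  rw [← cancel_epi ((singleFunctorCompHomologyFunctorIso A m).inv.app G), comp_zero]
  exact hf

lemma θ_surjective_of_isGE (G : A) (m : ℤ) (N : DerivedCategory A) [N.IsGE m]
    (g : G ⟶ (homologyFunctor A m).obj N) :
    ∃ f : (singleFunctor A m).obj G ⟶ N, θ G m f = g := by
  let T := (t.truncLT (m + 1)).obj N
  haveI : DerivedCategory.IsGE T m := DTrunc.isGE_truncLT N (m + 1) m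
  haveI : DerivedCategory.IsLE T m := inferInstanceAs (t.IsLE ((t.truncLT (m + 1)).obj N) m)
  haveI := DTrunc.isIso_homology_truncLTι N (m + 1) m (by omega)
  obtain ⟨Y, ⟨e⟩⟩ := T.exists_iso_singleFunctor_obj_of_isGE_of_isLE m
  let c : (homologyFunctor A m).obj N ≅ Y :=
    (asIso ((homologyFunctor A m).map ((t.truncLTι (m + 1)).app N))).symm ≪≫
      (homologyFunctor A m).mapIso e ≪≫ (singleFunctorCompHomologyFunctorIso A m).app Y
  refine ⟨(singleFunctor A m).map (g ≫ c.hom) ≫ e.inv ≫ (t.truncLTι (m + 1)).app N, ?_⟩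
  rw [θ_precomp, θ_comp, Category.assoc]
  have : c.hom ≫ θ Y m e.inv ≫ (homologyFunctor A m).map ((t.truncLTι (m + 1)).app N) = 𝟙 _ := by
    simp [c, θ, Iso.hom_inv_id_app_assoc, ← Functor.map_comp_assoc]
  rw [this, Category.comp_id]

/-- Maps `G[-m] ⟶ F[-j]` vanish for `j < m` and `F` in `P`. -/
def Acyclic (P : A → Prop) (G : A) : Prop :=
  ∀ (m j : ℤ), j < m → ∀ F : A, P F →
    ∀ f : (singleFunctor A m).obj G ⟶ (singleFunctor A j).obj F, f = 0

variable (P : A → Prop) (hiso : ∀ {M M' : A}, (M ≅ M') → P M → P M')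
  (hzero : ∀ M : A, IsZero M → P M) {G : A} (hG : Acyclic P G)

/-- All cohomology objects lie in `P`. -/
def HomP (N : DerivedCategory A) : Prop := ∀ i : ℤ, P ((homologyFunctor A i).obj N)

include hiso hzero in
lemma homP_truncLT {N : DerivedCategory A} (hN : HomP P N) (n : ℤ) :
    HomP P ((t.truncLT n).obj N) := fun i => by
  rcases lt_or_ge i n with h | h
  · have := DTrunc.isIso_homology_truncLTι N n i h
    exact hiso (asIso ((homologyFunctor A i).map ((t.truncLTι n).app N))).symm (hN i)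
  · haveI : DerivedCategory.IsLE ((t.truncLT n).obj N) (n - 1) := inferInstanceAs (t.IsLE _ (n - 1))
    exact hzero _ (DerivedCategory.isZero_of_isLE _ (n - 1) i (by omega))

include hiso hzero in
lemma homP_truncGE {N : DerivedCategory A} (hN : HomP P N) (n : ℤ) :
    HomP P ((t.truncGE n).obj N) := fun i => by
  rcases le_or_gt n i with h | h
  · have := DTrunc.isIso_homology_truncGEπ N n i h
    exact hiso (asIso ((homologyFunctor A i).map ((t.truncGEπ n).app N))) (hN i)
  · haveI : DerivedCategory.IsGE ((t.truncGE n).obj N) n := inferInstanceAs (t.IsGE _ n)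
    exact hzero _ (DerivedCategory.isZero_of_isGE _ n i h)

include hiso in
lemma homP_shift {N : DerivedCategory A} (hN : HomP P N) (n : ℤ) : HomP P (N⟦n⟧) := fun i =>
  hiso (((homologyFunctor A 0).shiftIso n i (n + i) rfl).app N).symm (hN (n + i))

include hiso hzero hG in
lemma hom_eq_zero_of_isLE : ∀ (k : ℕ) (a b m : ℤ), b - a + 1 ≤ k → b < m →
    ∀ (N : DerivedCategory A), N.IsGE a → N.IsLE b → HomP P N →
      ∀ f : (singleFunctor A m).obj G ⟶ N, f = 0 := by
  intro k
  induction k with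
  | zero =>
    intro a b m hk _ N _ _ _ f
    exact (t.isZero N b a (by omega)).eq_of_tgt _ _
  | succ k ih =>
    intro a b m hk hbm N _ _ hN f
    have hT := t.triangleLTGE_distinguished b N
    haveI : DerivedCategory.IsGE ((t.truncGE b).obj N) b := inferInstanceAs (t.IsGE _ b)
    haveI : DerivedCategory.IsLE ((t.truncGE b).obj N) b := DTrunc.isLE_truncGE N b b
    obtain ⟨Y, ⟨e⟩⟩ := ((t.truncGE b).obj N).exists_iso_singleFunctor_obj_of_isGE_of_isLE b
    have hY : P Y := hiso ((homologyFunctor A b).mapIso e ≪≫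
      (singleFunctorCompHomologyFunctorIso A b).app Y) (homP_truncGE P hiso hzero hN b b)
    have h2 : f ≫ (t.truncGEπ b).app N = 0 := by
      rw [← cancel_mono e.hom, zero_comp]
      exact hG m b hbm Y hY _
    obtain ⟨f', hf'⟩ := Triangle.coyoneda_exact₂ _ hT f h2
    rw [hf']
    have : f' = 0 := ih a (b - 1) m (by omega) (by omega) _ (DTrunc.isGE_truncLT N b a)
      (inferInstanceAs (t.IsLE ((t.truncLT b).obj N) (b - 1))) (homP_truncLT P hiso hzero hN b) f'
    rw [this, zero_comp]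
    rfl

include hiso hzero hG in
lemma hom_eq_zero {N : DerivedCategory A} (a b m : ℤ) [N.IsGE a] [N.IsLE b] (hN : HomP P N)
    (hbm : b < m) (f : (singleFunctor A m).obj G ⟶ N) : f = 0 :=
  hom_eq_zero_of_isLE P hiso hzero hG (b - a + 1).toNat a b m (Int.self_le_toNat _) hbm N
    ‹_› ‹_› hN f

include hiso hzero hG in
theorem θ_bijective_of_isGE {N : DerivedCategory A} (a : ℤ) [N.IsGE a] (hN : HomP P N) (m : ℤ) :
    Function.Bijective (θ G m (N := N)) := by
  have hT := t.triangleLTGE_distinguished m N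
  haveI : DerivedCategory.IsGE ((t.truncGE m).obj N) m := inferInstanceAs (t.IsGE _ m)
  have := DTrunc.isIso_homology_truncGEπ N m m le_rfl
  haveI : DerivedCategory.IsGE ((t.truncLT m).obj N) a := DTrunc.isGE_truncLT N m a
  haveI : DerivedCategory.IsLE ((t.truncLT m).obj N) (m - 1) := inferInstanceAs (t.IsLE _ (m - 1))
  have hP := homP_truncLT P hiso hzero hN m
  constructor
  · intro f g hfg
    rw [← sub_eq_zero]
    have h0 : θ G m (f - g) = 0 := by rw [θ_sub, hfg, sub_self]
    have h2 : (f - g) ≫ (t.truncGEπ m).app N = 0 :=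
      eq_zero_of_θ_of_isGE G m _ (by rw [θ_comp, h0, zero_comp])
    obtain ⟨f', hf'⟩ := Triangle.coyoneda_exact₂ _ hT (f - g) h2
    rw [hf', show f' = 0 from hom_eq_zero P hiso hzero hG a (m - 1) m hP (by omega) f', zero_comp]
    rfl
  · intro g
    obtain ⟨f, hf⟩ := θ_surjective_of_isGE G m ((t.truncGE m).obj N)
      (g ≫ (homologyFunctor A m).map ((t.truncGEπ m).app N))
    haveI : DerivedCategory.IsGE (((t.truncLT m).obj N)⟦(1 : ℤ)⟧) (a - 1) :=
      t.isGE_shift _ a 1 (a - 1)
    haveI : DerivedCategory.IsLE (((t.truncLT m).obj N)⟦(1 : ℤ)⟧) (m - 2) :=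
      t.isLE_shift _ (m - 1) 1 (m - 2)
    obtain ⟨f', hf'⟩ := Triangle.coyoneda_exact₃ _ hT f
      (hom_eq_zero P hiso hzero hG (a - 1) (m - 2) m (homP_shift P hiso hP 1) (by omega) _)
    refine ⟨f', ?_⟩
    rw [← cancel_mono ((homologyFunctor A m).map ((t.truncGEπ m).app N)), ← θ_comp, ← hf]
    exact congrArg (θ G m) hf'.symm

section Limit

variable (K : DerivedCategory A) (hK : HomP P K)

/-- The truncations of `K`. -/
noncomputable abbrev tr (n : ℕ) : DerivedCategory A := (t.truncGE (-(n : ℤ))).obj K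

/-- The transition maps. -/
noncomputable abbrev trMap (n : ℕ) : tr K (n + 1) ⟶ tr K n :=
  (t.natTransTruncGEOfLE (-((n + 1 : ℕ) : ℤ)) (-(n : ℤ))
    (Int.neg_le_neg (Int.ofNat_le.mpr (Nat.le_succ n)))).app K

lemma π_trMap (n : ℕ) :
    (t.truncGEπ (-((n + 1 : ℕ) : ℤ))).app K ≫ trMap K n = (t.truncGEπ (-(n : ℤ))).app K :=
  t.π_natTransTruncGEOfLE_app _ _ _ K

lemma isIso_homology_trMap (n : ℕ) (i : ℤ) (h : -(n : ℤ) ≤ i) :
    IsIso ((homologyFunctor A i).map (trMap K n)) := by
  have := DTrunc.isIso_homology_truncGEπ K (-(n : ℤ)) i h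
  have := DTrunc.isIso_homology_truncGEπ K (-((n + 1 : ℕ) : ℤ)) i (by omega)
  have e : (homologyFunctor A i).map ((t.truncGEπ (-((n + 1 : ℕ) : ℤ))).app K) ≫
      (homologyFunctor A i).map (trMap K n) =
      (homologyFunctor A i).map ((t.truncGEπ (-(n : ℤ))).app K) := by
    rw [← Functor.map_comp, π_trMap]
  exact IsIso.of_isIso_fac_left e

/-- Postcomposition with the transition map. -/
noncomputable def trHom (S : DerivedCategory A) (n : ℕ) : (S ⟶ tr K (n + 1)) →+ (S ⟶ tr K n) :=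
  AddMonoidHom.mk' (fun x => x ≫ trMap K n) fun _ _ => Preadditive.add_comp _ _ _ _ _ _

lemma trHom_apply (S : DerivedCategory A) (n : ℕ) (x : S ⟶ tr K (n + 1)) :
    trHom K S n x = x ≫ trMap K n := rfl

include hiso hzero hG hK in
lemma bijective_trHom (m : ℤ) (n : ℕ) (h : -(n : ℤ) ≤ m) :
    Function.Bijective (trHom K ((singleFunctor A m).obj G) n) := by
  haveI := fun n : ℕ => (inferInstanceAs (t.IsGE (tr K n) (-(n : ℤ))) :
    DerivedCategory.IsGE (tr K n) (-(n : ℤ)))
  have h1 := θ_bijective_of_isGE P hiso hzero hG (N := tr K (n + 1)) (-((n + 1 : ℕ) : ℤ))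
    (homP_truncGE P hiso hzero hK _) m
  have h2 := θ_bijective_of_isGE P hiso hzero hG (N := tr K n) (-(n : ℤ))
    (homP_truncGE P hiso hzero hK _) m
  have := isIso_homology_trMap K n m h
  have h3 : Function.Bijective fun g : G ⟶ (homologyFunctor A m).obj (tr K (n + 1)) =>
      g ≫ (homologyFunctor A m).map (trMap K n) :=
    ⟨fun a b hab => (cancel_mono _).1 hab, fun b => ⟨b ≫ inv ((homologyFunctor A m).map (trMap K n)), by simp⟩⟩
  have e : θ G m ∘ trHom K ((singleFunctor A m).obj G) n =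
      (fun g => g ≫ (homologyFunctor A m).map (trMap K n)) ∘ θ G m :=
    funext fun f => θ_comp G m f _
  exact (Function.Bijective.of_comp_iff' h2 _).1 (e ▸ h3.comp h1)

variable [HasProduct (tr K)]

/-- `1 - transition` on the product of the truncations. -/
noncomputable abbrev oneSub : ∏ᶜ (tr K) ⟶ ∏ᶜ (tr K) :=
  Pi.lift fun n : ℕ => Pi.π (tr K) n - Pi.π (tr K) (n + 1) ≫ trMap K n

include hiso hzero hG hK in
lemma exists_comp_oneSub (m : ℤ) (c : (singleFunctor A m).obj G ⟶ ∏ᶜ (tr K)) :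
    ∃ c', c' ≫ oneSub K = c := by
  obtain ⟨x, hx⟩ := exists_tower_solution (trHom K ((singleFunctor A m).obj G))
    (fun n => c ≫ Pi.π (tr K) n) (-m).toNat
    fun n hn => (bijective_trHom P hiso hzero hG K hK m n (by omega)).2
  refine ⟨Pi.lift x, Pi.hom_ext _ _ fun n => ?_⟩
  rw [Category.assoc, Pi.lift_π, Preadditive.comp_sub, Pi.lift_π, Pi.lift_π_assoc]
  exact hx n

variable {L : DerivedCategory A} (f : L ⟶ ∏ᶜ (tr K)) (h : ∏ᶜ (tr K) ⟶ L⟦(1 : ℤ)⟧)
  (hT : Triangle.mk f (oneSub K) h ∈ distTriang (DerivedCategory A))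

include hiso hzero hG hK hT in
lemma injective_comp_π (m : ℤ) (n₀ : ℕ) (hn₀ : -(n₀ : ℤ) ≤ m)
    (a : (singleFunctor A m).obj G ⟶ L) (ha : a ≫ f ≫ Pi.π (tr K) n₀ = 0) : a = 0 := by
  have h0 : a ≫ f = 0 := by
    refine Pi.hom_ext _ _ fun n => ?_
    rw [zero_comp, Category.assoc]
    refine tower_eq_zero (trHom K ((singleFunctor A m).obj G)) (-m).toNat
      (fun k hk => (bijective_trHom P hiso hzero hG K hK m k (by omega)).1)
      (fun k => a ≫ f ≫ Pi.π (tr K) k) (fun k => ?_) n₀ (by omega) ha n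
    have hz : f ≫ oneSub K = 0 := comp_distTriang_mor_zero₁₂ _ hT
    have := congrArg (fun φ => a ≫ φ ≫ Pi.π (tr K) k) hz
    simp only [Category.assoc, Pi.lift_π, Preadditive.comp_sub, zero_comp, comp_zero,
      sub_eq_zero] at this
    rw [this]
    simp [trHom_apply]
  have h1 : a⟦(1 : ℤ)⟧' ≫ f⟦(1 : ℤ)⟧' = 0 := by rw [← Functor.map_comp, h0, Functor.map_zero]
  obtain ⟨b, hb⟩ := Triangle.coyoneda_exact₁ _ hT (a⟦(1 : ℤ)⟧') h1
  let e : ((singleFunctor A m).obj G)⟦(1 : ℤ)⟧ ≅ (singleFunctor A (m - 1)).obj G :=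
    ((singleFunctors A).shiftIso 1 (m - 1) m (by omega)).app G
  obtain ⟨c', hc'⟩ := exists_comp_oneSub P hiso hzero hG K hK (m - 1) (e.inv ≫ b)
  have hb' : b = e.hom ≫ c' ≫ oneSub K := by rw [hc', Iso.hom_inv_id_assoc]
  have hz : oneSub K ≫ h = 0 := comp_distTriang_mor_zero₂₃ _ hT
  apply (shiftFunctor (DerivedCategory A) (1 : ℤ)).map_injective
  rw [Functor.map_zero]
  refine hb.trans ?_
  rw [hb']
  show (e.hom ≫ c' ≫ oneSub K) ≫ h = 0
  rw [Category.assoc, Category.assoc, hz, comp_zero, comp_zero]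

/-- A generating family of test objects with local lifts of cohomology classes. -/
structure Tests where
  /-- The test objects. -/
  mem : A → Prop
  acyclic : ∀ G, mem G → Acyclic P G
  hom_ext : ∀ {M M' : A} (φ : M ⟶ M'), (∀ G, mem G → ∀ g : G ⟶ M, g ≫ φ = 0) → φ = 0
  lift : ∀ (N : DerivedCategory A) (m : ℤ) (G : A), mem G →
    ∀ g : G ⟶ (homologyFunctor A m).obj N,
    (∀ (G' : A) (_ : mem G') (e : G' ⟶ G), e ≫ g ∈ Set.range (θ G' m (N := N)) → e ≫ g = 0) → g = 0

include hiso hzero hK hT in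
lemma mono_homology_π (T : Tests P) (m : ℤ) (n₀ : ℕ) (hn₀ : -(n₀ : ℤ) ≤ m) :
    Mono ((homologyFunctor A m).map (f ≫ Pi.π (tr K) n₀)) := by
  refine Preadditive.mono_of_cancel_zero _ fun {W} φ hφ => T.hom_ext φ fun G hG g => ?_
  refine T.lift L m G hG _ fun G' hG' e he => ?_
  obtain ⟨a, ha⟩ := he
  haveI : DerivedCategory.IsGE (tr K n₀) (-(n₀ : ℤ)) := inferInstanceAs (t.IsGE _ _)
  have h2 := θ_bijective_of_isGE P hiso hzero (T.acyclic G' hG') (N := tr K n₀) (-(n₀ : ℤ))
    (homP_truncGE P hiso hzero hK _) m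
  have ha0 : a ≫ f ≫ Pi.π (tr K) n₀ = 0 := h2.1 (by
    rw [θ_comp, ha, θ_zero]
    simp only [Category.assoc, hφ, comp_zero])
  rw [← ha, injective_comp_π P hiso hzero (T.acyclic G' hG') K hK f h hT m n₀ hn₀ a ha0, θ_zero]

include hiso hzero hK in
/-- `K` is the derived limit of its truncations. -/
theorem exists_triangle (T : Tests P) :
    ∃ c : ∏ᶜ (tr K) ⟶ K⟦(1 : ℤ)⟧,
      Triangle.mk (Pi.lift fun n : ℕ => (t.truncGEπ (-(n : ℤ))).app K) (oneSub K) c ∈
        distTriang (DerivedCategory A) := by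
  obtain ⟨L, f, h, hT⟩ := distinguished_cocone_triangle₁ (oneSub K)
  let π := Pi.lift fun n : ℕ => (t.truncGEπ (-(n : ℤ))).app K
  have hπ : π ≫ oneSub K = 0 := by
    refine Pi.hom_ext _ _ fun n => ?_
    simp only [π, Category.assoc, Pi.lift_π, Preadditive.comp_sub, zero_comp, Pi.lift_π_assoc]
    rw [π_trMap, sub_self]
  obtain ⟨α, hα⟩ : ∃ α : K ⟶ L, π = α ≫ f := Triangle.coyoneda_exact₂ _ hT π hπ
  haveI : IsIso α := by
    rw [DerivedCategory.isIso_iff]
    intro m
    have hmono := mono_homology_π P hiso hzero K hK f h hT T m (-m).toNat (by omega)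
    have := DTrunc.isIso_homology_truncGEπ K (-((-m).toNat : ℤ)) m (by omega)
    have e : (homologyFunctor A m).map α ≫
        (homologyFunctor A m).map (f ≫ Pi.π (tr K) (-m).toNat) =
        (homologyFunctor A m).map ((t.truncGEπ (-((-m).toNat : ℤ))).app K) := by
      rw [← Functor.map_comp, ← Category.assoc]
      congr 1
      exact (congrArg (· ≫ Pi.π (tr K) (-m).toNat) hα.symm).trans (Pi.lift_π _ _)
    have he : Epi ((homologyFunctor A m).map α ≫
        (homologyFunctor A m).map (f ≫ Pi.π (tr K) (-m).toNat)) := by rw [e]; exact @IsIso.epi_of_iso _ _ _ _ _ this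
    haveI : Epi ((homologyFunctor A m).map (f ≫ Pi.π (tr K) (-m).toNat)) :=
      @epi_of_epi _ _ _ _ _ _ _ he
    haveI : Mono ((homologyFunctor A m).map (f ≫ Pi.π (tr K) (-m).toNat)) := hmono
    haveI := isIso_of_mono_of_epi ((homologyFunctor A m).map (f ≫ Pi.π (tr K) (-m).toNat))
    exact IsIso.of_isIso_fac_right e
  haveI hα' : IsIso α := by assumption
  refine ⟨h ≫ (@inv _ _ _ _ α hα')⟦(1 : ℤ)⟧', isomorphic_distinguished _ hT _
    (Triangle.isoMk _ _ (@asIso _ _ _ _ α hα') (Iso.refl _) (Iso.refl _) ?_ ?_ ?_)⟩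
  · exact (Category.comp_id _).trans hα
  · exact (Category.comp_id _).trans (Category.id_comp _).symm
  · show (h ≫ (inv α)⟦(1 : ℤ)⟧') ≫ α⟦(1 : ℤ)⟧' = 𝟙 _ ≫ h
    rw [Category.assoc, ← Functor.map_comp, IsIso.inv_hom_id, CategoryTheory.Functor.map_id, Category.comp_id,
      Category.id_comp]

include hiso hzero hG hK in
/-- Maps `G[-m] ⟶ K` are maps `G ⟶ H^m K`. -/
theorem θ_bijective (T : Tests P) (m : ℤ) : Function.Bijective (θ G m (N := K)) := by
  obtain ⟨c, hT⟩ := exists_triangle P hiso hzero K hK T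
  let n₀ := (-m).toNat
  let p := (t.truncGEπ (-(n₀ : ℤ))).app K
  haveI : DerivedCategory.IsGE (tr K n₀) (-(n₀ : ℤ)) := inferInstanceAs (t.IsGE _ _)
  have h2 := θ_bijective_of_isGE P hiso hzero hG (N := tr K n₀) (-(n₀ : ℤ))
    (homP_truncGE P hiso hzero hK _) m
  have := DTrunc.isIso_homology_truncGEπ K (-(n₀ : ℤ)) m (by omega)
  have hinj : ∀ a : (singleFunctor A m).obj G ⟶ K, θ G m a = 0 → a = 0 := fun a ha => by
    refine injective_comp_π P hiso hzero hG K hK _ c hT m n₀ (by omega) a ?_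
    rw [Pi.lift_π]
    exact h2.1 (by rw [θ_comp, ha, zero_comp, θ_zero])
  refine ⟨fun a b hab => sub_eq_zero.1 (hinj _ (by rw [θ_sub, hab, sub_self])), fun g => ?_⟩
  obtain ⟨b, hb⟩ := h2.2 (g ≫ (homologyFunctor A m).map p)
  have hsurj : ∀ n, (-m).toNat ≤ n →
      Function.Surjective (trHom K ((singleFunctor A m).obj G) n) := fun n hn =>
    (bijective_trHom P hiso hzero hG K hK m n (by omega)).2
  obtain ⟨x, hx0, hx⟩ := exists_tower_lift (M := fun n => (singleFunctor A m).obj G ⟶ tr K n)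
    (trHom K ((singleFunctor A m).obj G)) n₀ hsurj b
  have hcomp : Pi.lift x ≫ oneSub K = 0 := Pi.hom_ext _ _ fun n => by
    rw [Category.assoc, Pi.lift_π, Preadditive.comp_sub, Pi.lift_π, Pi.lift_π_assoc, zero_comp,
      sub_eq_zero]
    exact hx n
  obtain ⟨a, ha⟩ := Triangle.coyoneda_exact₂ _ hT (Pi.lift x) hcomp
  refine ⟨a, (cancel_mono ((homologyFunctor A m).map p)).1 ?_⟩
  rw [← θ_comp, ← hb, ← hx0]
  congr 1
  refine Eq.trans ?_ ((congrArg (· ≫ Pi.π (tr K) n₀) ha).symm.trans (Pi.lift_π _ _))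
  exact (congrArg (a ≫ ·) (Pi.lift_π (fun n : ℕ => (t.truncGEπ (-(n : ℤ))).app K) n₀)).symm.trans
    (Category.assoc _ _ _).symm

end Limit

end Groth.Agent.H16Derived.QCohD
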