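import Groth.Prelude.Def_PerfAux
import Groth.Agent.H16Derived.TriangleCriterion
import Mathlib.CategoryTheory.Triangulated.Yoneda
import Mathlib.CategoryTheory.Preadditive.AdditiveFunctor
import Mathlib.Tactic.Abel

/-!
# Objects which are compact relative to a class of objects

`FinSupp P K`: maps from `K` into a direct sum of objects in `P` have finite support.
-/

set_option autoImplicit false
set_option linter.style.haveILetI false

universe w v u v' u'

open CategoryTheory CategoryTheory.Limits CategoryTheory.Pretriangulated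

namespace Groth.Agent.H16Derived.QCohD.FinSupp

variable {D : Type u} [Category.{v} D] [Preadditive D]

open Classical in
/-- The projection from a coproduct to a component. -/
noncomputable def proj {κ : Type w} (X : κ → D) [HasCoproduct X] (i : κ) : (∐ X) ⟶ X i :=
  Sigma.desc fun k => if h : k = i then eqToHom (congrArg X h) else 0

/-- The projection onto a finite partial sum. -/
noncomputable def idem {κ : Type w} (X : κ → D) [HasCoproduct X] (s : Finset κ) : (∐ X) ⟶ ∐ X :=
  ∑ i ∈ s, proj X i ≫ Sigma.ι X i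

open Classical in
lemma ι_idem {κ : Type w} (X : κ → D) [HasCoproduct X] (s : Finset κ) (k : κ) :
    Sigma.ι X k ≫ idem X s = if k ∈ s then Sigma.ι X k else 0 := by
  rw [idem, Preadditive.comp_sum]
  by_cases hk : k ∈ s
  · rw [if_pos hk, Finset.sum_eq_single k]
    · simp [proj]
    · intro b _ hb
      simp [proj, Ne.symm hb]
    · exact fun h => (h hk).elim
  · rw [if_neg hk]
    refine Finset.sum_eq_zero fun b hb => ?_
    simp [proj, show k ≠ b from fun h => hk (h ▸ hb)]

lemma idem_comp_of_subset {κ : Type w} (X : κ → D) [HasCoproduct X] {s t : Finset κ} (h : s ⊆ t) :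
    idem X s ≫ idem X t = idem X s := by
  classical
  refine Sigma.hom_ext _ _ fun k => ?_
  rw [← Category.assoc, ι_idem]
  by_cases hs : k ∈ s
  · rw [if_pos hs, ι_idem, if_pos (h hs)]
  · rw [if_neg hs, zero_comp]

lemma mono_support {κ : Type w} (X : κ → D) [HasCoproduct X] {K : D} {α : K ⟶ ∐ X} {s t : Finset κ}
    (h : s ⊆ t) (hs : α ≫ idem X s = α) : α ≫ idem X t = α := by
  conv_lhs => rw [← hs, Category.assoc, idem_comp_of_subset X h]
  exact hs

/-- Maps from `K` into direct sums of objects in `P` have finite support. -/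
def Holds (P : D → Prop) (K : D) : Prop :=
  ∀ (κ : Type w) (X : κ → D) [HasCoproduct X], (∀ i, P (X i)) →
    ∀ α : K ⟶ ∐ X, ∃ s : Finset κ, α ≫ idem X s = α

variable {P : D → Prop}

lemma sum_comp_proj {κ : Type w} (X : κ → D) [HasCoproduct X] {K : D}
    (b : DirectSum κ (fun i => K ⟶ X i)) (i : κ) :
    PerfAux.homSumToHomCoprod K X b ≫ proj X i = b i := by
  classical
  let l : DirectSum κ (fun i => K ⟶ X i) →+ (K ⟶ X i) :=
    (Preadditive.rightComp K (proj X i)).comp (PerfAux.homSumToHomCoprod K X)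
  let r : DirectSum κ (fun i => K ⟶ X i) →+ (K ⟶ X i) :=
    AddMonoidHom.mk' (fun c => c i) fun _ _ => rfl
  suffices l = r from DFunLike.congr_fun this b
  refine DirectSum.addHom_ext' fun k => ?_
  ext x
  simp only [l, r, AddMonoidHom.comp_apply, AddMonoidHom.mk'_apply,
    PerfAux.homSumToHomCoprod, DirectSum.toAddMonoid_of]
  change (x ≫ Sigma.ι X k) ≫ proj X i = DirectSum.of (fun j => K ⟶ X j) k x i
  by_cases h : k = i
  · subst h
    rw [DirectSum.of_eq_same]
    simp [proj]
  · rw [DirectSum.of_eq_of_ne _ _ _ (Ne.symm h)]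
    simp [proj, h]

/-- Finite support is relative compactness. -/
theorem isCompactObjRel_iff (K : D) :
    PerfAux.IsCompactObjRel.{w} P K ↔ Holds.{w} P K := by
  classical
  constructor
  · intro h κ X _ hX α
    obtain ⟨b, rfl⟩ := (h κ X hX).2 α
    refine ⟨DFinsupp.support b, ?_⟩
    conv_rhs => rw [← DirectSum.sum_support_of b]
    rw [idem, Preadditive.comp_sum, map_sum]
    refine Finset.sum_congr rfl fun i _ => ?_
    rw [← Category.assoc, sum_comp_proj]
    simp [PerfAux.homSumToHomCoprod, DirectSum.toAddMonoid_of, Preadditive.rightComp]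
  · intro h κ X _ hX
    refine ⟨fun b b' hb => ?_, fun α => ?_⟩
    · ext i
      rw [← sum_comp_proj, hb, sum_comp_proj]
    · obtain ⟨s, hs⟩ := h κ X hX α
      refine ⟨∑ i ∈ s, DirectSum.of (fun i => K ⟶ X i) i (α ≫ proj X i), ?_⟩
      rw [map_sum]
      conv_rhs => rw [← hs, idem, Preadditive.comp_sum]
      refine Finset.sum_congr rfl fun i _ => ?_
      simp [PerfAux.homSumToHomCoprod, DirectSum.toAddMonoid_of, Preadditive.rightComp]

lemma of_iso {K K' : D} (e : K ≅ K') (h : Holds.{w} P K) : Holds.{w} P K' := by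
  intro κ X _ hX α
  obtain ⟨s, hs⟩ := h κ X hX (e.hom ≫ α)
  refine ⟨s, ?_⟩
  rw [← cancel_epi e.hom, ← Category.assoc, hs]

lemma of_retract {K K' : D} (r : Retract K K') (h : Holds.{w} P K') : Holds.{w} P K := by
  intro κ X _ hX α
  obtain ⟨s, hs⟩ := h κ X hX (r.r ≫ α)
  refine ⟨s, ?_⟩
  rw [Category.assoc] at hs
  rw [← r.retract_assoc (α ≫ idem X s), hs, r.retract_assoc]

/-- Two summands. -/
lemma of_two {K A B : D} (i : A ⟶ K) (j : B ⟶ K) (p : K ⟶ A) (q : K ⟶ B)
    (h : p ≫ i + q ≫ j = 𝟙 K) (hA : Holds.{w} P A) (hB : Holds.{w} P B) : Holds.{w} P K := by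
  classical
  intro κ X _ hX α
  obtain ⟨s, hs⟩ := hA κ X hX (i ≫ α)
  obtain ⟨t, ht⟩ := hB κ X hX (j ≫ α)
  refine ⟨s ∪ t, ?_⟩
  have h1 := mono_support X (Finset.subset_union_left (s₂ := t)) hs
  have h2 := mono_support X (Finset.subset_union_right (s₁ := s)) ht
  rw [Category.assoc] at h1 h2
  conv_lhs => rw [← Category.id_comp α, ← h]
  conv_rhs => rw [← Category.id_comp α, ← h]
  simp only [Preadditive.add_comp, Category.assoc, h1, h2]

section Triangulated

variable [HasZeroObject D] [HasShift D ℤ] [∀ n : ℤ, (shiftFunctor D n).Additive] [Pretriangulated D]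

lemma ext₂ {T : Triangle D} (hT : T ∈ distTriang D) (h₁ : Holds.{w} P T.obj₁)
    (h₃ : Holds.{w} P T.obj₃) : Holds.{w} P T.obj₂ := by
  classical
  intro κ X _ hX α
  obtain ⟨s, hs⟩ := h₁ κ X hX (T.mor₁ ≫ α)
  obtain ⟨γ, hγ⟩ := Triangle.yoneda_exact₂ T hT (α ≫ (𝟙 _ - idem X s)) (by
    rw [Preadditive.comp_sub, Category.comp_id, Preadditive.comp_sub, ← Category.assoc T.mor₁ α,
      hs, sub_self])
  obtain ⟨t, ht⟩ := h₃ κ X hX γ
  refine ⟨s ∪ t, ?_⟩
  have ht' := mono_support X (Finset.subset_union_right (s₁ := s)) ht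
  have hs' : idem X s ≫ idem X (s ∪ t) = idem X s := idem_comp_of_subset X Finset.subset_union_left
  have : α = T.mor₂ ≫ γ + α ≫ idem X s := by
    rw [← hγ, Preadditive.comp_sub, Category.comp_id]; abel
  conv_lhs => rw [this]
  conv_rhs => rw [this]
  rw [Preadditive.add_comp, Category.assoc, ht', Category.assoc, hs']

end Triangulated

section Functor

variable {E : Type u'} [Category.{v'} E] [Preadditive E] (F : D ⥤ E) [F.Additive]
  {κ : Type w} (X : κ → D) [HasCoproduct X] [HasCoproduct fun i => F.obj (X i)]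

/-- Finite partial sums under a functor. -/
lemma sigmaComparison_idem (s : Finset κ) :
    idem (fun i => F.obj (X i)) s ≫ sigmaComparison F X = sigmaComparison F X ≫ F.map (idem X s) := by
  classical
  refine Sigma.hom_ext _ _ fun k => ?_
  rw [← Category.assoc, ι_idem, ι_comp_sigmaComparison_assoc, ← Functor.map_comp, ι_idem]
  by_cases hk : k ∈ s <;> simp [hk]

end Functor

end Groth.Agent.H16Derived.QCohD.FinSupp
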