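import Groth.Agent.H16Derived.QCohD.AffineReflect
import Groth.Agent.H16Derived.AcyclicLES
import Groth.Agent.H16Derived.Stupid
import Mathlib.Algebra.Homology.Factorizations.CM5a

/-!
# Complexes of quasi-coherent modules acyclic for a direct image
-/

set_option autoImplicit false
set_option linter.style.haveILetI false

universe u

open CategoryTheory CategoryTheory.Limits AlgebraicGeometry Opposite TopologicalSpace
  CategoryTheory.Pretriangulated

attribute [local instance] HasDerivedCategory.standard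

namespace Groth.Agent.H16Derived.QCohD.AffineUnit

open Groth.Agent.H10Coh Groth.Agent.H16Derived.KFlat Groth.Agent.H16Derived.KFlat.Stalk
  Groth.Agent.H16Derived.QCohD

variable {X S : Scheme.{u}} (f : X ⟶ S)

theorem hasInjectiveResolutions_rpush [DCoh.HasRpush f] [HasInjectiveResolutions X.Modules] (C : CochainComplex X.Modules ℤ)
    (a : ℤ) [C.IsStrictlyGE a] (hac : ∀ (n : ℤ) (i : ℕ), 0 < i → IsZero ((Coh.Rpush f i).obj (C.X n))) :
    IsIso ((rpushUnit f).app ((HomotopyCategory.quotient _ _).obj C)) := by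
  haveI := KFlat.Stalk.isGrothendieckAbelian_modules (X := X)
  obtain ⟨L, r, hr, hL, hLa⟩ := CochainComplex.Plus.modelCategoryQuillen.exists_quasiIso_injective C a
  haveI := hr
  haveI := hLa
  haveI := hL
  haveI : L.IsKInjective := CochainComplex.isKInjective_of_injective L a
  let qX := HomotopyCategory.quotient X.Modules (ComplexShape.up ℤ)
  let u := rpushUnit f
  haveI : IsIso (u.app (qX.obj L)) := isIso_rpushUnit f L
  haveI : IsIso ((DerivedCategory.Qh (C := X.Modules)).map (qX.map r)) :=
    Localization.inverts DerivedCategory.Qh (HomotopyCategory.quasiIso X.Modules (ComplexShape.up ℤ)) _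
      ((HomotopyCategory.quotient_map_mem_quasiIso_iff _).2 hr)
  haveI : IsIso ((DCoh.pushKh f).map (qX.map r)) :=
    Localization.inverts DerivedCategory.Qh (HomotopyCategory.quasiIso S.Modules (ComplexShape.up ℤ)) _
      ((HomotopyCategory.quotient_map_mem_quasiIso_iff _).2
        (AcyclicLES.quasiIso_map (Scheme.Modules.pushforward f) r a hac
          fun i => AcyclicLES.isAcyclic_of_injective _ _))
  haveI : IsIso ((DerivedCategory.Qh ⋙ DCoh.Rpush f).map (qX.map r)) :=
    Functor.map_isIso (DCoh.Rpush f) (DerivedCategory.Qh.map (qX.map r))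
  haveI : IsIso (u.app (qX.obj C) ≫ (DerivedCategory.Qh ⋙ DCoh.Rpush f).map (qX.map r)) := by
    rw [← u.naturality]
    infer_instance
  exact IsIso.of_isIso_comp_right _ ((DerivedCategory.Qh ⋙ DCoh.Rpush f).map (qX.map r))

theorem isQCoh_sigma (F : CochainComplex X.Modules ℤ) (hF : ∀ n, Coh.IsQCoh (F.X n)) (a n : ℤ) :
    Coh.IsQCoh ((Stupid.σ F a).X n) := by
  by_cases h : a ≤ n
  · haveI := Stupid.isIso_ι_f F a n h
    exact isQCoh_iso (asIso ((Stupid.ι F a).f n)).symm (hF n)
  · exact isQCoh_isZero _ (Stupid.isZero_X F a n (not_le.1 h))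

theorem acyclic_sigma [HasInjectiveResolutions X.Modules] (F : CochainComplex X.Modules ℤ)
    (hac : ∀ (n : ℤ) (i : ℕ), 0 < i → IsZero ((Coh.Rpush f i).obj (F.X n))) (a n : ℤ) (i : ℕ) (hi : 0 < i) :
    IsZero ((Coh.Rpush f i).obj ((Stupid.σ F a).X n)) := by
  by_cases h : a ≤ n
  · haveI := Stupid.isIso_ι_f F a n h
    exact (hac n i hi).of_iso ((Coh.Rpush f i).mapIso (asIso ((Stupid.ι F a).f n)))
  · haveI := (Stupid.isZero_X F a n (not_le.1 h)).injective
    exact AcyclicLES.isAcyclic_of_injective (Scheme.Modules.pushforward f) _ i hi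

theorem quasiIsoAt_of_isIso_f {A : Type*} [Category A] [Abelian A] {K L : CochainComplex A ℤ} (φ : K ⟶ L)
    (m : ℤ) (h₀ : IsIso (φ.f (m - 1))) (h₁ : IsIso (φ.f m)) (h₂ : IsIso (φ.f (m + 1))) : QuasiIsoAt φ m := by
  rw [quasiIsoAt_iff' φ (m - 1) m (m + 1) (by simp) (by simp)]
  let ψ := (HomologicalComplex.shortComplexFunctor' A (ComplexShape.up ℤ) (m - 1) m (m + 1)).map φ
  haveI : IsIso ψ.τ₁ := h₀
  haveI : IsIso ψ.τ₂ := h₁
  haveI : IsIso ψ.τ₃ := h₂
  haveI : Epi ψ.τ₁ := inferInstance
  haveI : Mono ψ.τ₃ := inferInstance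
  exact ShortComplex.quasiIso_of_epi_of_isIso_of_mono ψ

variable [QuasiCompact f] [QuasiSeparated f] [HasInjectiveResolutions X.Modules] [DCoh.HasRpush f]

theorem isIso_rpushUnit_acyclic (F : CochainComplex X.Modules ℤ) (hq : ∀ n : ℤ, Coh.IsQCoh (F.X n))
    (hac : ∀ (n : ℤ) (i : ℕ), 0 < i → IsZero ((Coh.Rpush f i).obj (F.X n))) :
    IsIso ((rpushUnit f).app ((HomotopyCategory.quotient _ _).obj F)) := by
  letI := rpushCommShift f
  haveI := rpush_isTriangulated f
  rw [DerivedCategory.isIso_iff]
  intro m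
  refine isIso_of_stalk _ fun y => ?_
  obtain ⟨V, hV, hyV, -⟩ := exists_isAffineOpen_mem_and_subset (U := (⊤ : S.Opens)) (x := y) trivial
  haveI : IsAffine (V : Scheme.{u}) := hV
  let R := Scheme.Modules.restrictFunctor V.ι
  let H := DerivedCategory.homologyFunctor S.Modules m
  let qX := HomotopyCategory.quotient X.Modules (ComplexShape.up ℤ)
  let u := rpushUnit f
  suffices h : IsIso (R.map (H.map (u.app (qX.obj F)))) by
    haveI := h
    exact MV.isIso_stalk_of_restrict V _ y hyV
  haveI := KFlat.GammaAcyclic.hasRpush (f ∣_ V)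
  obtain ⟨N, hN⟩ := exists_bound (f ∣_ V)
  let a : ℤ := m - N - 2
  let σ := Stupid.σ F a
  let ι := Stupid.ι F a
  haveI : σ.IsStrictlyGE a := (CochainComplex.isStrictlyGE_iff _ _).2 fun p hp => Stupid.isZero_X F a p hp
  haveI : IsIso (u.app (qX.obj σ)) := hasInjectiveResolutions_rpush f σ a (acyclic_sigma f F hac a)
  -- the left hand map
  haveI h1 : IsIso (H.map ((DCoh.pushKh f).map (qX.map ι))) := by
    let φ := ((Scheme.Modules.pushforward f).mapHomologicalComplex (ComplexShape.up ℤ)).map ι
    haveI : QuasiIsoAt φ m := by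
      refine quasiIsoAt_of_isIso_f φ m ?_ ?_ ?_
      all_goals
        show IsIso ((Scheme.Modules.pushforward f).map (ι.f _))
        haveI := Stupid.isIso_ι_f F a
        first
          | (haveI := Stupid.isIso_ι_f F a (m - 1) (by omega); infer_instance)
          | (haveI := Stupid.isIso_ι_f F a m (by omega); infer_instance)
          | (haveI := Stupid.isIso_ι_f F a (m + 1) (by omega); infer_instance)
    haveI : IsIso (HomologicalComplex.homologyMap φ m) := (quasiIsoAt_iff_isIso_homologyMap φ m).1 inferInstance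
    exact (NatIso.isIso_map_iff (Functor.isoWhiskerRight (DerivedCategory.quotientCompQhIso S.Modules) H ≪≫
      DerivedCategory.homologyFunctorFactors S.Modules m) φ).2 this
  -- the right hand map
  obtain ⟨Z, b, c, hT⟩ := distinguished_cocone_triangle (DerivedCategory.Qh.map (qX.map ι))
  have hQ : ∀ (C : CochainComplex X.Modules ℤ), (∀ n, Coh.IsQCoh (C.X n)) →
      DCoh.IsQCohD (DerivedCategory.Qh.obj (qX.obj C)) := fun C hC i =>
    isQCoh_iso ((DerivedCategory.homologyFunctor _ i).mapIso ((DerivedCategory.quotientCompQhIso _).app C).symm)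
      (isQCohD_Q C hC i)
  have hZq : DCoh.IsQCohD Z := isQCohD_obj₃ hT (hQ σ (isQCoh_sigma F hq a)) (hQ F hq)
  haveI : DerivedCategory.IsLE Z a := by
    rw [DerivedCategory.isLE_iff]
    intro i hi
    have hmap : ∀ j : ℤ, a < j → IsIso ((DerivedCategory.homologyFunctor X.Modules j).map
        (DerivedCategory.Qh.map (qX.map ι))) := fun j hj => by
      haveI := quasiIsoAt_of_isIso_f ι j (Stupid.isIso_ι_f F a (j - 1) (by omega))
        (Stupid.isIso_ι_f F a j (by omega)) (Stupid.isIso_ι_f F a (j + 1) (by omega))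
      haveI : IsIso (HomologicalComplex.homologyMap ι j) := (quasiIsoAt_iff_isIso_homologyMap ι j).1 inferInstance
      exact (NatIso.isIso_map_iff (Functor.isoWhiskerRight (DerivedCategory.quotientCompQhIso X.Modules)
        (DerivedCategory.homologyFunctor X.Modules j) ≪≫
        DerivedCategory.homologyFunctorFactors X.Modules j) ι).2 this
    haveI := hmap i hi
    haveI := hmap (i + 1) (by omega)
    exact (DerivedCategory.HomologySequence.exact₃ _ hT i (i + 1) rfl).isZero_X₂
      ((cancel_epi ((DerivedCategory.homologyFunctor X.Modules i).map (DerivedCategory.Qh.map (qX.map ι)))).1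
        ((((DerivedCategory.homologyFunctor X.Modules i).map_comp _ _).symm.trans
          ((congrArg _ (comp_distTriang_mor_zero₁₂ _ hT)).trans (Functor.map_zero _ _ _))).trans comp_zero.symm))
      (by
        have hd := DerivedCategory.HomologySequence.δ_comp _ hT i (i + 1) rfl
        exact (Category.comp_id _).symm.trans ((congrArg (DerivedCategory.HomologySequence.δ _ i (i + 1) rfl ≫ ·)
          (IsIso.hom_inv_id ((DerivedCategory.homologyFunctor X.Modules (i + 1)).map
            (DerivedCategory.Qh.map (qX.map ι)))).symm).trans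
          ((Category.assoc _ _ _).symm.trans ((congrArg (· ≫ _) hd).trans zero_comp))))
  obtain ⟨e⟩ := nonempty_restrictD_rpush_iso f V
  have hzero : ∀ j : ℤ, a + N ≤ j → IsZero (R.obj (DCoh.HD ((DCoh.Rpush f).obj Z) j)) := by
    intro j hj
    haveI : DerivedCategory.IsLE ((DCoh.restrictD (f ⁻¹ᵁ V).ι).obj Z) a := isLE_rd (f ⁻¹ᵁ V).ι Z a
    have hq' : DCoh.IsQCohD ((DCoh.restrictD (f ⁻¹ᵁ V).ι).obj Z) := fun i => by
      haveI : (DCoh.HD Z i).IsQuasicoherent := hZq i
      exact isQCoh_iso (homologyRdIso (f ⁻¹ᵁ V).ι Z i).symm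
        (Scheme.Modules.isQuasicoherent_restrictFunctor (f ⁻¹ᵁ V).ι (DCoh.HD Z i))
    exact (isZero_rpush_of_isLE (f ∣_ V) hN _ hq' a j hj).of_iso
      ((homologyRdIso V.ι ((DCoh.Rpush f).obj Z) j).symm ≪≫
        (DerivedCategory.homologyFunctor _ j).mapIso (e.app Z))
  have hT' := (DCoh.Rpush f).map_distinguished _ hT
  haveI h2 : IsIso (R.map (H.map ((DCoh.Rpush f).map (DerivedCategory.Qh.map (qX.map ι))))) := by
    have e₁ := (DerivedCategory.HomologySequence.exact₁ _ hT' (m - 1) m (by omega)).map R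
    have e₂ := (DerivedCategory.HomologySequence.exact₂ _ hT' m).map R
    haveI : Mono (R.map (H.map ((DCoh.Rpush f).map (DerivedCategory.Qh.map (qX.map ι))))) :=
      e₁.mono_g ((hzero (m - 1) (by omega)).eq_of_src _ _)
    haveI : Epi (R.map (H.map ((DCoh.Rpush f).map (DerivedCategory.Qh.map (qX.map ι))))) :=
      e₂.epi_f ((hzero m (by omega)).eq_of_tgt _ _)
    exact isIso_of_mono_of_epi _
  haveI : IsIso (R.map (H.map ((DCoh.pushKh f).map (qX.map ι))) ≫ R.map (H.map (u.app (qX.obj F)))) := by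
    rw [← R.map_comp, ← H.map_comp, u.naturality, H.map_comp, R.map_comp]
    haveI : IsIso (R.map (H.map ((DerivedCategory.Qh ⋙ DCoh.Rpush f).map (qX.map ι)))) := h2
    infer_instance
  exact IsIso.of_isIso_comp_left (R.map (H.map ((DCoh.pushKh f).map (qX.map ι)))) _

end Groth.Agent.H16Derived.QCohD.AffineUnit
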