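import Groth.Agent.H16Derived.QCohD.Equiv
import Groth.Agent.H16Derived.QCohD.Lpull
import Groth.Agent.H15Site.DerivedRetract
import Groth.Agent.H29Fitt.PullbackQCoh
import Groth.Agent.H8Props.FinLocFree.Sheaf
import Groth.Agent.S12451
import Mathlib.Algebra.Category.ModuleCat.Projective

/-!
# Morphisms out of bounded above complexes of finite locally free modules on affine schemes
-/

set_option autoImplicit false
set_option linter.style.haveILetI false

universe u v v' w w'

open CategoryTheory CategoryTheory.Limits AlgebraicGeometry Opposite TopologicalSpace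

attribute [local instance] HasDerivedCategory.standard

namespace Groth.Agent.H16Derived.QCohD.KHom

section General

variable {A : Type w} [Category.{v} A] [Abelian A] {B : Type w'} [Category.{v'} B] [Abelian B]

/-- Homotopy classes of maps agree with maps in the derived category. -/
def QhBij (K L : CochainComplex A ℤ) : Prop :=
  Function.Bijective (fun φ : (HomotopyCategory.quotient A (ComplexShape.up ℤ)).obj K ⟶
      (HomotopyCategory.quotient A (ComplexShape.up ℤ)).obj L =>
    (DerivedCategory.Qh (C := A)).map φ)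

theorem QhBij.of_iso {K K' L L' : CochainComplex A ℤ} (eK : K ≅ K') (eL : L ≅ L')
    (h : QhBij K L) : QhBij K' L' := by
  let q := HomotopyCategory.quotient A (ComplexShape.up ℤ)
  let a := Iso.homCongr (q.mapIso eK) (q.mapIso eL)
  let b := Iso.homCongr ((DerivedCategory.Qh (C := A)).mapIso (q.mapIso eK))
    ((DerivedCategory.Qh (C := A)).mapIso (q.mapIso eL))
  refine (Function.Bijective.of_comp_iff _ a.bijective).1 ?_
  refine Eq.subst (motive := fun f => Function.Bijective f) (funext fun φ => ?_)
    (b.bijective.comp h)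
  simp [a, b, Iso.homCongr, q]

/-- Invariance under exact fully faithful functors inducing fully faithful derived functors. -/
theorem qhBij_map_iff (P : A ⥤ B) [P.Additive] [P.Full] [P.Faithful]
    [PreservesFiniteLimits P] [PreservesFiniteColimits P]
    (hP : ∀ K L : DerivedCategory A,
      Function.Bijective fun g : K ⟶ L => P.mapDerivedCategory.map g)
    (K L : CochainComplex A ℤ) :
    QhBij ((P.mapHomologicalComplex (ComplexShape.up ℤ)).obj K)
      ((P.mapHomologicalComplex (ComplexShape.up ℤ)).obj L) ↔ QhBij K L := by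
  let q := HomotopyCategory.quotient A (ComplexShape.up ℤ)
  let H := P.mapHomotopyCategory (ComplexShape.up ℤ)
  let φ := P.mapDerivedCategoryFactorsh
  let c := Iso.homCongr (φ.app (q.obj K)) (φ.app (q.obj L))
  have hH : Function.Bijective fun g : q.obj K ⟶ q.obj L => H.map g :=
    ⟨fun _ _ h => H.map_injective h, fun g => H.map_surjective g⟩
  have sq : (fun g : H.obj (q.obj K) ⟶ H.obj (q.obj L) => DerivedCategory.Qh.map g) ∘
      (fun g : q.obj K ⟶ q.obj L => H.map g) =
        (⇑c ∘ (fun g => P.mapDerivedCategory.map g)) ∘ fun g => DerivedCategory.Qh.map g := by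
    funext g
    exact (NatIso.naturality_1 φ g).symm
  change Function.Bijective (fun g : H.obj (q.obj K) ⟶ H.obj (q.obj L) =>
    DerivedCategory.Qh.map g) ↔ _
  rw [← Function.Bijective.of_comp_iff _ hH, sq]
  exact Function.Bijective.of_comp_iff' (c.bijective.comp (hP _ _)) _

/-- An exact equivalence is fully faithful on derived categories. -/
theorem bijective_map_of_equivalence (E : A ≌ B) [E.functor.Additive] [E.inverse.Additive]
    (K L : DerivedCategory A) :
    Function.Bijective fun g : K ⟶ L => E.functor.mapDerivedCategory.map g :=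
  Groth.Agent.H15Site.DerivedRetract.bijective_map (R := E.inverse) (H := E.inverse ⋙ E.functor)
    E.counitIso.inv (𝟙 _) E.unitIso.symm (fun _ => inferInstance) (fun _ => inferInstance) K L

end General

section Spec

variable (R : CommRingCat.{u})

theorem qhBij_spec [PreservesFiniteLimits (tilde.functor R)]
    (E F : CochainComplex (Spec R).Modules ℤ) (b : ℤ) (hEb : ∀ i : ℤ, b < i → IsZero (E.X i))
    (hE : ∀ i : ℤ, FlatMod.IsFinLocFree (E.X i)) (hF : ∀ i : ℤ, Coh.IsQCoh (F.X i)) :
    QhBij E F := by
  haveI : PreservesFiniteColimits (tilde.functor R) :=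
    @PreservesColimitsOfSize.preservesFiniteColimits.{0, 0} _ _ _ _ (tilde.functor R)
      ((tilde.adjunction (R := R)).leftAdjoint_preservesColimits)
  have hEq : ∀ i, Coh.IsQCoh (E.X i) := fun i =>
    H8Props.FinLocFree.isQCoh_of_isFinLocFree _ (hE i)
  haveI hiE : ∀ i, IsIso ((counitCx R E).f i) := fun i => by
    haveI : (E.X i).IsQuasicoherent := hEq i
    exact Scheme.Modules.isIso_fromTildeΓ_of_isQuasicoherent (R := R) (E.X i)
  haveI hiF : ∀ i, IsIso ((counitCx R F).f i) := fun i => by
    haveI : (F.X i).IsQuasicoherent := hF i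
    exact Scheme.Modules.isIso_fromTildeΓ_of_isQuasicoherent (R := R) (F.X i)
  haveI := HomologicalComplex.Hom.isIso_of_components (counitCx R E)
  haveI := HomologicalComplex.Hom.isIso_of_components (counitCx R F)
  refine QhBij.of_iso (asIso (counitCx R E)) (asIso (counitCx R F)) ?_
  obtain ⟨hFull, hFaith⟩ := full_faithful R
  refine (qhBij_map_iff (tilde.functor R) (fun _ _ =>
    ⟨fun _ _ h => (DCoh.tildeD R).map_injective h, fun g => (DCoh.tildeD R).map_surjective g⟩)
    (ΓCx R E) (ΓCx R F)).2 ?_
  haveI : ∀ i, Projective ((ΓCx R E).X i) := fun i => by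
    have h := KFlat.Stalk.isFinLocFree_of_iso (asIso ((counitCx R E).f i)).symm (hE i)
    haveI := ((S12451.result ((ΓCx R E).X i)).1 h).2
    exact (IsProjective.iff_projective (R := R) ((ΓCx R E).X i)).1 ‹_›
  haveI : (ΓCx R E).IsStrictlyLE b := (CochainComplex.isStrictlyLE_iff _ _).2 fun i hi =>
    Functor.map_isZero ((moduleSpecΓFunctor : (Spec R).Modules ⥤ _)) (hEb i hi)
  haveI := CochainComplex.isKProjective_of_projective (ΓCx R E) b
  exact CochainComplex.IsKProjective.Qh_map_bijective _ _

end Spec

/-- An iso of schemes induces an exact equivalence of modules. -/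
theorem qhBij_affine {X : Scheme.{u}} [IsAffine X]
    (E F : CochainComplex X.Modules ℤ) (b : ℤ) (hEb : ∀ i : ℤ, b < i → IsZero (E.X i))
    (hE : ∀ i : ℤ, FlatMod.IsFinLocFree (E.X i)) (hF : ∀ i : ℤ, Coh.IsQCoh (F.X i)) :
    QhBij E F := by
  let e : Spec (Γ(X, ⊤)) ≅ X := X.isoSpec.symm
  let adj := Scheme.Modules.pullbackPushforwardAdjunction e.hom
  haveI : (Scheme.Modules.pushforward e.hom).IsEquivalence :=
    (CategoryTheory.Equivalence.mk (Scheme.Modules.pushforward e.inv)
      (Scheme.Modules.pushforward e.hom)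
      ((Scheme.Modules.pushforwardId X).symm ≪≫
        Scheme.Modules.pushforwardCongr e.inv_hom_id.symm ≪≫
        (Scheme.Modules.pushforwardComp e.inv e.hom).symm)
      (Scheme.Modules.pushforwardComp e.hom e.inv ≪≫
        Scheme.Modules.pushforwardCongr e.hom_inv_id ≪≫
        Scheme.Modules.pushforwardId _)).isEquivalence_inverse
  haveI : (Scheme.Modules.pullback e.hom).IsEquivalence :=
    adj.isEquivalence_left_of_isEquivalence_right
  let G := Scheme.Modules.pullback e.hom
  haveI : G.asEquivalence.functor.Additive := inferInstanceAs G.Additive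
  haveI : G.asEquivalence.inverse.Additive := inferInstance
  refine (qhBij_map_iff G (bijective_map_of_equivalence G.asEquivalence) E F).1 ?_
  haveI := H10Coh.tilde_preservesFiniteLimits (R := Γ(X, ⊤))
  exact qhBij_spec _ _ _ b (fun i hi => Functor.map_isZero G (hEb i hi))
    (fun i => KFlat.Stalk.isFinLocFree_pullback e.hom (hE i))
    (fun i => H29Fitt.isQCoh_pullback e.hom _ (hF i))

end Groth.Agent.H16Derived.QCohD.KHom

namespace Groth.Agent.H16Derived.QCohD.KHom

/-- Maps killed by a quasi-isomorphism are null homotopic. -/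
theorem nullHomotopic_of_comp {X : Scheme.{u}} [IsAffine X]
    (E F G : CochainComplex X.Modules ℤ) (b : ℤ) (hEb : ∀ i : ℤ, b < i → IsZero (E.X i))
    (hE : ∀ i : ℤ, FlatMod.IsFinLocFree (E.X i)) (hF : ∀ i : ℤ, Coh.IsQCoh (F.X i))
    (f : E ⟶ F) (g : F ⟶ G) [QuasiIso g] (hgf : Nonempty (Homotopy (f ≫ g) 0)) :
    Nonempty (Homotopy f 0) := by
  obtain ⟨h⟩ := hgf
  let q := HomotopyCategory.quotient X.Modules (ComplexShape.up ℤ)
  haveI : IsIso ((DerivedCategory.Qh (C := X.Modules)).map (q.map g)) := by
    exact (NatIso.isIso_map_iff (DerivedCategory.quotientCompQhIso X.Modules) g).2 inferInstance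
  refine ⟨HomotopyCategory.homotopyOfEq _ _ ((qhBij_affine E F b hEb hE hF).injective ?_)⟩
  show (DerivedCategory.Qh (C := X.Modules)).map (q.map f) =
    (DerivedCategory.Qh (C := X.Modules)).map (q.map 0)
  rw [← cancel_mono ((DerivedCategory.Qh (C := X.Modules)).map (q.map g)), ← Functor.map_comp,
    ← Functor.map_comp, ← Functor.map_comp, ← Functor.map_comp, zero_comp,
    HomotopyCategory.eq_of_homotopy _ _ h]

open scoped ZeroObject in
theorem acyclic_iff {X : Scheme.{u}} [IsAffine X]
    (E : CochainComplex X.Modules ℤ) (b : ℤ) (hEb : ∀ i : ℤ, b < i → IsZero (E.X i))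
    (hE : ∀ i : ℤ, FlatMod.IsFinLocFree (E.X i)) :
    E.Acyclic ↔ Nonempty (Homotopy (𝟙 E) 0) := by
  constructor
  · intro hac
    haveI : QuasiIso (0 : E ⟶ (0 : CochainComplex X.Modules ℤ)) := ⟨fun i => by
      have h0 : IsZero ((0 : CochainComplex X.Modules ℤ).homology i) :=
        Functor.map_isZero (HomologicalComplex.homologyFunctor X.Modules (ComplexShape.up ℤ) i)
          (isZero_zero (CochainComplex X.Modules ℤ))
      rw [quasiIsoAt_iff_isIso_homologyMap]
      exact ⟨0, ((HomologicalComplex.exactAt_iff_isZero_homology _ _).1 (hac i)).eq_of_src _ _,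
        h0.eq_of_src _ _⟩⟩
    refine nullHomotopic_of_comp E E (0 : CochainComplex X.Modules ℤ) b hEb hE
      (fun i => H8Props.FinLocFree.isQCoh_of_isFinLocFree _ (hE i)) (𝟙 E) 0 ?_
    exact ⟨Homotopy.ofEq (by simp)⟩
  · rintro ⟨h⟩ i
    rw [HomologicalComplex.exactAt_iff_isZero_homology, IsZero.iff_id_eq_zero]
    have := h.homologyMap_eq i
    rw [HomologicalComplex.homologyMap_id, HomologicalComplex.homologyMap_zero] at this
    exact this

end Groth.Agent.H16Derived.QCohD.KHom
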